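import Cfsg.Agent.GL2Rep.SLValues
import Cfsg.Prelude.Def_DegreeGraph

/-!
Characters of SL(2, F) trivial on the centre, and the degrees of quotients of SL(2, F) by central subgroups.
-/

set_option autoImplicit false

namespace Cfsg.Agent.GL2Rep

open Cfsg Cfsg.Agent.Char
open scoped ComplexConjugate

universe u

/-- An irreducible character at a central involution is plus or minus its degree. -/
theorem central_involution {G : Type u} [Group G] [Finite G] {χ : G → ℂ} (hχ : IsIrrCharacter G χ) {z : G}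
    (hz : z ∈ Subgroup.center G) (hz2 : z * z = 1) : χ z = χ 1 ∨ χ z = -χ 1 := by
  classical
  have := Fintype.ofFinite G
  obtain ⟨n, ρ, hρ, rfl⟩ := hχ
  obtain ⟨c, hc, hc'⟩ := sum_smul_rep_eq_scalar ρ hρ (f := fun g => if g = z then 1 else 0) (fun g k => by
    have : k * g * k⁻¹ = z ↔ g = z := by
      constructor
      · intro h
        have hk := Subgroup.mem_center_iff.1 hz k
        calc g = k⁻¹ * (k * g * k⁻¹) * k := by group
          _ = k⁻¹ * (k * z) := by rw [h, hk, mul_assoc]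
          _ = z := inv_mul_cancel_left k z
      · rintro rfl
        rw [Subgroup.mem_center_iff.1 hz k, mul_inv_cancel_right]
    simp only [this])
  simp only [ite_smul, one_smul, zero_smul, Finset.sum_ite_eq', Finset.mem_univ, if_true, ite_mul, one_mul,
    zero_mul] at hc hc'
  have h1 : ρ z * ρ z = 1 := by rw [← map_mul, hz2, map_one]
  rw [hc] at h1
  rw [← hc', ρ.char_one]
  rcases Nat.eq_zero_or_pos n with rfl | hn
  · simp
  haveI : Nonempty (Fin n) := ⟨⟨0, hn⟩⟩
  have h2 := congrArg (fun f : (Fin n → ℂ) →ₗ[ℂ] (Fin n → ℂ) => f (fun _ => 1) ⟨0, hn⟩) h1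
  simp at h2
  rcases mul_self_eq_one_iff.1 h2 with rfl | rfl
  · left; simp
  · right; simp

/-- Degrees along a surjection. -/
theorem degree_lift {G S : Type*} [Group G] [Group S] (π : G →* S) (hπ : Function.Surjective π) {d : ℕ}
    (h : d ∈ Cfsg.charDegrees S) : ∃ χ : G → ℂ, IsIrrCharacter G χ ∧ χ 1 = (d : ℂ) := by
  obtain ⟨φ, rfl⟩ := h
  obtain ⟨n, -, hn⟩ := IsIrr.degree φ.2
  refine ⟨fun g => (φ : S → ℂ) (π g), isIrrCharacter_comp π hπ φ.2, ?_⟩
  simp [map_one, hn, Cfsg.charDegree]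

theorem degree_descend {G S : Type*} [Group G] [Finite G] [Group S] (π : G →* S) (hπ : Function.Surjective π)
    {χ : G → ℂ} (hχ : IsIrrCharacter G χ) (hk : ∀ n ∈ π.ker, χ n = χ 1) {d : ℕ} (hd : χ 1 = (d : ℂ)) :
    d ∈ Cfsg.charDegrees S := by
  obtain ⟨φ, hφ, he⟩ := IsIrr.exists_quotient π.ker hχ hk
  let e := QuotientGroup.quotientKerEquivOfSurjective π hπ
  refine ⟨⟨fun s => φ (e.symm s), (isIrrCharacter_comp_equiv e.symm).2 hφ⟩, ?_⟩
  show ⌊(φ (e.symm 1)).re⌋₊ = d
  rw [map_one, ← QuotientGroup.mk_one, ← he, hd]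
  simp

namespace SL

open Matrix

variable {F : Type*} [Field F] [Fintype F] [DecidableEq F] [Fintype (Matrix.SpecialLinearGroup (Fin 2) F)]

local notation "S2" => Matrix.SpecialLinearGroup (Fin 2) F
local notation "qq" => (Fintype.card F : ℂ)

theorem R_neg_one (α : MulChar F ℂ) : R α (-1 : S2) = (qq + 1) * α (-1) := by
  rw [R_scalar α (-1) (by simp) (by simp) (by simp)]
  simp

theorem St_neg_one : St (-1 : S2) = qq := by
  rw [St_apply, R_neg_one, MulChar.one_apply (isUnit_one.neg), mul_one, add_sub_cancel_right]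

theorem neg_one_sq : (-1 : S2) * -1 = 1 := SL2Class.neg_mul_self_eq

omit [DecidableEq F] [Fintype F] in
theorem trivial_on_center {χ : S2 → ℂ} (h : χ (-1) = χ 1) : ∀ n ∈ Subgroup.center S2, χ n = χ 1 := fun n hn => by
  rcases SL2Class.mem_center_cases.1 hn with rfl | rfl
  · rfl
  · exact h

/-- A cuspidal character of full degree trivial on the centre exists. -/
theorem exists_cusp_trivial (h2 : (2 : F) ≠ 0) (hq : 5 ≤ Fintype.card F) :
    ∃ χ : S2 → ℂ, IsIrrCharacter S2 χ ∧ χ 1 = qq - 1 ∧ χ (-1) = χ 1 := by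
  classical
  haveI : Fintype (GL (Fin 2) F) := Fintype.ofFinite _
  haveI : Fintype (MulChar F ℂ) := Fintype.ofFinite _
  by_contra hno
  push Not at hno
  obtain ⟨k, P, H, C₂, C₁, hk, hkq, hall, hP, hH, hC2, hC1, cP, cH, c2, c1⟩ := table_odd (F := F) h2
  obtain ⟨ε, hε, hne, huniq⟩ := exists_quadratic (F := F) h2
  have hne1 : (-1 : S2) ≠ 1 := SL2Class.neg_one_ne_one h2
  -- twice the number of elements
  have hs : ∑ χ : IrrCharacter S2, (χ : S2 → ℂ) 1 * ((χ : S2 → ℂ) 1 + (χ : S2 → ℂ) (-1)) = (Nat.card S2 : ℂ) := by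
    simp only [mul_add, Finset.sum_add_distrib, regular_eq_sum, if_neg hne1, if_true, add_zero]
  -- bound the summands
  let w : IrrCharacter S2 → ℕ := fun χ =>
    if (χ : S2 → ℂ) (-1) = (χ : S2 → ℂ) 1 then 2 * Cfsg.charDegree (χ : S2 → ℂ) ^ 2 else 0
  have hw : ∀ χ : IrrCharacter S2, (χ : S2 → ℂ) 1 * ((χ : S2 → ℂ) 1 + (χ : S2 → ℂ) (-1)) = (w χ : ℂ) := by
    intro χ
    obtain ⟨n, -, hn⟩ := IsIrr.degree χ.2
    have hd : Cfsg.charDegree (χ : S2 → ℂ) = n := by simp [Cfsg.charDegree, hn]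
    by_cases h : (χ : S2 → ℂ) (-1) = (χ : S2 → ℂ) 1
    · simp only [w, if_pos h, hd]; rw [h, hn]; push_cast; ring
    · simp only [w, if_neg h]
      rw [(central_involution χ.2 SL2Class.neg_one_mem_center neg_one_sq).resolve_left h]
      simp
  have hsum : ∑ χ : IrrCharacter S2, w χ = Nat.card S2 := by
    refine Nat.cast_injective (R := ℂ) ?_
    rw [Nat.cast_sum, ← hs]
    exact Finset.sum_congr rfl fun χ _ => (hw χ).symm
  have hwle : ∀ χ : IrrCharacter S2, ∀ d : ℕ, (χ : S2 → ℂ) 1 = (d : ℂ) → w χ ≤ 2 * d ^ 2 := by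
    intro χ d hd
    simp only [w, Cfsg.charDegree, hd]
    split_ifs <;> simp
  let one' : IrrCharacter S2 := ⟨fun _ => 1, isIrrCharacter_one⟩
  let St' : IrrCharacter S2 := ⟨St, St_isIrr⟩
  have hC2w : ∀ χ ∈ C₂, w χ = 0 := fun χ h => by
    simp only [w]
    rw [if_neg]
    exact hno χ χ.2 (by rw [(hC2 χ h).1, hkq]; push_cast; ring)
  -- halves
  have hHw : ∀ χ ∈ H, w χ = if ε (-1) = 1 then 2 * (k + 1) ^ 2 else 0 := by
    intro χ h
    obtain ⟨hd, α, hα, hα1, hin⟩ := hH χ h
    obtain rfl := huniq α hα hα1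
    obtain ⟨hd1, -, -, χ', -, -, hsum', hd2, -, x, hx⟩ := half hα hα1 χ.2 hin
    have e1 : χ' (-1 : S2) = (χ : S2 → ℂ) (-1) := hx (-1) (-1) (by
      have hc : x * Matrix.SpecialLinearGroup.toGL (-1 : S2) = Matrix.SpecialLinearGroup.toGL (-1 : S2) * x :=
        Units.ext (by simp [Matrix.SpecialLinearGroup.coe_matrix_coe])
      rw [hc, mul_inv_cancel_right])
    have e2 := congrFun hsum' (-1)
    rw [R_neg_one, Pi.add_apply, e1, hkq] at e2
    push_cast at e2
    have e3 : (χ : S2 → ℂ) (-1) = ((k + 1 : ℕ) : ℂ) * α (-1) := by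
      push_cast; linear_combination -(1 / 2 : ℂ) * e2
    simp only [w, Cfsg.charDegree, hd, e3, Complex.natCast_re, Nat.floor_natCast]
    refine if_congr ?_ rfl rfl
    constructor
    · intro h'
      exact mul_left_cancel₀ (Nat.cast_ne_zero.2 (Nat.succ_ne_zero k)) (h'.trans (mul_one _).symm)
    · intro h'; rw [h', mul_one]
  -- principal series
  set U := (Finset.univ : Finset (MulChar F ℂ)).filter fun α => α ^ 2 ≠ 1 ∧ α (-1) = 1 with hU
  set P' := P.filter fun χ => w χ ≠ 0 with hP'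
  have hPU : 2 * P'.card ≤ U.card := by
    let toP : MulChar F ℂ → IrrCharacter S2 := fun α =>
      if h : α ^ 2 ≠ 1 then ⟨R α, (R_isIrr_iff α).2 h⟩ else one'
    have h1 : ∀ χ ∈ P', 2 ≤ (U.filter fun α => toP α = χ).card := by
      intro χ hχ
      obtain ⟨hχP, hw0⟩ := Finset.mem_filter.1 hχ
      obtain ⟨-, α, hα, e⟩ := hP χ hχP
      have hm : α (-1) = 1 := by
        by_contra hne'
        refine hw0 ?_
        simp only [w]
        rw [if_neg]
        rw [e, R_neg_one, R_one]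
        intro h'
        exact hne' (mul_left_cancel₀ (Nat.cast_add_one_ne_zero (Fintype.card F)) (h'.trans (mul_one _).symm))
      have hαi : α⁻¹ ^ 2 ≠ 1 := by rwa [inv_pow, Ne, inv_eq_one]
      refine le_trans (Finset.card_pair (a := α) (b := α⁻¹) fun h => hα (by
        rw [pow_two]; nth_rewrite 2 [h]; exact mul_inv_cancel α)).ge (Finset.card_le_card ?_)
      intro β hβ
      simp only [Finset.mem_filter, hU, Finset.mem_univ, true_and]
      rcases Finset.mem_insert.1 hβ with rfl | hβ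
      · exact ⟨⟨hα, hm⟩, by simp only [toP, dif_pos hα]; exact Subtype.ext e.symm⟩
      · rw [Finset.mem_singleton.1 hβ]
        refine ⟨⟨hαi, ?_⟩, by simp only [toP, dif_pos hαi]; exact Subtype.ext ((R_inv α).trans e.symm)⟩
        rw [MulChar.inv_apply', inv_neg, inv_one, hm]
    have h2 : Set.MapsTo toP (U.filter fun α => toP α ∈ P') P' := fun α h => (Finset.mem_filter.1 h).2
    calc 2 * P'.card = ∑ _χ ∈ P', 2 := by rw [Finset.sum_const, smul_eq_mul, mul_comm]
      _ ≤ ∑ χ ∈ P', ((U.filter fun α => toP α ∈ P').filter fun α => toP α = χ).card := by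
        refine Finset.sum_le_sum fun χ hχ => le_trans (h1 χ hχ) (Finset.card_le_card fun α hα => ?_)
        obtain ⟨ha, hb⟩ := Finset.mem_filter.1 hα
        exact Finset.mem_filter.2 ⟨Finset.mem_filter.2 ⟨ha, hb ▸ hχ⟩, hb⟩
      _ = (U.filter fun α => toP α ∈ P').card := (Finset.card_eq_sum_card_fiberwise h2).symm
      _ ≤ U.card := Finset.card_filter_le _ _
  have hUc : U.card + 1 + (if ε (-1) = 1 then 1 else 0) = k := by
    have htot : ((Finset.univ : Finset (MulChar F ℂ)).filter fun α => α (-1) = 1).card = k := by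
      have hk2 : ((-1 : F) : F) = ((-1 : Fˣ) : F) := by simp
      have hs0 := GL.sum_chars (F := F) (-1)
      rw [if_neg (fun e => h2 (by
        have := congrArg (fun x : Fˣ => (x : F)) e
        simp at this
        linear_combination -this))] at hs0
      have hval : ∀ α : MulChar F ℂ, α ((-1 : Fˣ) : F) = if α (-1) = 1 then 1 else -1 := by
        intro α
        rw [← hk2]
        have : α (-1) * α (-1) = 1 := by rw [← map_mul, neg_one_mul, neg_neg, map_one]
        rcases mul_self_eq_one_iff.1 this with h | h <;> rw [h]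
        · simp
        · rw [if_neg (by norm_num)]
      rw [Finset.sum_congr rfl fun α _ => hval α, Finset.sum_ite, Finset.sum_const, Finset.sum_const] at hs0
      simp only [nsmul_eq_mul, mul_one, mul_neg, ← sub_eq_add_neg, sub_eq_zero, Nat.cast_inj] at hs0
      have ht := Finset.card_filter_add_card_filter_not (s := (Finset.univ : Finset (MulChar F ℂ))) fun α => α (-1) = 1
      rw [← hs0, Finset.card_univ, ← Nat.card_eq_fintype_card, card_mulChar] at ht
      omega
    have hsplit := Finset.card_filter_add_card_filter_not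
      (s := (Finset.univ : Finset (MulChar F ℂ)).filter fun α => α (-1) = 1) fun α => α ^ 2 = 1
    rw [htot, Finset.filter_filter, Finset.filter_filter] at hsplit
    have hU' : ((Finset.univ : Finset (MulChar F ℂ)).filter fun α => α (-1) = 1 ∧ ¬ α ^ 2 = 1) = U := by
      rw [hU]; exact Finset.filter_congr fun α _ => and_comm
    have hsq : ((Finset.univ : Finset (MulChar F ℂ)).filter fun α => α (-1) = 1 ∧ α ^ 2 = 1).card =
        1 + (if ε (-1) = 1 then 1 else 0) := by
      split_ifs with he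
      · refine Finset.card_eq_two.2 ⟨1, ε, hne.symm, ?_⟩
        ext α
        simp only [Finset.mem_filter, Finset.mem_univ, true_and, Finset.mem_insert, Finset.mem_singleton]
        refine ⟨fun h => or_iff_not_imp_left.2 (huniq α h.2), ?_⟩
        rintro (rfl | rfl)
        · exact ⟨MulChar.one_apply isUnit_one.neg, one_pow 2⟩
        · exact ⟨he, hε⟩
      · refine Finset.card_eq_one.2 ⟨1, ?_⟩
        ext α
        simp only [Finset.mem_filter, Finset.mem_univ, true_and, Finset.mem_singleton]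
        refine ⟨fun h => ?_, fun h => by rw [h]; exact ⟨MulChar.one_apply isUnit_one.neg, one_pow 2⟩⟩
        by_contra h1
        exact he (huniq α h.2 h1 ▸ h.1)
    rw [hU', hsq] at hsplit
    omega
  have hle : ∑ χ : IrrCharacter S2, w χ ≤ 2 + 2 * (2 * k + 1) ^ 2 + P'.card * (2 * (2 * k + 2) ^ 2) +
      2 * (if ε (-1) = 1 then 2 * (k + 1) ^ 2 else 0) + 4 * k ^ 2 := by
    let g : IrrCharacter S2 → ℕ := fun χ => (if χ = one' then 2 else 0) + (if χ = St' then 2 * (2 * k + 1) ^ 2 else 0) +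
      (if χ ∈ P' then 2 * (2 * k + 2) ^ 2 else 0) + (if χ ∈ H then (if ε (-1) = 1 then 2 * (k + 1) ^ 2 else 0) else 0) +
      (if χ ∈ C₁ then 2 * k ^ 2 else 0)
    refine (Finset.sum_le_sum (g := g) fun χ _ => ?_).trans (le_of_eq ?_)
    · rcases hall χ with e | e | e | e | e | e
      · have := hwle χ 1 (by rw [e, Nat.cast_one])
        simp only [g, if_pos (show χ = one' from Subtype.ext e)]; omega
      · have := hwle χ (2 * k + 1) (by rw [e, St_one, hkq])
        simp only [g, if_pos (show χ = St' from Subtype.ext e)]; omega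
      · by_cases h0 : w χ = 0
        · omega
        · have := hwle χ _ (hP χ e).1
          simp only [g, if_pos (show χ ∈ P' from Finset.mem_filter.2 ⟨e, h0⟩)]; omega
      · simp only [g, if_pos e, hHw χ e]; omega
      · rw [hC2w χ e]; exact Nat.zero_le _
      · have := hwle χ _ (hC1 χ e).1
        simp only [g, if_pos e]; omega
    · simp only [g, Finset.sum_add_distrib, Finset.sum_ite_eq', Finset.mem_univ, if_true, Finset.sum_ite_mem,
        Finset.univ_inter, Finset.sum_const, cH, c1, smul_eq_mul]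
      ring
  rw [hsum, SL2Class.card_sl, hkq, show (2 * k + 1) ^ 2 - 1 = 4 * k * (k + 1) by
    rw [show (2 * k + 1) ^ 2 = 4 * k * (k + 1) + 1 by ring, Nat.add_sub_cancel]] at hle
  have hk2 : 2 ≤ k := by omega
  split_ifs at hle hUc <;> nlinarith [Nat.mul_le_mul_right ((2 * k + 2) ^ 2) hPU, Nat.mul_le_mul hk2 hk2, hUc]

/-- The degrees of a quotient of SL(2, F) by a central subgroup: the options. -/
theorem degree_options {S : Type*} [Group S] (π : S2 →* S) (hπ : Function.Surjective π) {d : ℕ}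
    (h : d ∈ Cfsg.charDegrees S) :
    d = 1 ∨ d = Fintype.card F ∨ d = Fintype.card F + 1 ∨ d + 1 = Fintype.card F ∨
      ((2 : F) ≠ 0 ∧ 2 * d = Fintype.card F + 1) ∨ ((2 : F) ≠ 0 ∧ 2 * d + 1 = Fintype.card F) := by
  haveI : Fintype (GL (Fin 2) F) := Fintype.ofFinite _
  obtain ⟨χ, hχ, hd⟩ := degree_lift π hπ h
  obtain ⟨d', hd', hc⟩ := nat_cases hχ
  obtain rfl : d = d' := Nat.cast_injective (hd.symm.trans hd')
  rcases hc with ⟨e, -⟩ | ⟨e, -⟩ | ⟨e, -⟩ | ⟨h2, e, -⟩ | ⟨e, -⟩ | ⟨h2, e, -⟩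
  · exact Or.inl e
  · exact Or.inr (Or.inl e)
  · exact Or.inr (Or.inr (Or.inl e))
  · exact Or.inr (Or.inr (Or.inr (Or.inr (Or.inl ⟨h2, e⟩))))
  · exact Or.inr (Or.inr (Or.inr (Or.inl e)))
  · exact Or.inr (Or.inr (Or.inr (Or.inr (Or.inr ⟨h2, e⟩))))

/-- The three big degrees occur. -/
theorem degrees_occur {S : Type*} [Group S] (π : S2 →* S) (hπ : Function.Surjective π)
    (hker : π.ker ≤ Subgroup.center S2) (hq : ((2 : F) = 0 ∧ 4 ≤ Fintype.card F) ∨ ((2 : F) ≠ 0 ∧ 5 < Fintype.card F)) :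
    Fintype.card F ∈ Cfsg.charDegrees S ∧ Fintype.card F + 1 ∈ Cfsg.charDegrees S ∧
      Fintype.card F - 1 ∈ Cfsg.charDegrees S := by
  have hpos := Fintype.one_lt_card (α := F)
  have mk : ∀ {χ : S2 → ℂ}, IsIrrCharacter S2 χ → χ (-1) = χ 1 → ∀ {d : ℕ}, χ 1 = (d : ℂ) → d ∈ Cfsg.charDegrees S :=
    fun hχ h _ hd => degree_descend π hπ hχ (fun n hn => trivial_on_center h n (hker hn)) hd
  refine ⟨mk St_isIrr (by rw [St_neg_one, St_one]) St_one, ?_, ?_⟩
  · obtain ⟨α, hα, hm⟩ : ∃ α : MulChar F ℂ, α ^ 2 ≠ 1 ∧ α (-1) = 1 := by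
      obtain ⟨e⟩ := MulChar.mulEquiv_units F ℂ
      haveI : IsCyclic (MulChar F ℂ) := e.isCyclic.2 inferInstance
      obtain ⟨ψ, hψ⟩ := IsCyclic.exists_generator (α := MulChar F ℂ)
      have hord : orderOf ψ = Fintype.card F - 1 := by rw [orderOf_eq_card_of_forall_mem_zpowers hψ, card_mulChar]
      rcases hq with ⟨h2, hq⟩ | ⟨h2, hq⟩
      · have hm1 : (-1 : F) = 1 := by linear_combination -h2
        refine ⟨ψ, fun h => ?_, by rw [hm1, map_one]⟩
        have := Nat.le_of_dvd two_pos (orderOf_dvd_of_pow_eq_one h)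
        omega
      · refine ⟨ψ ^ 2, fun h => ?_, ?_⟩
        · rw [← pow_mul] at h
          have := Nat.le_of_dvd (by norm_num) (orderOf_dvd_of_pow_eq_one h)
          have hodd := SL2Class.card_odd_of_two_ne_zero (F := F) h2
          omega
        · rw [pow_two, MulChar.mul_apply, ← map_mul, neg_one_mul, neg_neg, map_one]
    exact mk ((R_isIrr_iff α).2 hα) (by rw [R_neg_one, R_one, hm, mul_one]) (by rw [R_one]; push_cast; ring)
  · rcases hq with ⟨h2, hq⟩ | ⟨h2, hq⟩
    · obtain ⟨P, C, -, -, hC, -, cC⟩ := table_even (F := F) h2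
      obtain ⟨χ, hχ⟩ := Finset.card_pos.1 (by omega : 0 < C.card)
      have hm1 : (-1 : S2) = 1 := by
        refine Subgroup.mem_bot.1 ?_
        rw [← SL2Class.center_eq_bot h2]
        exact SL2Class.neg_one_mem_center
      exact mk χ.2 (by rw [hm1]) (by rw [(hC χ hχ).1, Nat.cast_sub hpos.le, Nat.cast_one])
    · obtain ⟨χ, hi, hd, hm⟩ := exists_cusp_trivial (F := F) h2 (by omega)
      exact mk hi hm (by rw [hd, Nat.cast_sub hpos.le, Nat.cast_one])

end SL

end Cfsg.Agent.GL2Rep
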