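import Cfsg.Agent.Char.Gen
import Cfsg.Agent.Char.Induced
import Cfsg.Prelude.Def_ParabolicCharacters
import Mathlib.NumberTheory.MulChar.Lemmas
import Mathlib.NumberTheory.MulChar.Duality

/-!
Induced functions along an explicit transversal, and sums of products of multiplicative characters.
-/

set_option autoImplicit false

namespace Cfsg.Agent.GL2Rep

open Cfsg Cfsg.Agent.Char
open scoped ComplexConjugate

universe u

section Transversal

variable {G : Type u} [Group G] {H : Subgroup G} {ι : Type*} {r : ι → G}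

theorem transversal_bijective (hinj : ∀ i j, (r i)⁻¹ * r j ∈ H → i = j) (hsur : ∀ g, ∃ i, (r i)⁻¹ * g ∈ H) :
    Function.Bijective (fun i => (QuotientGroup.mk (r i) : G ⧸ H)) :=
  ⟨fun i j h => hinj i j (QuotientGroup.eq.1 h),
    fun x => Quotient.inductionOn' x fun g => (hsur g).imp fun _ hi => QuotientGroup.eq.2 hi⟩

variable [Fintype ι]

/-- An induced function as a sum along a transversal. -/
theorem indFun_eq_sum [Fintype G] (hr : Function.Bijective (fun i => (QuotientGroup.mk (r i) : G ⧸ H)))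
    (θ : H → ℂ) (hθ : ∀ a b : H, θ (a⁻¹ * b * a) = θ b) (g : G) :
    indFun H θ g = ∑ i, extendByZero H θ ((r i)⁻¹ * g * r i) := by
  classical
  haveI := Fintype.ofFinite H
  have hb : Function.Bijective (fun p : ι × H => r p.1 * (p.2 : G)) := by
    refine ⟨fun p p' h => ?_, fun x => ?_⟩
    · have h1 : p.1 = p'.1 := hr.1 (QuotientGroup.eq.2 (by
        rw [show (r p.1)⁻¹ * r p'.1 = (p.2 : G) * (p'.2 : G)⁻¹ by
          rw [eq_mul_inv_iff_mul_eq, mul_assoc, show r p'.1 * (p'.2 : G) = r p.1 * p.2 from h.symm,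
            inv_mul_cancel_left]]
        exact mul_mem p.2.2 (inv_mem p'.2.2)))
      refine Prod.ext h1 (Subtype.ext ?_)
      simpa [h1] using h
    · obtain ⟨i, hi⟩ := hr.2 (QuotientGroup.mk x)
      exact ⟨(i, ⟨(r i)⁻¹ * x, QuotientGroup.eq.1 hi⟩), by simp⟩
  have key : ∀ (y : G) (h : H), extendByZero H θ ((h : G)⁻¹ * y * h) = extendByZero H θ y := by
    intro y h
    by_cases hy : y ∈ H
    · rw [extendByZero_of_mem H θ hy, extendByZero_of_mem H θ (mul_mem (mul_mem (inv_mem h.2) hy) h.2),
        ← hθ h ⟨y, hy⟩]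
      rfl
    · rw [extendByZero_of_not_mem H θ hy, extendByZero_of_not_mem H θ fun hm => hy ?_]
      simpa [mul_assoc] using mul_mem (mul_mem h.2 hm) (inv_mem h.2)
  rw [indFun_apply, ← hb.sum_comp (fun x => extendByZero H θ (x⁻¹ * g * x)), Fintype.sum_prod_type,
    Finset.mul_sum]
  refine Finset.sum_congr rfl fun i _ => ?_
  have e : ∀ h : H, extendByZero H θ ((r i * h)⁻¹ * g * (r i * h)) = extendByZero H θ ((r i)⁻¹ * g * r i) := by
    intro h
    rw [← key ((r i)⁻¹ * g * r i) h]
    congr 1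
    group
  simp only [e, Finset.sum_const, Finset.card_univ, nsmul_eq_mul, ← Nat.card_eq_fintype_card]
  rw [inv_mul_cancel_left₀ (Nat.cast_ne_zero.2 Nat.card_pos.ne')]

open scoped Classical in
/-- The permutation character as a sum along a transversal. -/
theorem fixedPoint_eq_sum (hr : Function.Bijective (fun i => (QuotientGroup.mk (r i) : G ⧸ H))) (g : G) :
    fixedPointCharacter H g = ∑ i, if (r i)⁻¹ * g * r i ∈ H then (1 : ℂ) else 0 := by
  rw [fixedPointCharacter, Finset.sum_boole]
  congr 1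
  rw [← Fintype.card_subtype, ← Nat.card_eq_fintype_card]
  refine (Nat.card_congr (Equiv.subtypeEquiv (Equiv.ofBijective _ hr) fun i => ?_)).symm
  show _ ↔ g • (QuotientGroup.mk (r i) : G ⧸ H) = QuotientGroup.mk (r i)
  rw [eq_comm, MulAction.Quotient.smul_mk, smul_eq_mul, QuotientGroup.eq, mul_assoc]

end Transversal

section MulCharSums

variable {F : Type*} [Field F] [Fintype F]

theorem conj_mulChar (α : MulChar F ℂ) (a : F) : conj (α a) = α⁻¹ a := MulChar.star_apply' α a

variable [DecidableEq F]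

open scoped Classical in
theorem sum_units (χ : MulChar F ℂ) : ∑ a : Fˣ, χ a = if χ = 1 then (Nat.card Fˣ : ℂ) else 0 := by
  split_ifs with h
  · subst h
    simp [MulChar.one_apply_coe]
  · have h0 := MulChar.sum_eq_zero_of_ne_one h
    rw [← Fintype.sum_subtype_add_sum_subtype (fun a : F => a ≠ 0)] at h0
    have h1 : ∑ x : {x : F // ¬ x ≠ 0}, χ x = 0 := Finset.sum_eq_zero fun x _ => by
      rw [not_not.1 x.2, MulChar.map_zero]
    rw [h1, add_zero] at h0
    rw [← h0]
    exact Fintype.sum_equiv unitsEquivNeZero _ _ fun a => rfl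

open scoped Classical in
theorem sum_mul_conj (α β : MulChar F ℂ) :
    ∑ a : Fˣ, α a * conj (β a) = if α = β then (Nat.card Fˣ : ℂ) else 0 := by
  have e : ∀ a : Fˣ, α a * conj (β a) = (α * β⁻¹) a := fun a => by rw [conj_mulChar, MulChar.mul_apply]
  simp only [e, sum_units, mul_inv_eq_one]

theorem apply_inv (α : MulChar F ℂ) (a : Fˣ) : α ((a⁻¹ : Fˣ) : F) = α⁻¹ a := by
  rw [MulChar.inv_apply' α (a : F), Units.val_inv_eq_inv_val]

theorem card_mulChar : Nat.card (MulChar F ℂ) = Fintype.card F - 1 := by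
  rw [MulChar.card_eq_card_units_of_hasEnoughRootsOfUnity, Nat.card_units, Nat.card_eq_fintype_card]

end MulCharSums

end Cfsg.Agent.GL2Rep
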