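import Cfsg.Agent.GL2Rep.Basic

/-!
The principal series of GL(2, F): Bruhat transversal of the upper triangular subgroup, values, inner products.
-/

set_option autoImplicit false

namespace Cfsg.Agent.GL2Rep.GL

open Cfsg Cfsg.Agent.Char Matrix
open scoped ComplexConjugate

variable {F : Type*} [Field F]

local notation "G2" => GL (Fin 2) F
local notation "BB" => upperTriangularGL 2 F
local notation:1024 "↥ₘ" A:1024 => ((A : GL (Fin 2) F) : Matrix (Fin 2) (Fin 2) F)

theorem mem_B {g : G2} : g ∈ BB ↔ (↥ₘ g) 1 0 = 0 := by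
  constructor
  · intro h; exact h (show (0 : Fin 2) < 1 by decide)
  · intro h i j hij
    fin_cases i <;> fin_cases j <;> simp_all

theorem det_ne (g : G2) : (↥ₘ g) 0 0 * (↥ₘ g) 1 1 - (↥ₘ g) 0 1 * (↥ₘ g) 1 0 ≠ 0 := by
  rw [← det_fin_two]
  exact g.det_ne_zero

/-- Representatives for the cosets of the upper triangular subgroup, one for each point of the line. -/
def rep : Option F → G2
  | none => 1
  | some c => ⟨!![c, 1; 1, 0], !![0, 1; 1, -c],
      by ext i j; fin_cases i <;> fin_cases j <;> simp [Matrix.mul_apply, Fin.sum_univ_two],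
      by ext i j; fin_cases i <;> fin_cases j <;> simp [Matrix.mul_apply, Fin.sum_univ_two]⟩

theorem coe_rep (c : F) : ↥ₘ(rep (some c)) = !![c, 1; 1, 0] := rfl

theorem coe_rep_inv (c : F) : ↥ₘ(rep (some c))⁻¹ = !![0, 1; 1, -c] := rfl

theorem rep_inv_mul (c : F) (g : G2) : ↥ₘ((rep (some c))⁻¹ * g) =
    !![(↥ₘ g) 1 0, (↥ₘ g) 1 1; (↥ₘ g) 0 0 - c * (↥ₘ g) 1 0, (↥ₘ g) 0 1 - c * (↥ₘ g) 1 1] := by
  rw [Units.val_mul, coe_rep_inv]
  ext i j; fin_cases i <;> fin_cases j <;> simp [Matrix.mul_apply, Fin.sum_univ_two] <;> ring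

theorem rep_conj (c : F) (g : G2) : ↥ₘ((rep (some c))⁻¹ * g * rep (some c)) =
    !![(↥ₘ g) 1 1 + (↥ₘ g) 1 0 * c, (↥ₘ g) 1 0;
      (↥ₘ g) 0 1 + ((↥ₘ g) 0 0 - (↥ₘ g) 1 1) * c - (↥ₘ g) 1 0 * c * c, (↥ₘ g) 0 0 - c * (↥ₘ g) 1 0] := by
  rw [Units.val_mul, rep_inv_mul, coe_rep]
  ext i j; fin_cases i <;> fin_cases j <;> simp [Matrix.mul_apply, Fin.sum_univ_two] <;> ring

theorem rep_bijective : Function.Bijective (fun o => (QuotientGroup.mk (rep o) : G2 ⧸ BB)) := by
  refine transversal_bijective ?_ ?_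
  · intro i j h
    match i, j with
    | none, none => rfl
    | none, some c =>
      exfalso
      rw [mem_B] at h
      simp [rep] at h
    | some c, none =>
      exfalso
      rw [mem_B, rep_inv_mul] at h
      simp [rep] at h
    | some c, some d =>
      rw [mem_B, rep_inv_mul, coe_rep] at h
      simp at h
      rw [show c = d by linear_combination -h]
  · intro g
    by_cases h : (↥ₘ g) 1 0 = 0
    · exact ⟨none, by simpa [rep, mem_B] using h⟩
    · refine ⟨some ((↥ₘ g) 0 0 / (↥ₘ g) 1 0), ?_⟩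
      rw [mem_B, rep_inv_mul]
      simp [div_mul_cancel₀ _ h]

/-- The linear character `(a, d) ↦ α a * β d` of the upper triangular subgroup. -/
noncomputable def th (α β : MulChar F ℂ) : BB → ℂ :=
  fun b => α (((b : G2) : Matrix (Fin 2) (Fin 2) F) 0 0) * β (((b : G2) : Matrix (Fin 2) (Fin 2) F) 1 1)

theorem diag_mul (a b : BB) :
    ((↥ₘ((a * b : BB) : G2)) 0 0 = (↥ₘ(a : G2)) 0 0 * (↥ₘ(b : G2)) 0 0) ∧
      (↥ₘ((a * b : BB) : G2)) 1 1 = (↥ₘ(a : G2)) 1 1 * (↥ₘ(b : G2)) 1 1 := by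
  simp [Matrix.mul_apply, Fin.sum_univ_two, mem_B.1 a.2, mem_B.1 b.2]

theorem th_mul (α β : MulChar F ℂ) (a b : BB) : th α β (a * b) = th α β a * th α β b := by
  unfold th
  rw [(diag_mul a b).1, (diag_mul a b).2, map_mul, map_mul]
  ring

theorem th_one (α β : MulChar F ℂ) : th α β 1 = 1 := by simp [th]

/-- `th` as a homomorphism. -/
noncomputable def thHom (α β : MulChar F ℂ) : BB →* ℂˣ :=
  (MonoidHom.mk ⟨th α β, th_one α β⟩ (th_mul α β)).toHomUnits

theorem th_eq_thHom (α β : MulChar F ℂ) : th α β = fun b => (thHom α β b : ℂ) := rfl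

theorem th_class (α β : MulChar F ℂ) (a b : BB) : th α β (a⁻¹ * b * a) = th α β b := by
  rw [th_mul, th_mul, mul_right_comm, ← th_mul, inv_mul_cancel, th_one, one_mul]

theorem isCharacter_th (α β : MulChar F ℂ) : IsCharacter BB (th α β) := by
  rw [th_eq_thHom]; exact isCharacter_hom _

variable [Fintype F] [Fintype (GL (Fin 2) F)]

/-- The character induced from `th α β`. -/
noncomputable def R (α β : MulChar F ℂ) : G2 → ℂ := indFun BB (th α β)

theorem R_isCharacter (α β : MulChar F ℂ) : IsCharacter G2 (R α β) := isCharacter_indFun _ (isCharacter_th α β)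

theorem R_class (α β : MulChar F ℂ) : IsClassFunction G2 (R α β) := isClassFunction_indFun _ _

variable [DecidableEq F]

theorem R_apply (α β : MulChar F ℂ) (g : G2) :
    R α β g = (if (↥ₘ g) 1 0 = 0 then α ((↥ₘ g) 0 0) * β ((↥ₘ g) 1 1) else 0) +
      ∑ c : F, if (↥ₘ g) 0 1 + ((↥ₘ g) 0 0 - (↥ₘ g) 1 1) * c - (↥ₘ g) 1 0 * c * c = 0 then
        α ((↥ₘ g) 1 1 + (↥ₘ g) 1 0 * c) * β ((↥ₘ g) 0 0 - c * (↥ₘ g) 1 0) else 0 := by
  rw [R, indFun_eq_sum rep_bijective _ (th_class α β) g, Fintype.sum_option]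
  congr 1
  · simp only [rep, inv_one, one_mul, mul_one]
    split_ifs with h
    · rw [extendByZero_of_mem _ _ (mem_B.2 h)]; rfl
    · exact extendByZero_of_not_mem _ _ fun hm => h (mem_B.1 hm)
  · refine Finset.sum_congr rfl fun c _ => ?_
    have e := rep_conj c g
    split_ifs with h
    · rw [extendByZero_of_mem _ _ (mem_B.2 (by rw [e]; simpa using h))]
      show α _ * β _ = _
      rw [e]
      simp
    · exact extendByZero_of_not_mem _ _ fun hm => h (by rw [mem_B, e] at hm; simpa using hm)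

theorem fixedPoint_eq (g : G2) : fixedPointCharacter BB g = R 1 1 g := by
  rw [R, fixedPoint_eq_sum rep_bijective, indFun_eq_sum rep_bijective _ (th_class 1 1) g]
  refine Finset.sum_congr rfl fun o _ => ?_
  split_ifs with h
  · rw [extendByZero_of_mem _ _ h, th]
    have hd := det_ne ((rep o)⁻¹ * g * rep o)
    rw [mem_B] at h
    rw [h, mul_zero, sub_zero, mul_ne_zero_iff] at hd
    rw [MulChar.one_apply hd.1.isUnit, MulChar.one_apply hd.2.isUnit, one_mul]
  · exact (extendByZero_of_not_mem _ _ h).symm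

theorem R_scalar (α β : MulChar F ℂ) (g : G2) (a : F) (h : ↥ₘ g = a • (1 : Matrix (Fin 2) (Fin 2) F)) :
    R α β g = ((Fintype.card F : ℂ) + 1) * (α a * β a) := by
  rw [R_apply, h]
  simp
  ring

theorem R_diag (α β : MulChar F ℂ) (g : G2) (h10 : (↥ₘ g) 1 0 = 0) (hne : (↥ₘ g) 0 0 ≠ (↥ₘ g) 1 1) :
    R α β g = α ((↥ₘ g) 0 0) * β ((↥ₘ g) 1 1) + α ((↥ₘ g) 1 1) * β ((↥ₘ g) 0 0) := by
  rw [R_apply, if_pos h10]
  congr 1
  rw [Finset.sum_eq_single ((↥ₘ g) 0 1 / ((↥ₘ g) 1 1 - (↥ₘ g) 0 0))]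
  · rw [if_pos]
    · simp [h10]
    · have := sub_ne_zero.2 hne.symm
      rw [h10]; field_simp; ring
  · intro c _ hc
    rw [if_neg]
    intro e
    refine hc ?_
    rw [eq_div_iff (sub_ne_zero.2 hne.symm)]
    rw [h10] at e
    linear_combination -e
  · simp

theorem R_unipotent (α β : MulChar F ℂ) (g : G2) (h10 : (↥ₘ g) 1 0 = 0) (he : (↥ₘ g) 0 0 = (↥ₘ g) 1 1)
    (h01 : (↥ₘ g) 0 1 ≠ 0) : R α β g = α ((↥ₘ g) 0 0) * β ((↥ₘ g) 0 0) := by
  rw [R_apply, if_pos h10, he, h10]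
  simp [h01]

theorem R_noEigen (α β : MulChar F ℂ) (g : G2)
    (hg : ∀ (c : F) (v : Fin 2 → F), v ≠ 0 → (↥ₘ g).mulVec v ≠ c • v) : R α β g = 0 := by
  rw [R_apply, if_neg, zero_add]
  · refine Finset.sum_eq_zero fun c _ => if_neg fun e => ?_
    refine hg ((↥ₘ g) 1 1 + (↥ₘ g) 1 0 * c) ![c, 1] (fun h => by simpa using congrFun h 1) ?_
    ext i; fin_cases i
    · simp [Matrix.mulVec, dotProduct, Fin.sum_univ_two]; linear_combination e
    · simp [Matrix.mulVec, dotProduct, Fin.sum_univ_two]; ring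
  · intro h
    refine hg ((↥ₘ g) 0 0) ![1, 0] (fun h => by simpa using congrFun h 0) ?_
    ext i; fin_cases i <;> simp [Matrix.mulVec, dotProduct, Fin.sum_univ_two, h]

omit [Fintype F] [Fintype (GL (Fin 2) F)] [DecidableEq F] in
/-- The element with entries `a, e, 0, d`. -/
def bEl (a d : Fˣ) (e : F) : G2 :=
  Matrix.GeneralLinearGroup.mkOfDetNeZero !![(a : F), e; 0, (d : F)] (by simp [det_fin_two_of])

omit [Fintype F] [Fintype (GL (Fin 2) F)] [DecidableEq F] in
theorem coe_bEl (a d : Fˣ) (e : F) : ↥ₘ(bEl a d e) = !![(a : F), e; 0, (d : F)] := rfl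

omit [Fintype F] [Fintype (GL (Fin 2) F)] [DecidableEq F] in
theorem bEl_mem (a d : Fˣ) (e : F) : bEl a d e ∈ BB := mem_B.2 (by simp [coe_bEl])

omit [Fintype F] [Fintype (GL (Fin 2) F)] [DecidableEq F] in
theorem bEl_bijective : Function.Bijective (fun p : (Fˣ × Fˣ) × F => (⟨bEl p.1.1 p.1.2 p.2, bEl_mem _ _ _⟩ : BB)) := by
  refine ⟨fun p p' h => ?_, fun b => ?_⟩
  · have h := congrArg (fun b : BB => ↥ₘ(b : G2)) h
    simp only [coe_bEl] at h
    have h00 := congrFun (congrFun h 0) 0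
    have h01 := congrFun (congrFun h 0) 1
    have h11 := congrFun (congrFun h 1) 1
    simp at h00 h01 h11
    exact Prod.ext (Prod.ext (Units.ext h00) (Units.ext h11)) h01
  · have hd := det_ne (b : G2)
    rw [mem_B.1 b.2, mul_zero, sub_zero, mul_ne_zero_iff] at hd
    refine ⟨((Units.mk0 _ hd.1, Units.mk0 _ hd.2), (↥ₘ(b : G2)) 0 1), Subtype.ext (Units.ext ?_)⟩
    ext i j; fin_cases i <;> fin_cases j <;> simp [coe_bEl, mem_B.1 b.2]

omit [Fintype (GL (Fin 2) F)] in
theorem sum_count (x : F) :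
    ∑ e : F, ∑ c : F, (if e + x * c = 0 then (1 : ℂ) else 0) = (Fintype.card F : ℂ) := by
  rw [Finset.sum_comm]
  have : ∀ c : F, (∑ e : F, if e + x * c = 0 then (1 : ℂ) else 0) = 1 := fun c => by
    simp [add_eq_zero_iff_eq_neg]
  simp [this]

theorem sum_R_bEl (α β : MulChar F ℂ) (a d : Fˣ) :
    ∑ e : F, R α β (bEl a d e) = (Fintype.card F : ℂ) * (α a * β d + α d * β a) := by
  have e1 : ∀ e : F, R α β (bEl a d e) = α a * β d +
      (∑ c : F, if e + ((a : F) - d) * c = 0 then (1 : ℂ) else 0) * (α d * β a) := by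
    intro e
    rw [R_apply, Finset.sum_mul]
    simp [coe_bEl]
  simp only [e1, Finset.sum_add_distrib, ← Finset.sum_mul, sum_count, Finset.sum_const, Finset.card_univ,
    nsmul_eq_mul]
  ring

open scoped Classical in
/-- The inner products of the principal series. -/
theorem inner_R (α β α' β' : MulChar F ℂ) :
    classInner (R α β) (R α' β') =
      (if α = α' ∧ β = β' then 1 else 0) + (if α = β' ∧ β = α' then 1 else 0) := by
  haveI := Fintype.ofFinite BB
  rw [R, classInner_indFun_left _ _ (R_class α' β'), classInner, ← Nat.card_congr (Equiv.ofBijective _ bEl_bijective),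
    ← bEl_bijective.sum_comp (fun b : BB => th α β b * conj (R α' β' (b : G2))), Fintype.sum_prod_type]
  have e1 : ∀ p : Fˣ × Fˣ, ∑ e : F, th α β ⟨bEl p.1 p.2 e, bEl_mem _ _ _⟩ * conj (R α' β' (bEl p.1 p.2 e)) =
      (Fintype.card F : ℂ) * ((α p.1 * conj (α' p.1)) * (β p.2 * conj (β' p.2)) +
        (α p.1 * conj (β' p.1)) * (β p.2 * conj (α' p.2))) := by
    intro p
    have : ∀ e : F, th α β ⟨bEl p.1 p.2 e, bEl_mem _ _ _⟩ = α p.1 * β p.2 := fun e => by simp [th, coe_bEl]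
    simp only [this, ← Finset.mul_sum, ← map_sum, sum_R_bEl, map_mul, map_add, Complex.conj_natCast]
    ring
  simp only [e1, ← Finset.mul_sum, Finset.sum_add_distrib, Fintype.sum_prod_type, ← Finset.mul_sum,
    ← Finset.sum_mul, sum_mul_conj]
  simp only [Nat.card_eq_fintype_card, Fintype.card_prod, Nat.cast_mul]
  have h0 : (Fintype.card F : ℂ) ≠ 0 := Nat.cast_ne_zero.2 Fintype.card_ne_zero
  have h1 : (Fintype.card Fˣ : ℂ) ≠ 0 := Nat.cast_ne_zero.2 Fintype.card_ne_zero
  have key : ∀ (P Q : Prop) [Decidable P] [Decidable Q] (N : ℂ),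
      (if P then N else 0) * (if Q then N else 0) = N * N * (if P ∧ Q then 1 else 0) := by
    intro P Q _ _ N
    by_cases hP : P <;> by_cases hQ : Q <;> simp [hP, hQ]
  rw [key, key]
  field_simp
  try ring

theorem R_swap (α β : MulChar F ℂ) : R α β = R β α := by
  have h : classInner (R α β - R β α) (R α β - R β α) = 0 := by
    classical
    simp only [classInner_sub_left, classInner_sub_right, inner_R]
    by_cases e : α = β
    · subst e; simp
    · simp [e, Ne.symm e]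
  exact sub_eq_zero.1 ((classInner_self_eq_zero _).1 h)

theorem R_eq_iff (α β α' β' : MulChar F ℂ) :
    R α β = R α' β' ↔ (α = α' ∧ β = β') ∨ (α = β' ∧ β = α') := by
  refine ⟨fun h => ?_, ?_⟩
  · classical
    by_contra hn
    push Not at hn
    have e := inner_R α β α' β'
    rw [if_neg (fun x => hn.1 x.1 x.2), if_neg (fun x => hn.2 x.1 x.2), ← h, inner_R] at e
    simp only [and_self, if_true] at e
    split_ifs at e <;> norm_num at e
  · rintro (⟨rfl, rfl⟩ | ⟨rfl, rfl⟩)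
    · rfl
    · exact R_swap _ _

theorem R_isIrr (α β : MulChar F ℂ) (h : α ≠ β) : IsIrrCharacter G2 (R α β) := by
  classical
  rw [isIrr_iff_norm_one (R_isCharacter α β), inner_R]
  simp [h, Ne.symm h]

end Cfsg.Agent.GL2Rep.GL
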