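import Cfsg.Agent.GL2Rep.GL

/-!
Conjugacy classes and centralisers in GL(2, F).
-/

set_option autoImplicit false

namespace Cfsg.Agent.GL2Rep.GL

open Matrix

variable {F : Type*} [Field F]

local notation "G2" => GL (Fin 2) F
local notation "M2" => Matrix (Fin 2) (Fin 2) F
local notation:1024 "↥ₘ" A:1024 => ((A : GL (Fin 2) F) : Matrix (Fin 2) (Fin 2) F)

/-- A 2 by 2 matrix that is not scalar. -/
def NS (A : M2) : Prop := ¬ (A 0 1 = 0 ∧ A 1 0 = 0 ∧ A 0 0 = A 1 1)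

theorem exists_lin {A M : M2} (hA : NS A) (h : M * A = A * M) : ∃ a b : F, M = a • (1 : M2) + b • A := by
  have e00 := congrFun (congrFun h 0) 0
  have e01 := congrFun (congrFun h 0) 1
  have e10 := congrFun (congrFun h 1) 0
  simp [Matrix.mul_apply, Fin.sum_univ_two] at e00 e01 e10
  obtain ⟨b, hb1, hb2, hb3⟩ : ∃ b : F, M 1 0 = b * A 1 0 ∧ M 0 1 = b * A 0 1 ∧ M 0 0 - M 1 1 = b * (A 0 0 - A 1 1) := by
    by_cases h10 : A 1 0 = 0
    · by_cases h01 : A 0 1 = 0
      · have hd : A 0 0 - A 1 1 ≠ 0 := fun e => hA ⟨h01, h10, sub_eq_zero.1 e⟩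
        refine ⟨(M 0 0 - M 1 1) / (A 0 0 - A 1 1), ?_, ?_, by rw [div_mul_cancel₀ _ hd]⟩
        · rw [h10] at e10 ⊢
          have : M 1 0 * (A 0 0 - A 1 1) = 0 := by linear_combination e10
          rw [(mul_eq_zero.1 this).resolve_right hd, mul_zero]
        · rw [h01] at e01 ⊢
          have : M 0 1 * (A 0 0 - A 1 1) = 0 := by linear_combination -e01
          rw [(mul_eq_zero.1 this).resolve_right hd, mul_zero]
      · refine ⟨M 0 1 / A 0 1, ?_, by rw [div_mul_cancel₀ _ h01], ?_⟩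
        · field_simp; linear_combination -e00
        · field_simp; linear_combination e01
    · refine ⟨M 1 0 / A 1 0, by rw [div_mul_cancel₀ _ h10], ?_, ?_⟩
      · field_simp; linear_combination e00
      · field_simp; linear_combination -e10
  refine ⟨M 1 1 - b * A 1 1, b, ?_⟩
  ext i j; fin_cases i <;> fin_cases j <;> simp <;>
    first | linear_combination hb3 | linear_combination hb2 | linear_combination hb1 | ring

theorem lin_inj {A : M2} (hA : NS A) {a b c d : F}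
    (h : a • (1 : M2) + b • A = c • (1 : M2) + d • A) : a = c ∧ b = d := by
  have e00 := congrFun (congrFun h 0) 0
  have e11 := congrFun (congrFun h 1) 1
  have e01 := congrFun (congrFun h 0) 1
  have e10 := congrFun (congrFun h 1) 0
  simp at e00 e11 e01 e10
  have hbd : b = d := by
    by_contra hne
    refine hA ⟨?_, ?_, ?_⟩
    · exact e01.resolve_left hne
    · exact e10.resolve_left hne
    · have : (b - d) * (A 0 0 - A 1 1) = 0 := by linear_combination e00 - e11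
      exact sub_eq_zero.1 ((mul_eq_zero.1 this).resolve_left (sub_ne_zero.2 hne))
  subst hbd
  exact ⟨by linear_combination e00, rfl⟩

theorem card_centralizer {g : G2} (hg : NS ↥ₘ g) :
    Nat.card (Subgroup.centralizer ({g} : Set G2)) =
      Nat.card {p : F × F // (p.1 • (1 : M2) + p.2 • ↥ₘ g).det ≠ 0} := by
  symm
  refine Nat.card_congr (Equiv.ofBijective (fun p => ⟨Matrix.GeneralLinearGroup.mkOfDetNeZero _ p.2,
    Subgroup.mem_centralizer_singleton_iff.2 (Units.ext ?_)⟩) ⟨?_, ?_⟩)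
  · show (p.1.1 • (1 : M2) + p.1.2 • ↥ₘ g) * ↥ₘ g = ↥ₘ g * (p.1.1 • (1 : M2) + p.1.2 • ↥ₘ g)
    simp [Matrix.add_mul, Matrix.mul_add]
  · intro p p' h
    have h : p.1.1 • (1 : M2) + p.1.2 • ↥ₘ g = p'.1.1 • (1 : M2) + p'.1.2 • ↥ₘ g :=
      congrArg (fun x : Subgroup.centralizer ({g} : Set G2) => ↥ₘ(x : G2)) h
    obtain ⟨h1, h2⟩ := lin_inj hg h
    exact Subtype.ext (Prod.ext h1 h2)
  · rintro ⟨x, hx⟩
    obtain ⟨a, b, e⟩ := exists_lin hg (congrArg (fun y : G2 => ↥ₘ y) (Subgroup.mem_centralizer_singleton_iff.1 hx))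
    refine ⟨⟨(a, b), ?_⟩, Subtype.ext (Units.ext e.symm)⟩
    show (a • (1 : M2) + b • ↥ₘ g).det ≠ 0
    rw [← e]
    exact x.det_ne_zero

/-- The companion matrix of `X² - t X + d`. -/
def comp (t : F) (d : Fˣ) : G2 :=
  Matrix.GeneralLinearGroup.mkOfDetNeZero !![0, -(d : F); 1, t] (by simp [det_fin_two_of])

theorem coe_comp (t : F) (d : Fˣ) : ↥ₘ(comp t d) = !![0, -(d : F); 1, t] := rfl

theorem ns_comp (t : F) (d : Fˣ) : NS ↥ₘ(comp t d) := fun h => by simpa [coe_comp] using h.2.1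

theorem exists_conj_comp (g : G2) (hg : NS ↥ₘ g) :
    IsConj g (comp ((↥ₘ g) 0 0 + (↥ₘ g) 1 1) (Matrix.GeneralLinearGroup.det g)) := by
  have hd : ((Matrix.GeneralLinearGroup.det g : Fˣ) : F) = (↥ₘ g).det := rfl
  obtain ⟨v, hv⟩ : ∃ v : Fin 2 → F, (!![v 0, (↥ₘ g *ᵥ v) 0; v 1, (↥ₘ g *ᵥ v) 1]).det ≠ 0 := by
    by_cases h10 : (↥ₘ g) 1 0 = 0
    · by_cases h01 : (↥ₘ g) 0 1 = 0
      · refine ⟨![1, 1], ?_⟩
        simp [det_fin_two_of, Matrix.mulVec, dotProduct, Fin.sum_univ_two, h10, h01, sub_eq_zero]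
        exact fun e => hg ⟨h01, h10, e.symm⟩
      · exact ⟨![0, 1], by simp [det_fin_two_of, Matrix.mulVec, dotProduct, Fin.sum_univ_two, h01]⟩
    · exact ⟨![1, 0], by simp [det_fin_two_of, Matrix.mulVec, dotProduct, Fin.sum_univ_two, h10]⟩
  refine isConj_iff.2 ⟨(Matrix.GeneralLinearGroup.mkOfDetNeZero _ hv)⁻¹, ?_⟩
  rw [inv_inv, mul_assoc, inv_mul_eq_iff_eq_mul]
  refine Units.ext ?_
  rw [Units.val_mul, Units.val_mul, coe_comp, hd, det_fin_two]
  ext i j
  fin_cases i <;> fin_cases j <;>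
    simp [Matrix.mul_apply, Matrix.mulVec, dotProduct, Fin.sum_univ_two] <;> ring

theorem tr_det_of_isConj {g h : G2} (e : IsConj g h) :
    (↥ₘ g).trace = (↥ₘ h).trace ∧ (↥ₘ g).det = (↥ₘ h).det := by
  obtain ⟨x, rfl⟩ := isConj_iff.1 e
  refine ⟨?_, ?_⟩
  · rw [Units.val_mul, Units.val_mul, Matrix.trace_mul_cycle, ← Units.val_mul, inv_mul_cancel, Units.val_one, one_mul]
  · rw [Units.val_mul, Units.val_mul, Matrix.det_mul, Matrix.det_mul, mul_right_comm, ← Matrix.det_mul,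
      ← Units.val_mul, mul_inv_cancel, Units.val_one, Matrix.det_one, one_mul]

theorem eq_of_isConj_scalar {g h : G2} (hg : ¬ NS ↥ₘ g) (e : IsConj g h) : h = g := by
  obtain ⟨x, rfl⟩ := isConj_iff.1 e
  have hc : x * g = g * x := Units.ext (by
    obtain ⟨h1, h2, h3⟩ := not_not.1 hg
    ext i j
    fin_cases i <;> fin_cases j <;> simp [Matrix.mul_apply, Fin.sum_univ_two, h1, h2, h3] <;> ring)
  rw [hc, mul_inv_cancel_right]

/-- The scalar matrices. -/
def scal (c : Fˣ) : G2 :=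
  Matrix.GeneralLinearGroup.mkOfDetNeZero !![(c : F), 0; 0, (c : F)] (by simp [det_fin_two_of])

theorem coe_scal (c : Fˣ) : ↥ₘ(scal c) = !![(c : F), 0; 0, (c : F)] := rfl

theorem card_conjClasses [Finite F] : Nat.card (ConjClasses G2) = Nat.card Fˣ + Nat.card (F × Fˣ) := by
  rw [← Nat.card_sum]
  symm
  refine Nat.card_congr (Equiv.ofBijective (Sum.elim (fun c => ConjClasses.mk (scal c)) fun p => ConjClasses.mk (comp p.1 p.2)) ⟨?_, ?_⟩)
  · have hs : ∀ c : Fˣ, ¬ NS ↥ₘ(scal c) := fun c h => h ⟨by simp [coe_scal], by simp [coe_scal], by simp [coe_scal]⟩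
    rintro (c | ⟨t, d⟩) (c' | ⟨t', d'⟩) h <;> simp only [Sum.elim_inl, Sum.elim_inr, ConjClasses.mk_eq_mk_iff_isConj] at h
    · have := congrArg (fun A : G2 => (↥ₘ A) 0 0) (eq_of_isConj_scalar (hs c) h)
      simp [coe_scal] at this
      rw [Units.ext this]
    · exact absurd (eq_of_isConj_scalar (hs c) h ▸ ns_comp t' d') (hs c)
    · exact absurd (eq_of_isConj_scalar (hs c') h.symm ▸ ns_comp t d) (hs c')
    · obtain ⟨h1, h2⟩ := tr_det_of_isConj h
      simp [coe_comp, Matrix.trace_fin_two, det_fin_two_of] at h1 h2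
      rw [h1, Units.ext h2]
  · intro C
    obtain ⟨g, rfl⟩ := ConjClasses.mk_surjective C
    by_cases hg : NS ↥ₘ g
    · exact ⟨Sum.inr (_, _), ConjClasses.mk_eq_mk_iff_isConj.2 (exists_conj_comp g hg).symm⟩
    · obtain ⟨h1, h2, h3⟩ := not_not.1 hg
      have hd := det_ne g
      rw [h1, h2, ← h3, mul_zero, sub_zero, mul_ne_zero_iff] at hd
      refine ⟨Sum.inl (Units.mk0 _ hd.1), congrArg ConjClasses.mk (Units.ext ?_)⟩
      ext i j; fin_cases i <;> fin_cases j <;> simp [coe_scal, h1, h2, h3]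

end Cfsg.Agent.GL2Rep.GL
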