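import Cfsg.Agent.GL2Rep.GLTable

/-!
The degrees of the irreducible characters of GL(2, F) and their multiplicities.
-/

set_option autoImplicit false

namespace Cfsg.Agent.GL2Rep.GL

open Cfsg Cfsg.Agent.Char Matrix

variable {F : Type*} [Field F] [Fintype F] [DecidableEq F] [Fintype (GL (Fin 2) F)]

local notation "G2" => GL (Fin 2) F
local notation "qq" => (Fintype.card F : ℂ)

theorem card_GL2 : Nat.card G2 = (Fintype.card F ^ 2 - 1) * (Fintype.card F ^ 2 - Fintype.card F) := by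
  rw [Matrix.card_GL_field]
  simp [Fin.prod_univ_two]

/-- The degree table of GL(2, F), as finite sets of irreducible characters. -/
theorem table : ∃ (L S P C : Finset (IrrCharacter G2)),
    (∀ χ, χ ∈ L ∨ χ ∈ S ∨ χ ∈ P ∨ χ ∈ C) ∧
    (∀ χ ∈ L, (χ : G2 → ℂ) 1 = 1 ∧ ∃ lam, (χ : G2 → ℂ) = linDet lam) ∧
    (∀ χ ∈ S, (χ : G2 → ℂ) 1 = qq ∧ ∃ lam, (χ : G2 → ℂ) = St lam) ∧
    (∀ χ ∈ P, (χ : G2 → ℂ) 1 = qq + 1 ∧ ∃ α β, α ≠ β ∧ (χ : G2 → ℂ) = R α β) ∧
    (∀ χ ∈ C, (χ : G2 → ℂ) 1 = qq - 1 ∧ Cusp (χ : G2 → ℂ)) ∧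
    L.card = Fintype.card F - 1 ∧ S.card = Fintype.card F - 1 ∧
    2 * P.card = (Fintype.card F - 1) * (Fintype.card F - 2) ∧
    2 * C.card = Fintype.card F * (Fintype.card F - 1) := by
  classical
  haveI : Fintype (MulChar F ℂ) := Fintype.ofFinite _
  let toL : MulChar F ℂ → IrrCharacter G2 := fun lam => ⟨linDet lam, linDet_isIrr lam⟩
  let toS : MulChar F ℂ → IrrCharacter G2 := fun lam => ⟨St lam, St_isIrr lam⟩
  let toP : MulChar F ℂ × MulChar F ℂ → IrrCharacter G2 := fun p =>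
    if h : p.1 ≠ p.2 then ⟨R p.1 p.2, R_isIrr _ _ h⟩ else ⟨linDet p.1, linDet_isIrr p.1⟩
  set L := Finset.univ.image toL with hL
  set S := Finset.univ.image toS with hS
  set P := (Finset.univ : Finset (MulChar F ℂ)).offDiag.image toP with hP
  set C := ((L ∪ S) ∪ P)ᶜ with hC
  have hLd : ∀ χ ∈ L, (χ : G2 → ℂ) 1 = 1 ∧ ∃ lam, (χ : G2 → ℂ) = linDet lam := fun χ h => by
    obtain ⟨lam, -, rfl⟩ := Finset.mem_image.1 h
    exact ⟨linDet_one lam, lam, rfl⟩
  have hSd : ∀ χ ∈ S, (χ : G2 → ℂ) 1 = qq ∧ ∃ lam, (χ : G2 → ℂ) = St lam := fun χ h => by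
    obtain ⟨lam, -, rfl⟩ := Finset.mem_image.1 h
    exact ⟨St_one lam, lam, rfl⟩
  have hPd : ∀ χ ∈ P, (χ : G2 → ℂ) 1 = qq + 1 ∧ ∃ α β, α ≠ β ∧ (χ : G2 → ℂ) = R α β := fun χ h => by
    obtain ⟨⟨α, β⟩, hp, rfl⟩ := Finset.mem_image.1 h
    have hne : α ≠ β := (Finset.mem_offDiag.1 hp).2.2
    simp only [toP, dif_pos hne]
    exact ⟨R_one α β, α, β, hne, rfl⟩
  have hCc : ∀ χ ∈ C, Cusp (χ : G2 → ℂ) := fun χ h => by
    rw [hC, Finset.mem_compl, Finset.mem_union, Finset.mem_union] at h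
    push Not at h
    rcases irr_cases χ.2 with ⟨lam, e⟩ | ⟨lam, e⟩ | ⟨α, β, hne, e⟩ | hc
    · exact absurd (Finset.mem_image.2 ⟨lam, Finset.mem_univ _, Subtype.ext e.symm⟩) h.1.1
    · exact absurd (Finset.mem_image.2 ⟨lam, Finset.mem_univ _, Subtype.ext e.symm⟩) h.1.2
    · refine absurd (Finset.mem_image.2 ⟨(α, β), Finset.mem_offDiag.2 ⟨Finset.mem_univ _, Finset.mem_univ _, hne⟩, ?_⟩) h.2
      simp only [toP, dif_pos hne]
      exact Subtype.ext e.symm
    · exact hc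
  have hm : ∀ χ : IrrCharacter G2, ∃ m : ℕ, χ ∈ C → 1 ≤ m ∧ (χ : G2 → ℂ) 1 = (((Fintype.card F - 1) * m : ℕ) : ℂ) := fun χ => by
    by_cases h : χ ∈ C
    · obtain ⟨m, hm⟩ := cusp_degree_dvd χ.2 (hCc χ h)
      exact ⟨m, fun _ => hm⟩
    · exact ⟨0, fun h' => absurd h' h⟩
  choose m hm using hm
  have hLc : L.card = Fintype.card F - 1 := by
    rw [hL, Finset.card_image_of_injective _ (fun a b h => linDet_inj (congrArg Subtype.val h)), Finset.card_univ,
      ← Nat.card_eq_fintype_card, card_mulChar]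
  have hSc : S.card = Fintype.card F - 1 := by
    rw [hS, Finset.card_image_of_injective _ (fun a b h => St_inj (congrArg Subtype.val h)), Finset.card_univ,
      ← Nat.card_eq_fintype_card, card_mulChar]
  obtain ⟨n, hn⟩ : ∃ n, Fintype.card F = n + 2 := ⟨Fintype.card F - 2, by have := Fintype.one_lt_card (α := F); omega⟩
  have hPc : 2 * P.card = (Fintype.card F - 1) * (Fintype.card F - 2) := by
    have hoff : (Finset.univ : Finset (MulChar F ℂ)).offDiag.card = (Fintype.card F - 1) * (Fintype.card F - 2) := by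
      rw [Finset.offDiag_card, Finset.card_univ, ← Nat.card_eq_fintype_card, card_mulChar, ← Nat.mul_sub_one]
      rfl
    rw [← hoff, mul_comm, hP, Finset.card_eq_sum_card_image toP]
    rw [Finset.sum_const_nat]
    intro χ hχ
    obtain ⟨⟨α, β⟩, hp, rfl⟩ := Finset.mem_image.1 hχ
    have hne : α ≠ β := (Finset.mem_offDiag.1 hp).2.2
    rw [show ((Finset.univ : Finset (MulChar F ℂ)).offDiag.filter fun x => toP x = toP (α, β)) = {(α, β), (β, α)} from ?_]
    · exact Finset.card_pair (fun h => hne (congrArg Prod.fst h))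
    ext ⟨γ, δ⟩
    simp only [Finset.mem_filter, Finset.mem_offDiag, Finset.mem_univ, true_and, Finset.mem_insert,
      Finset.mem_singleton, Prod.mk.injEq]
    constructor
    · rintro ⟨hgd, e⟩
      simp only [toP, dif_pos hgd, dif_pos hne, Subtype.mk.injEq] at e
      rcases (R_eq_iff _ _ _ _).1 e with ⟨h1, h2⟩ | ⟨h1, h2⟩
      · exact Or.inl ⟨h1, h2⟩
      · exact Or.inr ⟨h1, h2⟩
    · rintro (⟨rfl, rfl⟩ | ⟨rfl, rfl⟩)
      · exact ⟨hne, rfl⟩
      · refine ⟨hne.symm, ?_⟩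
        simp only [toP, dif_pos hne, dif_pos hne.symm]
        exact Subtype.ext (R_swap _ _)
  have hd1 : Disjoint L S := Finset.disjoint_left.2 fun χ h1 h2 => by
    exact qq_ne_one (F := F) ((hSd χ h2).1.symm.trans (hLd χ h1).1)
  have hd2 : Disjoint (L ∪ S) P := Finset.disjoint_left.2 fun χ h1 h2 => by
    have e := (hPd χ h2).1
    rcases Finset.mem_union.1 h1 with h | h
    · rw [(hLd χ h).1] at e
      exact Nat.cast_ne_zero.2 (Fintype.card_ne_zero (α := F)) (by linear_combination -e)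
    · rw [(hSd χ h).1] at e
      exact one_ne_zero (α := ℂ) (by linear_combination -e)
  have hcard : L.card + S.card + P.card + C.card = Fintype.card (IrrCharacter G2) := by
    rw [← Finset.card_union_of_disjoint hd1, ← Finset.card_union_of_disjoint hd2, hC, Finset.card_add_card_compl]
  have htot : Fintype.card (IrrCharacter G2) = (Fintype.card F - 1) + Fintype.card F * (Fintype.card F - 1) := by
    rw [← Nat.card_eq_fintype_card, card_irrCharacter, card_conjClasses, Nat.card_prod, Nat.card_units,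
      Nat.card_eq_fintype_card]
  have hsum : ((L.card + S.card * Fintype.card F ^ 2 + P.card * (Fintype.card F + 1) ^ 2 +
      ∑ χ ∈ C, ((Fintype.card F - 1) * m χ) ^ 2 : ℕ) : ℂ) = (Nat.card G2 : ℂ) := by
    rw [← sum_sq_degree, ← Finset.sum_add_sum_compl ((L ∪ S) ∪ P), ← hC, Finset.sum_union hd2, Finset.sum_union hd1,
      Finset.sum_congr (s₁ := L) (f := fun χ : IrrCharacter G2 => (χ : G2 → ℂ) 1 ^ 2) (g := fun _ => (1 : ℂ)) rfl
        (fun χ h => by rw [(hLd χ h).1, one_pow]),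
      Finset.sum_congr (s₁ := S) (f := fun χ : IrrCharacter G2 => (χ : G2 → ℂ) 1 ^ 2) (g := fun _ => qq ^ 2) rfl
        (fun χ h => by rw [(hSd χ h).1]),
      Finset.sum_congr (s₁ := P) (f := fun χ : IrrCharacter G2 => (χ : G2 → ℂ) 1 ^ 2) (g := fun _ => (qq + 1) ^ 2) rfl
        (fun χ h => by rw [(hPd χ h).1]),
      Finset.sum_congr (s₁ := C) (f := fun χ : IrrCharacter G2 => (χ : G2 → ℂ) 1 ^ 2)
        (g := fun χ => (((Fintype.card F - 1) * m χ : ℕ) : ℂ) ^ 2) rfl (fun χ h => by rw [(hm χ h).2])]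
    simp only [Finset.sum_const, nsmul_eq_mul]
    push_cast
    ring
  have hsumN := Nat.cast_injective (R := ℂ) hsum
  rw [card_GL2] at hsumN
  simp only [mul_pow, ← Finset.mul_sum] at hsumN
  rw [hcard.symm] at htot
  rw [hLc, hSc] at htot hsumN
  rw [hn] at htot hsumN hPc
  simp only [show n + 2 - 1 = n + 1 by omega, show n + 2 - 2 = n by omega] at htot hsumN hPc
  have hCc2 : 2 * C.card = (n + 2) * (n + 1) := by nlinarith
  have hG : ((n + 2) ^ 2 - 1) * ((n + 2) ^ 2 - (n + 2)) = (n + 1) ^ 2 * (n + 3) * (n + 2) := by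
    have e1 : (n + 2) ^ 2 - 1 = (n + 1) * (n + 3) := by
      rw [show (n + 2) ^ 2 = (n + 1) * (n + 3) + 1 by ring, Nat.add_sub_cancel]
    have e2 : (n + 2) ^ 2 - (n + 2) = (n + 1) * (n + 2) := by
      rw [show (n + 2) ^ 2 = (n + 1) * (n + 2) + (n + 2) by ring, Nat.add_sub_cancel]
    rw [e1, e2]; ring
  rw [hG] at hsumN
  have hM : ∑ χ ∈ C, m χ ^ 2 = C.card := by
    refine Nat.eq_of_mul_eq_mul_left (show 0 < 2 * (n + 1) ^ 2 by positivity) ?_
    zify at *
    linear_combination 2 * hsumN - ((n : ℤ) + 1) ^ 2 * hCc2 - ((n : ℤ) + 3) ^ 2 * hPc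
  have hm1 : ∀ χ ∈ C, m χ = 1 := by
    intro χ h
    have hle : ∀ ψ ∈ C, 1 ≤ m ψ ^ 2 := fun ψ hψ => Nat.one_le_pow _ _ (hm ψ hψ).1
    have := (Finset.sum_eq_sum_iff_of_le hle).1 (by rw [hM, Finset.sum_const, smul_eq_mul, mul_one]) χ h
    exact (Nat.pow_eq_one.1 this.symm).resolve_right (by norm_num)
  refine ⟨L, S, P, C, fun χ => ?_, hLd, hSd, hPd, fun χ h => ⟨?_, hCc χ h⟩, hLc, hSc, ?_, ?_⟩
  · by_cases h : χ ∈ (L ∪ S) ∪ P
    · rcases Finset.mem_union.1 h with h | h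
      · rcases Finset.mem_union.1 h with h | h <;> [exact Or.inl h; exact Or.inr (Or.inl h)]
      · exact Or.inr (Or.inr (Or.inl h))
    · exact Or.inr (Or.inr (Or.inr (Finset.mem_compl.2 h)))
  · rw [(hm χ h).2, hm1 χ h, mul_one, Nat.cast_sub Fintype.card_pos, Nat.cast_one]
  · rw [hn]
    simp only [show n + 2 - 1 = n + 1 by omega, show n + 2 - 2 = n by omega]
    exact hPc
  · rw [hn]
    simp only [show n + 2 - 1 = n + 1 by omega]
    exact hCc2

theorem degree_cases {χ : G2 → ℂ} (hχ : IsIrrCharacter G2 χ) :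
    (∃ lam, χ = linDet lam) ∨ (∃ lam, χ = St lam) ∨ (∃ α β, α ≠ β ∧ χ = R α β) ∨ (χ 1 = qq - 1 ∧ Cusp χ) := by
  obtain ⟨L, S, P, C, hall, hL, hS, hP, hC, -⟩ := table (F := F)
  rcases hall ⟨χ, hχ⟩ with h | h | h | h
  · exact Or.inl (hL _ h).2
  · exact Or.inr (Or.inl (hS _ h).2)
  · exact Or.inr (Or.inr (Or.inl (hP _ h).2))
  · exact Or.inr (Or.inr (Or.inr (hC _ h)))

end Cfsg.Agent.GL2Rep.GL
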