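import Cfsg.Agent.GL2Rep.GLClasses
import Cfsg.Agent.Char.Integral
import Cfsg.Agent.Char.Linear
import Mathlib.LinearAlgebra.Matrix.GeneralLinearGroup.Card

/-!
The irreducible characters of GL(2, F): linear, Steinberg, principal series, cuspidal.
-/

set_option autoImplicit false

namespace Cfsg.Agent.GL2Rep.GL

open Cfsg Cfsg.Agent.Char Matrix
open scoped ComplexConjugate

variable {F : Type*} [Field F] [Fintype F] [DecidableEq F]

local notation "G2" => GL (Fin 2) F
local notation "BB" => upperTriangularGL 2 F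
local notation:1024 "↥ₘ" A:1024 => ((A : GL (Fin 2) F) : Matrix (Fin 2) (Fin 2) F)
local notation "qq" => (Fintype.card F : ℂ)

theorem sum_chars (x : Fˣ) [Fintype (MulChar F ℂ)] :
    ∑ α : MulChar F ℂ, α x = if x = 1 then (Nat.card Fˣ : ℂ) else 0 := by
  split_ifs with h
  · subst h
    simp only [Units.val_one, map_one, Finset.sum_const, Finset.card_univ, nsmul_eq_mul, mul_one]
    rw [← Nat.card_eq_fintype_card, MulChar.card_eq_card_units_of_hasEnoughRootsOfUnity]
  · obtain ⟨ψ, hψ⟩ := MulChar.exists_apply_ne_one_of_hasEnoughRootsOfUnity F ℂ (a := (x : F))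
      (fun e => h (Units.ext e))
    have h1 := Fintype.sum_equiv (Equiv.mulLeft ψ) (fun α : MulChar F ℂ => (ψ * α) x) (fun α => α x) (fun _ => rfl)
    simp only [MulChar.mul_apply, ← Finset.mul_sum] at h1
    by_contra hne
    exact hψ ((mul_eq_right₀ hne).1 h1)

theorem sum_chars_conj (a b : Fˣ) [Fintype (MulChar F ℂ)] :
    ∑ α : MulChar F ℂ, α a * conj (α b) = if a = b then (Nat.card Fˣ : ℂ) else 0 := by
  have e : ∀ α : MulChar F ℂ, α a * conj (α b) = α ((a * b⁻¹ : Fˣ) : F) := fun α => by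
    rw [conj_mulChar, ← apply_inv, ← map_mul, ← Units.val_mul]
  simp only [e, sum_chars, mul_inv_eq_one]

theorem norm_apply (lam : MulChar F ℂ) {x : F} (hx : x ≠ 0) : ‖lam x‖ = 1 := by
  refine Complex.norm_eq_one_of_pow_eq_one (n := Fintype.card Fˣ) ?_ Fintype.card_ne_zero
  rw [← map_pow, show x = ((Units.mk0 x hx : Fˣ) : F) from rfl, ← Units.val_pow_eq_pow_val, pow_card_eq_one,
    Units.val_one, map_one]

omit [Fintype F] [DecidableEq F] in
/-- The linear character `g ↦ lam (det g)`. -/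
noncomputable def linDet (lam : MulChar F ℂ) : G2 → ℂ := fun g => lam (↥ₘ g).det

theorem linDet_isIrr (lam : MulChar F ℂ) : IsIrrCharacter G2 (linDet lam) := by
  have e : linDet lam = fun g : G2 => (((lam.toUnitHom).comp Matrix.GeneralLinearGroup.det) g : ℂ) := by
    funext g
    simp only [linDet, MonoidHom.comp_apply, MulChar.coe_toUnitHom]
    rfl
  rw [e]
  exact isIrrCharacter_hom _

theorem linDet_one (lam : MulChar F ℂ) : linDet lam 1 = 1 := by simp [linDet]

theorem linDet_inj {lam mu : MulChar F ℂ} (h : linDet lam = linDet mu) : lam = mu :=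
  MulChar.ext fun a => by simpa [linDet, coe_bEl, det_fin_two_of] using congrFun h (bEl a 1 0)

variable [Fintype (GL (Fin 2) F)]

theorem R_one (α β : MulChar F ℂ) : R α β 1 = qq + 1 := by
  rw [R_scalar α β 1 1 (by simp)]; simp

theorem classInner_R_eq_sum (α β : MulChar F ℂ) {χ : G2 → ℂ} (hχ : IsClassFunction G2 χ) :
    classInner χ (R α β) =
      (Nat.card BB : ℂ)⁻¹ * ∑ p : Fˣ × Fˣ, (∑ e : F, χ (bEl p.1 p.2 e)) * conj (α p.1 * β p.2) := by
  haveI := Fintype.ofFinite BB
  rw [R, classInner_indFun_right _ _ hχ, classInner,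
    ← bEl_bijective.sum_comp (fun b : BB => χ b * conj (th α β b)), Fintype.sum_prod_type]
  congr 1
  refine Finset.sum_congr rfl fun p _ => ?_
  rw [Finset.sum_mul]
  refine Finset.sum_congr rfl fun e _ => ?_
  simp [th, coe_bEl]

open scoped Classical in
theorem inner_linDet_R (lam α β : MulChar F ℂ) :
    classInner (linDet lam) (R α β) = if lam = α ∧ lam = β then 1 else 0 := by
  rw [classInner_R_eq_sum α β (isClassFunction_of_isIrr (linDet_isIrr lam)),
    ← Nat.card_congr (Equiv.ofBijective _ bEl_bijective)]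
  have e1 : ∀ p : Fˣ × Fˣ, (∑ e : F, linDet lam (bEl p.1 p.2 e)) * conj (α p.1 * β p.2) =
      qq * ((lam p.1 * conj (α p.1)) * (lam p.2 * conj (β p.2))) := fun p => by
    simp [linDet, coe_bEl, det_fin_two_of]; ring
  simp only [e1, ← Finset.mul_sum, Fintype.sum_prod_type, ← Finset.sum_mul, sum_mul_conj,
    Nat.card_eq_fintype_card, Fintype.card_prod, Nat.cast_mul]
  have h0 : qq ≠ 0 := Nat.cast_ne_zero.2 Fintype.card_ne_zero
  have h1 : (Fintype.card Fˣ : ℂ) ≠ 0 := Nat.cast_ne_zero.2 Fintype.card_ne_zero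
  have key : ∀ (P Q : Prop) [Decidable P] [Decidable Q] (N : ℂ),
      (if P then N else 0) * (if Q then N else 0) = N * N * (if P ∧ Q then 1 else 0) := by
    intro P Q _ _ N
    by_cases hP : P <;> by_cases hQ : Q <;> simp [hP, hQ]
  rw [key]
  field_simp

/-- The Steinberg character twisted by `lam ∘ det`. -/
noncomputable def St (lam : MulChar F ℂ) : G2 → ℂ := R lam lam - linDet lam

theorem St_one (lam : MulChar F ℂ) : St lam 1 = qq := by
  rw [St, Pi.sub_apply, R_one, linDet_one, add_sub_cancel_right]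

theorem St_isIrr (lam : MulChar F ℂ) : IsIrrCharacter G2 (St lam) := by
  classical
  refine IsGen.isIrr_of_norm_one (isGeneralized_sub (isGeneralized_of_isCharacter (R_isCharacter lam lam))
    (isGeneralized_of_isCharacter (IsIrr.isCharacter (linDet_isIrr lam)))) ?_ ?_
  · rw [St]
    have e : classInner (R lam lam) (linDet lam) = 1 := by
      rw [← classInner_conj_symm, inner_linDet_R, if_pos ⟨rfl, rfl⟩, map_one]
    rw [classInner_sub_left, classInner_sub_right, classInner_sub_right, inner_R, inner_linDet_R, e,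
      classInner_irr_self (linDet_isIrr lam), if_pos ⟨rfl, rfl⟩]
    norm_num
  · show 0 < (St lam 1).re
    rw [St_one, Complex.natCast_re]
    exact Nat.cast_pos.2 Fintype.card_pos

theorem R_diag_eq (lam : MulChar F ℂ) : R lam lam = St lam + linDet lam := (sub_add_cancel _ _).symm

theorem qq_ne_one : qq ≠ 1 := by exact_mod_cast (Fintype.one_lt_card (α := F)).ne'

theorem St_inj {lam mu : MulChar F ℂ} (h : St lam = St mu) : lam = mu := by
  classical
  by_contra hne
  have h5 : classInner (R lam lam) (St lam) = classInner (R lam lam) (St mu) := by rw [h]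
  rw [St, St, classInner_sub_right, classInner_sub_right, inner_R, inner_R,
    ← classInner_conj_symm (linDet lam), ← classInner_conj_symm (linDet mu), inner_linDet_R, inner_linDet_R,
    if_pos ⟨rfl, rfl⟩, if_neg (fun x : lam = mu ∧ lam = mu => hne x.1),
    if_neg (fun x : mu = lam ∧ mu = lam => hne x.1.symm)] at h5
  simp at h5

/-- A character is cuspidal if it is orthogonal to all principal series characters. -/
def Cusp (χ : G2 → ℂ) : Prop := ∀ α β : MulChar F ℂ, classInner χ (R α β) = 0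

theorem irr_cases {χ : G2 → ℂ} (hχ : IsIrrCharacter G2 χ) :
    (∃ lam, χ = linDet lam) ∨ (∃ lam, χ = St lam) ∨ (∃ α β, α ≠ β ∧ χ = R α β) ∨ Cusp χ := by
  by_cases hc : Cusp χ
  · exact Or.inr (Or.inr (Or.inr hc))
  unfold Cusp at hc
  push Not at hc
  obtain ⟨α, β, h⟩ := hc
  by_cases he : α = β
  · subst he
    rw [R_diag_eq, classInner_add_right] at h
    by_cases h1 : χ = linDet α
    · exact Or.inl ⟨α, h1⟩
    · refine Or.inr (Or.inl ⟨α, ?_⟩)
      by_contra h2
      rw [classInner_irr_ne hχ (St_isIrr α) h2, classInner_irr_ne hχ (linDet_isIrr α) h1, add_zero] at h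
      exact h rfl
  · refine Or.inr (Or.inr (Or.inl ⟨α, β, he, ?_⟩))
    by_contra h2
    exact h (classInner_irr_ne hχ (R_isIrr α β he) h2)

theorem cusp_sum_eq_zero {χ : G2 → ℂ} (hχ : IsClassFunction G2 χ) (hc : Cusp χ) (a d : Fˣ) :
    ∑ e : F, χ (bEl a d e) = 0 := by
  classical
  haveI : Fintype (MulChar F ℂ) := Fintype.ofFinite _
  have hB : (Nat.card BB : ℂ)⁻¹ ≠ 0 := inv_ne_zero (Nat.cast_ne_zero.2 Nat.card_pos.ne')
  have h : ∀ α β : MulChar F ℂ, ∑ p : Fˣ × Fˣ, (∑ e : F, χ (bEl p.1 p.2 e)) * conj (α p.1 * β p.2) = 0 := by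
    intro α β
    have := hc α β
    rw [classInner_R_eq_sum α β hχ] at this
    exact (mul_eq_zero.1 this).resolve_left hB
  have h0 : ∑ α : MulChar F ℂ, ∑ β : MulChar F ℂ, (α a * β d) *
      ∑ p : Fˣ × Fˣ, (∑ e : F, χ (bEl p.1 p.2 e)) * conj (α p.1 * β p.2) = 0 :=
    Finset.sum_eq_zero fun α _ => Finset.sum_eq_zero fun β _ => by rw [h α β, mul_zero]
  simp only [Finset.mul_sum] at h0
  rw [Finset.sum_congr rfl fun α _ => Finset.sum_comm, Finset.sum_comm] at h0
  have key : ∀ p : Fˣ × Fˣ, ∑ α : MulChar F ℂ, ∑ β : MulChar F ℂ,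
      α a * β d * ((∑ e : F, χ (bEl p.1 p.2 e)) * conj (α p.1 * β p.2)) =
      (∑ e : F, χ (bEl p.1 p.2 e)) * ((∑ α : MulChar F ℂ, α a * conj (α p.1)) * ∑ β : MulChar F ℂ, β d * conj (β p.2)) := by
    intro p
    simp only [Finset.mul_sum, Finset.sum_mul, map_mul]
    rw [Finset.sum_comm (s := (Finset.univ : Finset (MulChar F ℂ))) (t := (Finset.univ : Finset (MulChar F ℂ)))]
    refine Finset.sum_congr rfl fun α _ => Finset.sum_congr rfl fun β _ => Finset.sum_congr rfl fun e _ => ?_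
    ring
  rw [Finset.sum_congr rfl fun p _ => key p, Fintype.sum_eq_single (a, d)] at h0
  · rw [sum_chars_conj, sum_chars_conj, if_pos rfl, if_pos rfl] at h0
    refine (mul_eq_zero.1 h0).resolve_right ?_
    exact mul_ne_zero (Nat.cast_ne_zero.2 Nat.card_pos.ne') (Nat.cast_ne_zero.2 Nat.card_pos.ne')
  · intro p hp
    rw [sum_chars_conj, sum_chars_conj]
    by_cases h1 : a = p.1
    · rw [if_neg (fun h2 : d = p.2 => hp (Prod.ext h1.symm h2.symm)), mul_zero, mul_zero]
    · rw [if_neg h1, zero_mul, mul_zero]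

theorem cusp_unipotent {χ : G2 → ℂ} (hχ : IsClassFunction G2 χ) (hc : Cusp χ) (u : G2)
    (hu : ↥ₘ u = !![1, 1; 0, 1]) : χ 1 + ((Fintype.card F : ℂ) - 1) * χ u = 0 := by
  have h := cusp_sum_eq_zero hχ hc 1 1
  rw [← Finset.add_sum_erase _ _ (Finset.mem_univ (0 : F))] at h
  have h1 : bEl (1 : Fˣ) 1 (0 : F) = 1 := Units.ext (by simp [coe_bEl, Matrix.one_fin_two])
  rw [h1, Finset.sum_congr rfl (g := fun _ => χ u)] at h
  · rw [Finset.sum_const, Finset.card_erase_of_mem (Finset.mem_univ _), Finset.card_univ, nsmul_eq_mul,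
      Nat.cast_sub Fintype.card_pos, Nat.cast_one] at h
    exact h
  · intro e he
    have he0 : e ≠ 0 := (Finset.mem_erase.1 he).1
    rw [← hχ u (bEl (Units.mk0 e he0) 1 0)]
    congr 1
    rw [eq_mul_inv_iff_mul_eq]
    refine Units.ext ?_
    rw [Units.val_mul, Units.val_mul, coe_bEl, coe_bEl, hu]
    ext i j; fin_cases i <;> fin_cases j <;> simp [Matrix.mul_apply, Fin.sum_univ_two]

theorem cusp_degree_dvd {χ : G2 → ℂ} (hχ : IsIrrCharacter G2 χ) (hc : Cusp χ) :
    ∃ m : ℕ, 1 ≤ m ∧ χ 1 = (((Fintype.card F - 1) * m : ℕ) : ℂ) := by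
  have h := cusp_unipotent (isClassFunction_of_isIrr hχ) hc (bEl 1 1 1) (by simp [coe_bEl])
  obtain ⟨d, hd0, hd⟩ := IsIrr.degree hχ
  have hn : Fintype.card F - 1 ≠ 0 := by have := Fintype.one_lt_card (α := F); omega
  have hnc : ((Fintype.card F - 1 : ℕ) : ℂ) = qq - 1 := by rw [Nat.cast_sub Fintype.card_pos, Nat.cast_one]
  have hdvd : Fintype.card F - 1 ∣ d := by
    refine nat_dvd_of_isIntegral hn ?_
    have : ((d : ℂ) / ((Fintype.card F - 1 : ℕ) : ℂ)) = -χ (bEl 1 1 1) := by
      rw [div_eq_iff (Nat.cast_ne_zero.2 hn), hnc]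
      rw [hd] at h
      linear_combination h
    rw [this]
    exact (IsChar.isIntegral (IsIrr.isCharacter hχ) _).neg
  obtain ⟨m, rfl⟩ := hdvd
  exact ⟨m, Nat.pos_of_ne_zero fun e => by simp [e] at hd0, hd⟩

end Cfsg.Agent.GL2Rep.GL
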