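import Cfsg.Agent.Char.ClassBound
import Cfsg.Agent.GL2Rep.SLParity
import Cfsg.Agent.SL2Class.Torus

/-!
# Odd degree characters of the small groups occurring as Sylow normalisers of SL(2, q)
-/

set_option autoImplicit false
set_option linter.unusedSectionVars false
set_option linter.style.haveILetI false

namespace Cfsg.Agent.GL2Rep.McKayAux

open Cfsg Cfsg.Agent.Char
open scoped commutatorElement

universe u v

variable {N : Type u} [Group N] [Finite N]

theorem deg_cast (χ : IrrCharacter N) : (χ : N → ℂ) 1 = (charDegree (χ : N → ℂ) : ℂ) ∧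
    0 < charDegree (χ : N → ℂ) := by
  obtain ⟨n, hn, h⟩ := IsIrr.degree χ.2
  have : charDegree (χ : N → ℂ) = n := by simp [charDegree, h]
  exact ⟨by rw [this, h], this.symm ▸ hn⟩

theorem sum_sq_nat [Fintype (IrrCharacter N)] :
    ∑ χ : IrrCharacter N, charDegree (χ : N → ℂ) ^ 2 = Nat.card N := by
  have h := sum_sq_degree (G := N)
  apply Nat.cast_injective (R := ℂ)
  push_cast
  rw [← h]
  exact Finset.sum_congr (Finset.ext fun _ => by simp) fun χ _ => by rw [(deg_cast χ).1]

/-- Counting is transported along isomorphisms. -/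
theorem card_congr {M : Type v} [Group M] (e : M ≃* N) (P : ℕ → Prop) :
    Nat.card {χ : IrrCharacter N // P (charDegree (χ : N → ℂ))} =
      Nat.card {ψ : IrrCharacter M // P (charDegree (ψ : M → ℂ))} := by
  let f : IrrCharacter N ≃ IrrCharacter M :=
    { toFun := fun χ => ⟨fun m => (χ : N → ℂ) (e m), (isIrrCharacter_comp_equiv e).2 χ.2⟩
      invFun := fun ψ => ⟨fun n => (ψ : M → ℂ) (e.symm n), (isIrrCharacter_comp_equiv e.symm).2 ψ.2⟩
      left_inv := fun χ => Subtype.ext (funext fun n => by simp)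
      right_inv := fun ψ => Subtype.ext (funext fun n => by simp) }
  refine Nat.card_congr (f.subtypeEquiv fun χ => ?_)
  simp [charDegree, f]

theorem card_all (P : ℕ → Prop) (h : ∀ χ : IrrCharacter N, P (charDegree (χ : N → ℂ))) :
    Nat.card {χ : IrrCharacter N // P (charDegree (χ : N → ℂ))} = Nat.card (ConjClasses N) := by
  rw [← card_irrCharacter]
  exact Nat.card_congr (Equiv.subtypeUnivEquiv h)

/-- A dicyclic group has exactly four odd degree characters. -/
theorem dicyclic (C : Subgroup N) (hcomm : ∀ a ∈ C, ∀ b ∈ C, a * b = b * a) {w z : N} (hw : w ∉ C)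
    (hall : ∀ x, x ∈ C ∨ w * x ∈ C) (hinv : ∀ c ∈ C, w * c * w⁻¹ = c⁻¹) (hww : w * w = z)
    (hz : z ∈ C) (hz1 : z ≠ 1) (hz2 : ∀ c ∈ C, c * c = 1 → c = 1 ∨ c = z) (hzz : z * z = 1) {m : ℕ}
    (hm : Nat.card C = 2 * m) :
    Nat.card {χ : IrrCharacter N // ¬ 2 ∣ charDegree (χ : N → ℂ)} = 4 := by
  classical
  obtain ⟨hk, hN⟩ := SL2Class.card_conjClasses_dicyclic C hcomm hw hall hinv hww hz hz1 hz2 hzz hm
  have hpos : 0 < Nat.card C := Nat.card_pos
  have hidx : C.index = 2 := by
    refine Nat.eq_of_mul_eq_mul_right hpos ?_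
    rw [C.index_mul_card, hN, hm]; ring
  haveI := Subgroup.normal_of_index_eq_two hidx
  haveI := Fintype.ofFinite N
  haveI := Fintype.ofFinite C
  have hd : ∀ χ : IrrCharacter N, charDegree (χ : N → ℂ) = 1 ∨ charDegree (χ : N → ℂ) = 2 := by
    intro χ
    obtain ⟨θ, hθ⟩ := exists_constituent_res (N := C) χ.2
    obtain ⟨k, hk, hdvd⟩ := ProjExt.exists_ratio_dvd_index χ.2 θ.2 hθ
    rw [IsIrr.degree_one_of_comm θ.2 (fun a b => Subtype.ext (hcomm a a.2 b b.2)), mul_one] at hk
    have : charDegree (χ : N → ℂ) = k := by simp [charDegree, hk]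
    rw [this]
    rw [hidx] at hdvd
    exact (Nat.dvd_prime Nat.prime_two).1 hdvd
  rw [Nat.card_eq_fintype_card, Fintype.card_subtype]
  have h1 : ∀ χ : IrrCharacter N, charDegree (χ : N → ℂ) ^ 2 =
      4 - 3 * (if ¬ 2 ∣ charDegree (χ : N → ℂ) then 1 else 0) := fun χ => by
    rcases hd χ with h | h <;> simp [h]
  have h2 : ∑ χ : IrrCharacter N, charDegree (χ : N → ℂ) ^ 2 +
      3 * (Finset.univ.filter fun χ : IrrCharacter N => ¬ 2 ∣ charDegree (χ : N → ℂ)).card =
      4 * Fintype.card (IrrCharacter N) := by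
    rw [Finset.card_filter, Finset.mul_sum, ← Finset.sum_add_distrib, Fintype.card, Finset.card_eq_sum_ones,
      Finset.mul_sum]
    exact Finset.sum_congr rfl fun χ _ => by rw [h1]; split_ifs <;> simp
  rw [sum_sq_nat, hN, ← Nat.card_eq_fintype_card, card_irrCharacter, hk] at h2
  omega

/-- A group of order 24 with a self-centralising normal subgroup of index 3 containing a central
commutator involution has four odd degree characters. -/
theorem order24 (hN : Nat.card N = 24) (S : Subgroup N) [S.Normal] (hS : S.index = 3)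
    (hC : ∀ x : N, (∀ s ∈ S, x * s = s * x) → x * x = 1) {z : N} (hzc : z ∈ Subgroup.center N)
    (hz1 : z ≠ 1) (hzz : z * z = 1) (hzS : z ∈ S) (hzK : z ∈ commutator N) :
    Nat.card {χ : IrrCharacter N // ¬ 2 ∣ charDegree (χ : N → ℂ)} = 4 := by
  classical
  haveI : Fact (Nat.Prime 2) := ⟨Nat.prime_two⟩
  haveI : Fact (Nat.Prime 3) := ⟨Nat.prime_three⟩
  haveI := Fintype.ofFinite N
  set K := commutator N with hK
  have hKS : K ≤ S := by
    haveI : IsCyclic (N ⧸ S) := isCyclic_of_prime_card (p := 3) (by rw [← Subgroup.index_eq_card, hS])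
    rw [hK, commutator_def, Subgroup.commutator_le]
    intro a _ b _
    rw [← QuotientGroup.eq_one_iff, ← QuotientGroup.mk'_apply, map_commutatorElement]
    exact commutatorElement_eq_one_iff_mul_comm.2 (IsCyclic.commGroup.mul_comm _ _)
  have h3a : 3 ∣ K.index := hS ▸ Subgroup.index_dvd_of_le hKS
  have hz2 : orderOf z = 2 := orderOf_eq_prime (by rw [sq, hzz]) hz1
  have hK2 : 2 ∣ Nat.card K := by
    have := Subgroup.orderOf_dvd_natCard K hzK
    rwa [hz2] at this
  have ha12 : K.index ∣ 12 := by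
    obtain ⟨c, hc⟩ := hK2
    have := K.card_mul_index
    rw [hc, hN] at this
    exact ⟨c, by linarith⟩
  -- the linear characters do not detect z
  have hne12 : K.index ≠ 12 := by
    intro h12
    have hcK : Nat.card K = 2 := by
      have := K.card_mul_index
      rw [h12, hN] at this
      omega
    have hKz : ∀ k ∈ K, k = 1 ∨ k = z := by
      intro k hk
      have he : (K : Set N) = {1, z} := by
        refine (Set.eq_of_subset_of_ncard_le (Set.insert_subset (one_mem K) (Set.singleton_subset_iff.2 hzK)) ?_).symm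
        rw [Set.ncard_pair hz1.symm, ← Nat.card_coe_set_eq]
        exact hcK.le
      have : k ∈ ({1, z} : Set N) := he ▸ hk
      simpa using this
    obtain ⟨x, hx⟩ := exists_prime_orderOf_dvd_card' (G := N) 3 (by rw [hN]; norm_num)
    have hx3 : x ^ 3 = 1 := hx ▸ pow_orderOf_eq_one x
    have hxx := hC x fun s _ => by
      have hm : ⁅x, s⁆ ∈ K := Subgroup.commutator_mem_commutator (Subgroup.mem_top x) (Subgroup.mem_top s)
      rcases hKz _ hm with h | h
      · exact commutatorElement_eq_one_iff_mul_comm.1 h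
      · exfalso
        have e : x * s * x⁻¹ = z * s := by rw [← h, commutatorElement_def]; group
        have hzx : ∀ y, y * z = z * y := Subgroup.mem_center_iff.1 hzc
        have e2 : x ^ 2 * s * (x ^ 2)⁻¹ = s := by
          calc x ^ 2 * s * (x ^ 2)⁻¹ = x * (x * s * x⁻¹) * x⁻¹ := by rw [sq]; group
            _ = x * (z * s) * x⁻¹ := by rw [e]
            _ = z * (x * s * x⁻¹) := by rw [← mul_assoc, hzx]; group
            _ = z * (z * s) := by rw [e]
            _ = s := by rw [← mul_assoc, hzz, one_mul]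
        have e3 : x ^ 3 * s * (x ^ 3)⁻¹ = z * s := by
          calc x ^ 3 * s * (x ^ 3)⁻¹ = x * (x ^ 2 * s * (x ^ 2)⁻¹) * x⁻¹ := by group
            _ = z * s := by rw [e2, e]
        rw [hx3] at e3
        simp only [one_mul, inv_one, mul_one] at e3
        exact hz1 (mul_eq_right.1 e3.symm)
    have : orderOf x ∣ 2 := orderOf_dvd_of_pow_eq_one (by rw [sq, hxx])
    rw [hx] at this
    omega
  let D : IrrCharacter N → ℕ := fun χ => charDegree (χ : N → ℂ)
  let T : Finset (IrrCharacter N) := Finset.univ.filter fun χ => (χ : N → ℂ) z = (χ : N → ℂ) 1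
  have hlin : ∀ χ : IrrCharacter N, D χ = 1 → (χ : N → ℂ) z = (χ : N → ℂ) 1 := fun χ h => by
    have h1 : (χ : N → ℂ) 1 = 1 := by rw [(deg_cast χ).1]; exact_mod_cast h
    obtain ⟨f, hf⟩ := IsChar.exists_hom (IsIrr.isCharacter χ.2) h1
    rw [h1, hf]
    simp [hom_commutator_eq_one f hzK]
  have hsum : ∑ χ ∈ T, D χ ^ 2 = 12 := by
    have h1 := sum_sq_degree (G := N)
    have h2 := regular_eq_sum z
    rw [if_neg hz1] at h2
    have h3 : ((2 * ∑ χ ∈ T, D χ ^ 2 : ℕ) : ℂ) = ((24 : ℕ) : ℂ) := by
      rw [← hN, ← add_zero ((Nat.card N : ℕ) : ℂ), ← h1, ← h2, Finset.sum_filter]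
      push_cast
      rw [Finset.mul_sum, ← Finset.sum_add_distrib]
      refine Finset.sum_congr (Finset.ext fun _ => by simp) fun χ _ => ?_
      rcases central_involution χ.2 hzc hzz with h | h
      · rw [h, if_pos rfl]
        push_cast
        rw [← (deg_cast χ).1]; ring
      · rw [h, if_neg]
        · ring
        · intro e; exact IsIrr.one_ne_zero χ.2 (by linear_combination (-e) / 2)
    have := Nat.cast_injective (R := ℂ) h3
    omega
  let L := Finset.univ.filter fun χ : IrrCharacter N => D χ = 1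
  have hL : L.card = K.index := by
    rw [← card_linear, Nat.card_eq_fintype_card, Fintype.card_subtype]
    refine congrArg Finset.card (Finset.filter_congr fun χ _ => ?_)
    rw [(deg_cast χ).1]
    exact_mod_cast Iff.rfl
  have hLT : L ⊆ T := fun χ h => Finset.mem_filter.2 ⟨Finset.mem_univ _, hlin χ (Finset.mem_filter.1 h).2⟩
  have hsplit : L.card + ∑ χ ∈ T \ L, D χ ^ 2 = 12 := by
    rw [← hsum, ← Finset.sum_sdiff hLT, add_comm, Finset.card_eq_sum_ones]
    congr 1
    exact Finset.sum_congr rfl fun χ hχ => by rw [(Finset.mem_filter.1 hχ).2, one_pow]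
  have hge : ∀ χ, χ ∉ L → 2 ≤ D χ := fun χ h => by
    have h1 := (deg_cast χ).2
    have h2 : D χ ≠ 1 := fun e => h (Finset.mem_filter.2 ⟨Finset.mem_univ _, e⟩)
    show 2 ≤ D χ
    have : 0 < D χ := h1
    omega
  have hle : ∀ χ ∈ T \ L, D χ ^ 2 ≤ 12 - L.card := fun χ h => by
    have := Finset.single_le_sum (f := fun χ => D χ ^ 2) (fun _ _ => Nat.zero_le _) h
    omega
  have hdiv : K.index ∈ Nat.divisors 12 := Nat.mem_divisors.2 ⟨ha12, by norm_num⟩
  have ha : K.index = 3 := by
    have hsm : K.index = 3 ∨ K.index = 6 := by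
      rw [show Nat.divisors 12 = {1, 2, 3, 4, 6, 12} by decide] at hdiv
      simp only [Finset.mem_insert, Finset.mem_singleton] at hdiv
      omega
    refine hsm.resolve_right fun h6 => ?_
    have h4 : ∀ χ ∈ T \ L, D χ ^ 2 = 4 := fun χ h => by
      have h1 := hge χ (Finset.mem_sdiff.1 h).2
      have h2 := hle χ h
      have : D χ < 3 := by
        by_contra hc
        have : 3 ^ 2 ≤ D χ ^ 2 := Nat.pow_le_pow_left (by omega) 2
        omega
      rw [show D χ = 2 by omega]; norm_num
    rw [Finset.sum_congr rfl h4, Finset.sum_const, smul_eq_mul] at hsplit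
    omega
  have h9 : ∀ χ ∈ T \ L, D χ = 2 ∨ D χ = 3 := fun χ h => by
    have h1 := hge χ (Finset.mem_sdiff.1 h).2
    have h2 := hle χ h
    have : D χ < 4 := by
      by_contra hc
      have : 4 ^ 2 ≤ D χ ^ 2 := Nat.pow_le_pow_left (by omega) 2
      omega
    omega
  let A := (T \ L).filter fun χ => D χ = 3
  have hA : A.card = 1 ∧ ∀ χ ∈ T \ L, D χ = 3 := by
    have hs : ∑ χ ∈ T \ L, D χ ^ 2 = 9 * A.card + 4 * ((T \ L).filter fun χ => ¬ D χ = 3).card := by
      rw [← Finset.sum_filter_add_sum_filter_not (T \ L) (fun χ => D χ = 3),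
        Finset.sum_congr rfl (fun χ hχ => by rw [(Finset.mem_filter.1 hχ).2]),
        Finset.sum_congr (rfl : ((T \ L).filter fun χ => ¬ D χ = 3) = _) (fun χ hχ => by
          rw [(h9 χ (Finset.mem_filter.1 hχ).1).resolve_right (Finset.mem_filter.1 hχ).2]),
        Finset.sum_const, Finset.sum_const]
      simp only [smul_eq_mul, A]
      ring
    have h0 : ((T \ L).filter fun χ => ¬ D χ = 3).card = 0 := by omega
    refine ⟨by omega, fun χ hχ => by_contra fun hn => ?_⟩
    exact Finset.notMem_empty χ (Finset.card_eq_zero.1 h0 ▸ Finset.mem_filter.2 ⟨hχ, hn⟩)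
  have hTc : T.card = 4 := by
    have e : A = T \ L := Finset.filter_true_of_mem hA.2
    rw [← Finset.card_sdiff_add_card_eq_card hLT, ← e, hA.1, hL, ha]
  rw [Nat.card_eq_fintype_card, Fintype.card_subtype, ← hTc]
  congr 1
  ext χ
  simp only [Finset.mem_filter, Finset.mem_univ, true_and, T]
  constructor
  · intro hodd
    by_contra hn
    -- a faithful character of odd degree would have degree 3, leaving 3 for the others
    have hnd : D χ ≠ 1 := fun e => hn (hlin χ e)
    have hsum' : ∑ ψ ∈ Tᶜ, D ψ ^ 2 = 12 := by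
      have := Finset.sum_add_sum_compl T (fun ψ => D ψ ^ 2)
      rw [hsum, sum_sq_nat, hN] at this
      omega
    have hχT : χ ∈ Tᶜ := Finset.mem_compl.2 fun h => hn (Finset.mem_filter.1 h).2
    have hχ3 : D χ = 3 := by
      have h1 := hge χ fun h => hn (hlin χ (Finset.mem_filter.1 h).2)
      have h2 := Finset.single_le_sum (f := fun χ => D χ ^ 2) (fun _ _ => Nat.zero_le _) hχT
      rw [hsum'] at h2
      have : D χ < 4 := by
        by_contra hc
        have : 4 ^ 2 ≤ D χ ^ 2 := Nat.pow_le_pow_left (by omega) 2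
        omega
      have : ¬ 2 ∣ D χ := hodd
      omega
    have hrest : ∑ ψ ∈ Tᶜ.erase χ, D ψ ^ 2 = 3 := by
      have := Finset.add_sum_erase Tᶜ (fun ψ => D ψ ^ 2) hχT
      simp only [hχ3] at this
      omega
    rcases (Tᶜ.erase χ).eq_empty_or_nonempty with he | ⟨ψ, hψ⟩
    · simp [he] at hrest
    · have h1 := hge ψ fun h => (Finset.mem_compl.1 (Finset.mem_of_mem_erase hψ)) (hLT h)
      have h2 := Finset.single_le_sum (f := fun χ => D χ ^ 2) (fun _ _ => Nat.zero_le _) hψ
      have h3 : 2 ^ 2 ≤ D ψ ^ 2 := Nat.pow_le_pow_left h1 2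
      omega
  · intro h
    by_cases hL' : χ ∈ L
    · have : D χ = 1 := (Finset.mem_filter.1 hL').2
      show ¬ 2 ∣ D χ
      omega
    · have : D χ = 3 := hA.2 χ (Finset.mem_sdiff.2 ⟨Finset.mem_filter.2 ⟨Finset.mem_univ _, h⟩, hL'⟩)
      show ¬ 2 ∣ D χ
      omega

end Cfsg.Agent.GL2Rep.McKayAux
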