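import Cfsg.Agent.GL2Rep.GL
import Mathlib.LinearAlgebra.Matrix.SpecialLinearGroup

/-!
The principal series of SL(2, F).
-/

set_option autoImplicit false

namespace Cfsg.Agent.GL2Rep.SL

open Cfsg Cfsg.Agent.Char Matrix
open scoped ComplexConjugate

variable {F : Type*} [Field F]

local notation "S2" => Matrix.SpecialLinearGroup (Fin 2) F

variable (F) in
/-- The upper triangular subgroup of SL(2, F). -/
abbrev Borel : Subgroup (Matrix.SpecialLinearGroup (Fin 2) F) :=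
  (upperTriangularGL 2 F).comap Matrix.SpecialLinearGroup.toGL

local notation "BB" => Borel F
local notation:1024 "↥ₘ" A:1024 => ((A : Matrix.SpecialLinearGroup (Fin 2) F) : Matrix (Fin 2) (Fin 2) F)

theorem mem_B {g : S2} : g ∈ BB ↔ (↥ₘ g) 1 0 = 0 := by
  rw [Subgroup.mem_comap, GL.mem_B]
  rfl

theorem det_eq (g : S2) : (↥ₘ g) 0 0 * (↥ₘ g) 1 1 - (↥ₘ g) 0 1 * (↥ₘ g) 1 0 = 1 := by
  rw [← det_fin_two]
  exact g.2

/-- Representatives for the cosets of the upper triangular subgroup. -/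
def rep : Option F → S2
  | none => 1
  | some c => ⟨!![c, -1; 1, 0], by simp [det_fin_two_of]⟩

theorem coe_rep (c : F) : ↥ₘ(rep (some c)) = !![c, -1; 1, 0] := rfl

theorem coe_rep_inv (c : F) : ↥ₘ(rep (some c))⁻¹ = !![0, 1; -1, c] := by
  rw [Matrix.SpecialLinearGroup.coe_inv, coe_rep, adjugate_fin_two_of]
  simp

theorem rep_inv_mul (c : F) (g : S2) : ↥ₘ((rep (some c))⁻¹ * g) =
    !![(↥ₘ g) 1 0, (↥ₘ g) 1 1; -(↥ₘ g) 0 0 + c * (↥ₘ g) 1 0, -(↥ₘ g) 0 1 + c * (↥ₘ g) 1 1] := by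
  rw [Matrix.SpecialLinearGroup.coe_mul, coe_rep_inv]
  ext i j; fin_cases i <;> fin_cases j <;> simp [Matrix.mul_apply, Fin.sum_univ_two]

theorem rep_conj (c : F) (g : S2) : ↥ₘ((rep (some c))⁻¹ * g * rep (some c)) =
    !![(↥ₘ g) 1 1 + (↥ₘ g) 1 0 * c, -(↥ₘ g) 1 0;
      -((↥ₘ g) 0 1 + ((↥ₘ g) 0 0 - (↥ₘ g) 1 1) * c - (↥ₘ g) 1 0 * c * c), (↥ₘ g) 0 0 - c * (↥ₘ g) 1 0] := by
  rw [Matrix.SpecialLinearGroup.coe_mul, rep_inv_mul, coe_rep]
  ext i j; fin_cases i <;> fin_cases j <;> simp [Matrix.mul_apply, Fin.sum_univ_two] <;> ring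

theorem rep_bijective : Function.Bijective (fun o => (QuotientGroup.mk (rep o) : S2 ⧸ BB)) := by
  refine transversal_bijective ?_ ?_
  · intro i j h
    match i, j with
    | none, none => rfl
    | none, some c =>
      exfalso
      rw [mem_B, show (rep (none : Option F))⁻¹ * rep (some c) = rep (some c) by
        rw [show rep (none : Option F) = 1 from rfl, inv_one, one_mul], coe_rep] at h
      simp at h
    | some c, none =>
      exfalso
      rw [mem_B, rep_inv_mul] at h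
      simp [rep] at h
    | some c, some d =>
      rw [mem_B, rep_inv_mul, coe_rep] at h
      simp at h
      rw [show c = d by linear_combination h]
  · intro g
    by_cases h : (↥ₘ g) 1 0 = 0
    · exact ⟨none, by rw [show (rep (none : Option F))⁻¹ * g = g by simp [rep], mem_B]; exact h⟩
    · refine ⟨some ((↥ₘ g) 0 0 / (↥ₘ g) 1 0), ?_⟩
      rw [mem_B, rep_inv_mul]
      simp [div_mul_cancel₀ _ h]

/-- The linear character `b ↦ α (b₁₁)` of the upper triangular subgroup. -/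
noncomputable def th (α : MulChar F ℂ) : BB → ℂ :=
  fun b => α (((b : S2) : Matrix (Fin 2) (Fin 2) F) 0 0)

theorem th_mul (α : MulChar F ℂ) (a b : BB) : th α (a * b) = th α a * th α b := by
  simp only [th, Subgroup.coe_mul, Matrix.SpecialLinearGroup.coe_mul]
  rw [Matrix.mul_apply, Fin.sum_univ_two, mem_B.1 b.2, mul_zero, add_zero, map_mul]

theorem th_one (α : MulChar F ℂ) : th α 1 = 1 := by simp [th]

/-- `th` as a homomorphism. -/
noncomputable def thHom (α : MulChar F ℂ) : BB →* ℂˣ :=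
  (MonoidHom.mk ⟨th α, th_one α⟩ (th_mul α)).toHomUnits

theorem th_class (α : MulChar F ℂ) (a b : BB) : th α (a⁻¹ * b * a) = th α b := by
  rw [th_mul, th_mul, mul_right_comm, ← th_mul, inv_mul_cancel, th_one, one_mul]

variable [Fintype F] [Fintype (Matrix.SpecialLinearGroup (Fin 2) F)]

/-- The character induced from `th α`. -/
noncomputable def R (α : MulChar F ℂ) : S2 → ℂ := indFun BB (th α)

theorem R_isCharacter (α : MulChar F ℂ) : IsCharacter S2 (R α) :=
  isCharacter_indFun _ (isCharacter_hom (thHom α))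

theorem R_class (α : MulChar F ℂ) : IsClassFunction S2 (R α) := isClassFunction_indFun _ _

variable [DecidableEq F]

theorem R_apply (α : MulChar F ℂ) (g : S2) :
    R α g = (if (↥ₘ g) 1 0 = 0 then α ((↥ₘ g) 0 0) else 0) +
      ∑ c : F, if (↥ₘ g) 0 1 + ((↥ₘ g) 0 0 - (↥ₘ g) 1 1) * c - (↥ₘ g) 1 0 * c * c = 0 then
        α ((↥ₘ g) 1 1 + (↥ₘ g) 1 0 * c) else 0 := by
  rw [R, indFun_eq_sum rep_bijective _ (th_class α) g, Fintype.sum_option]
  congr 1
  · simp only [rep, inv_one, one_mul, mul_one]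
    split_ifs with h
    · rw [extendByZero_of_mem _ _ (mem_B.2 h)]; rfl
    · exact extendByZero_of_not_mem _ _ fun hm => h (mem_B.1 hm)
  · refine Finset.sum_congr rfl fun c _ => ?_
    have e := rep_conj c g
    split_ifs with h
    · rw [extendByZero_of_mem _ _ (mem_B.2 (by rw [e]; simp [h]))]
      show α _ = _
      rw [e]
      simp
    · exact extendByZero_of_not_mem _ _ fun hm => h (by rw [mem_B, e] at hm; simp at hm; linear_combination -hm)

theorem R_one (α : MulChar F ℂ) : R α 1 = (Fintype.card F : ℂ) + 1 := by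
  rw [R_apply]
  simp
  ring

theorem R_scalar (α : MulChar F ℂ) (g : S2) (h01 : (↥ₘ g) 0 1 = 0) (h10 : (↥ₘ g) 1 0 = 0)
    (he : (↥ₘ g) 0 0 = (↥ₘ g) 1 1) : R α g = ((Fintype.card F : ℂ) + 1) * α ((↥ₘ g) 0 0) := by
  rw [R_apply, if_pos h10, he, h01, h10]
  simp
  ring

theorem R_diag (α : MulChar F ℂ) (g : S2) (h10 : (↥ₘ g) 1 0 = 0) (hne : (↥ₘ g) 0 0 ≠ (↥ₘ g) 1 1) :
    R α g = α ((↥ₘ g) 0 0) + α ((↥ₘ g) 1 1) := by
  rw [R_apply, if_pos h10]
  congr 1
  rw [Finset.sum_eq_single ((↥ₘ g) 0 1 / ((↥ₘ g) 1 1 - (↥ₘ g) 0 0))]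
  · rw [if_pos]
    · simp [h10]
    · have := sub_ne_zero.2 hne.symm
      rw [h10]; field_simp; ring
  · intro c _ hc
    rw [if_neg]
    intro e
    refine hc ?_
    rw [eq_div_iff (sub_ne_zero.2 hne.symm)]
    rw [h10] at e
    linear_combination -e
  · simp

theorem R_unipotent (α : MulChar F ℂ) (g : S2) (h10 : (↥ₘ g) 1 0 = 0) (he : (↥ₘ g) 0 0 = (↥ₘ g) 1 1)
    (h01 : (↥ₘ g) 0 1 ≠ 0) : R α g = α ((↥ₘ g) 0 0) := by
  rw [R_apply, if_pos h10, he, h10]
  simp [h01]

theorem R_noEigen (α : MulChar F ℂ) (g : S2)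
    (hg : ∀ (c : F) (v : Fin 2 → F), v ≠ 0 → (↥ₘ g).mulVec v ≠ c • v) : R α g = 0 := by
  rw [R_apply, if_neg, zero_add]
  · refine Finset.sum_eq_zero fun c _ => if_neg fun e => ?_
    refine hg ((↥ₘ g) 1 1 + (↥ₘ g) 1 0 * c) ![c, 1] (fun h => by simpa using congrFun h 1) ?_
    ext i; fin_cases i
    · simp [Matrix.mulVec, dotProduct, Fin.sum_univ_two]; linear_combination e
    · simp [Matrix.mulVec, dotProduct, Fin.sum_univ_two]; ring
  · intro h
    refine hg ((↥ₘ g) 0 0) ![1, 0] (fun h => by simpa using congrFun h 0) ?_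
    ext i; fin_cases i <;> simp [Matrix.mulVec, dotProduct, Fin.sum_univ_two, h]

omit [Fintype F] [Fintype (Matrix.SpecialLinearGroup (Fin 2) F)] [DecidableEq F] in
/-- The element with entries `a, e, 0, a⁻¹`. -/
def bEl (a : Fˣ) (e : F) : S2 :=
  ⟨!![(a : F), e; 0, ((a⁻¹ : Fˣ) : F)], by simp [det_fin_two_of]⟩

omit [Fintype F] [Fintype (Matrix.SpecialLinearGroup (Fin 2) F)] [DecidableEq F] in
theorem coe_bEl (a : Fˣ) (e : F) : ↥ₘ(bEl a e) = !![(a : F), e; 0, ((a⁻¹ : Fˣ) : F)] := rfl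

omit [Fintype F] [Fintype (Matrix.SpecialLinearGroup (Fin 2) F)] [DecidableEq F] in
theorem bEl_mem (a : Fˣ) (e : F) : bEl a e ∈ BB := mem_B.2 (by simp [coe_bEl])

omit [Fintype F] [Fintype (Matrix.SpecialLinearGroup (Fin 2) F)] [DecidableEq F] in
theorem bEl_bijective : Function.Bijective (fun p : Fˣ × F => (⟨bEl p.1 p.2, bEl_mem _ _⟩ : BB)) := by
  refine ⟨fun p p' h => ?_, fun b => ?_⟩
  · have h := congrArg (fun b : BB => ↥ₘ(b : S2)) h
    simp only [coe_bEl] at h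
    have h00 := congrFun (congrFun h 0) 0
    have h01 := congrFun (congrFun h 0) 1
    simp at h00 h01
    exact Prod.ext (Units.ext h00) h01
  · have hd := det_eq (b : S2)
    rw [mem_B.1 b.2, mul_zero, sub_zero] at hd
    refine ⟨(Units.mk0 _ (left_ne_zero_of_mul_eq_one hd), (↥ₘ(b : S2)) 0 1), Subtype.ext (Subtype.ext ?_)⟩
    ext i j; fin_cases i <;> fin_cases j <;> simp [coe_bEl, mem_B.1 b.2, inv_eq_of_mul_eq_one_right hd]

theorem sum_R_bEl (α : MulChar F ℂ) (a : Fˣ) :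
    ∑ e : F, R α (bEl a e) = (Fintype.card F : ℂ) * (α a + α⁻¹ a) := by
  have e1 : ∀ e : F, R α (bEl a e) = α a +
      (∑ c : F, if e + ((a : F) - ((a⁻¹ : Fˣ) : F)) * c = 0 then (1 : ℂ) else 0) * α⁻¹ a := by
    intro e
    rw [R_apply, Finset.sum_mul, ← apply_inv]
    simp [coe_bEl]
  simp only [e1, Finset.sum_add_distrib, ← Finset.sum_mul, GL.sum_count, Finset.sum_const, Finset.card_univ,
    nsmul_eq_mul]
  ring

open scoped Classical in
/-- The inner products of the principal series. -/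
theorem inner_R (α β : MulChar F ℂ) :
    classInner (R α) (R β) = (if α = β then 1 else 0) + (if α = β⁻¹ then 1 else 0) := by
  haveI := Fintype.ofFinite BB
  rw [R, classInner_indFun_left _ _ (R_class β), classInner, ← Nat.card_congr (Equiv.ofBijective _ bEl_bijective),
    ← bEl_bijective.sum_comp (fun b : BB => th α b * conj (R β (b : S2))), Fintype.sum_prod_type]
  have e1 : ∀ a : Fˣ, ∑ e : F, th α ⟨bEl a e, bEl_mem _ _⟩ * conj (R β (bEl a e)) =
      (Fintype.card F : ℂ) * (α a * conj (β a) + α a * conj (β⁻¹ a)) := by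
    intro a
    have : ∀ e : F, th α ⟨bEl a e, bEl_mem _ _⟩ = α a := fun e => by simp [th, coe_bEl]
    simp only [this, ← Finset.mul_sum, ← map_sum, sum_R_bEl, map_mul, map_add, Complex.conj_natCast]
    ring
  simp only [e1, ← Finset.mul_sum, Finset.sum_add_distrib, sum_mul_conj]
  simp only [Nat.card_eq_fintype_card, Fintype.card_prod, Nat.cast_mul]
  have h0 : (Fintype.card F : ℂ) ≠ 0 := Nat.cast_ne_zero.2 Fintype.card_ne_zero
  have h1 : (Fintype.card Fˣ : ℂ) ≠ 0 := Nat.cast_ne_zero.2 Fintype.card_ne_zero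
  have key : ∀ (P : Prop) [Decidable P] (N : ℂ), (if P then N else 0) = N * (if P then 1 else 0) := by
    intro P _ N
    split_ifs <;> simp
  rw [key (α = β) (Fintype.card Fˣ : ℂ), key (α = β⁻¹) (Fintype.card Fˣ : ℂ)]
  field_simp
  try ring

theorem R_isIrr_iff (α : MulChar F ℂ) : IsIrrCharacter S2 (R α) ↔ α ^ 2 ≠ 1 := by
  classical
  rw [isIrr_iff_norm_one (R_isCharacter α), inner_R, if_pos rfl, pow_two, Ne, mul_eq_one_iff_eq_inv]
  by_cases h : α = α⁻¹
  · rw [if_pos h]; simp [← h]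
  · rw [if_neg h]; simp [h]

end Cfsg.Agent.GL2Rep.SL
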