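import Cfsg.Agent.BlockChar.DefectCount
import Cfsg.Agent.GL2Rep.SLParity
import Cfsg.Agent.Char.Artin

/-!
# The p-blocks of SL(2, F) in the defining characteristic
-/

set_option autoImplicit false
set_option linter.unusedSectionVars false

namespace Cfsg.Agent.GL2Rep.SLBlocks

open Cfsg Cfsg.Agent.Char Cfsg.Agent.Blocks

variable {F : Type*} [Field F] [Fintype F] [DecidableEq F] [Fintype (Matrix.SpecialLinearGroup (Fin 2) F)]
  {p : ℕ} [Fact p.Prime] [CharP F p] {M : Ideal Cfsg.AlgInt}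

local notation "S2" => Matrix.SpecialLinearGroup (Fin 2) F

/-- The p-part of the order. -/
theorem factorization_card {f : ℕ} (hf : Fintype.card F = p ^ f) (hf1 : 1 ≤ f) :
    (Nat.card S2).factorization p = f ∧ ¬ p ∣ Fintype.card F ^ 2 - 1 := by
  have hp : p.Prime := Fact.out
  have h1 : ¬ p ∣ Fintype.card F ^ 2 - 1 := by
    rw [hf]; exact Classical.not_dvd_pow_sub_one hp hf1 (by norm_num)
  refine ⟨?_, h1⟩
  have h0 : Fintype.card F ^ 2 - 1 ≠ 0 := fun h => h1 (h ▸ dvd_zero p)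
  rw [SL2Class.card_sl, Nat.factorization_mul Fintype.card_ne_zero h0, Finsupp.add_apply,
    Nat.factorization_eq_zero_of_not_dvd h1, hf, hp.factorization_pow, Finsupp.single_eq_same, add_zero]

/-- Irreducible characters of degree other than q have degree prime to p. -/
theorem degree_prime (h2 : (2 : F) ≠ 0) {f : ℕ} (hf : Fintype.card F = p ^ f) (hf1 : 1 ≤ f)
    {χ : S2 → ℂ} (hχ : IsIrrCharacter S2 χ) :
    χ = SL.St ∨ (χ 1 ≠ (Fintype.card F : ℂ) ∧ (Cfsg.charDegree χ).factorization p = 0) := by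
  have hp : p.Prime := Fact.out
  obtain ⟨d, hd, h⟩ := SL.nat_cases hχ
  have hdeg : Cfsg.charDegree χ = d := by simp [Cfsg.charDegree, hd]
  have hq : p ∣ Fintype.card F := hf ▸ dvd_pow_self p (by omega)
  have hq1 : 1 < Fintype.card F := Fintype.one_lt_card
  have main : ∀ e : ℕ, d ≠ Fintype.card F → (p ∣ d → p ∣ e) → ¬ p ∣ e →
      χ 1 ≠ (Fintype.card F : ℂ) ∧ (Cfsg.charDegree χ).factorization p = 0 := by
    intro e hne h1 h2
    refine ⟨fun e' => hne (Nat.cast_injective (R := ℂ) (hd.symm.trans e')), ?_⟩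
    rw [hdeg]
    exact Nat.factorization_eq_zero_of_not_dvd fun h' => h2 (h1 h')
  rcases h with ⟨e, -⟩ | ⟨-, e⟩ | ⟨e, -⟩ | ⟨-, e, -⟩ | ⟨e, -⟩ | ⟨-, e, -⟩
  · exact Or.inr (main 1 (by omega) (fun h => by rwa [e] at h) hp.not_dvd_one)
  · exact Or.inl e
  · refine Or.inr (main 1 (by omega) (fun h => ?_) hp.not_dvd_one)
    exact (Nat.dvd_add_right hq).1 (e ▸ h)
  · refine Or.inr (main 1 (by omega) (fun h => ?_) hp.not_dvd_one)
    exact (Nat.dvd_add_right hq).1 (e ▸ dvd_mul_of_dvd_right h 2)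
  · refine Or.inr (main 1 (by omega) (fun h => ?_) hp.not_dvd_one)
    exact (Nat.dvd_add_right h).1 (e.symm ▸ hq)
  · refine Or.inr (main 1 (by omega) (fun h => ?_) hp.not_dvd_one)
    exact (Nat.dvd_add_right (dvd_mul_of_dvd_right h 2)).1 (e.symm ▸ hq)

/-- A p-regular element whose centraliser contains a Sylow p-subgroup is central. -/
theorem central_of_regular {f : ℕ} (hf : Fintype.card F = p ^ f) (hf1 : 1 ≤ f) {g : S2}
    (hr : ¬ p ∣ orderOf g)
    (hc : (Nat.card (Subgroup.centralizer ({g} : Set S2))).factorization p = f) :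
    g = 1 ∨ g = -1 := by
  have hp : p.Prime := Fact.out
  rw [← SL2Class.mem_center_cases]
  by_cases ht : SL2Class.tr g * SL2Class.tr g = 4
  · have h := SL2Class.pow_tr_eq_four ht p
    obtain ⟨m, hm⟩ := exists_pow_eq_self_of_coprime (hp.coprime_iff_not_dvd.2 hr)
    rw [← hm]
    exact pow_mem h m
  · exfalso
    have hq : p ∣ Fintype.card F := hf ▸ dvd_pow_self p (by omega)
    have hq1 : 1 < Fintype.card F := Fintype.one_lt_card
    have h0 : (Nat.card (Subgroup.centralizer ({g} : Set S2))).factorization p = 0 := by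
      refine Nat.factorization_eq_zero_of_not_dvd fun h => ?_
      rcases SL2Class.card_cent_semisimple ht with e | e <;> rw [e] at h
      · exact hp.not_dvd_one ((Nat.dvd_add_right h).1 (by rwa [Nat.sub_add_cancel hq1.le]))
      · exact hp.not_dvd_one ((Nat.dvd_add_right hq).1 h)
    omega

theorem index_centralizer_of_central {G : Type*} [Group G] {g : G} (hg : g ∈ Subgroup.center G) :
    (Subgroup.centralizer ({g} : Set G)).index = 1 := by
  rw [Subgroup.index_eq_one, eq_top_iff]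
  exact fun x _ => Subgroup.mem_centralizer_singleton_iff.2 (Subgroup.mem_center_iff.1 hg x)

theorem centralChar_neg_one (χ : S2 → ℂ) :
    Cfsg.centralChar χ (-1 : S2) = χ (-1) / χ 1 := by
  rw [Cfsg.centralChar, index_centralizer_of_central SL2Class.neg_one_mem_center, Nat.cast_one, one_mul]

theorem parity (χ : Cfsg.IrrCharacter S2) :
    (χ : S2 → ℂ) (-1) = (χ : S2 → ℂ) 1 ∨ (χ : S2 → ℂ) (-1) = -(χ : S2 → ℂ) 1 :=
  central_involution χ.2 SL2Class.neg_one_mem_center SL2Class.neg_mul_self_eq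

/-- Characters in one block agree in parity. -/
theorem parity_of_sameBlock (hp2 : p ≠ 2) (hM : Cfsg.IsPModular p M) (χ ψ : Cfsg.IrrCharacter S2)
    (h : Cfsg.SameBlock M (χ : S2 → ℂ) (ψ : S2 → ℂ))
    (hχ : (χ : S2 → ℂ) (-1) = (χ : S2 → ℂ) 1) : (ψ : S2 → ℂ) (-1) = (ψ : S2 → ℂ) 1 := by
  refine (parity ψ).resolve_right fun hψ => ?_
  have := h (-1)
  rw [centralChar_neg_one, centralChar_neg_one, hχ, hψ, neg_div,
    div_self (IsIrr.one_ne_zero χ.2), div_self (IsIrr.one_ne_zero ψ.2), sub_neg_eq_add,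
    show (1 : ℂ) + 1 = ((2 : ℕ) : ℂ) by norm_num, memLocalIdeal_natCast_iff hM] at this
  exact hp2 ((Nat.prime_dvd_prime_iff_eq hM.1 Nat.prime_two).1 this)

theorem blockDefect_eq_full {f : ℕ} (hf : Fintype.card F = p ^ f) (hf1 : 1 ≤ f)
    {B : Set (Cfsg.IrrCharacter S2)} {χ : Cfsg.IrrCharacter S2} (hχ : χ ∈ B)
    (hd : (Cfsg.charDegree (χ : S2 → ℂ)).factorization p = 0) : Cfsg.blockDefect p B = f := by
  rw [Cfsg.blockDefect, (factorization_card hf hf1).1]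
  have : sInf ((fun χ : Cfsg.IrrCharacter S2 => (Cfsg.charDegree (χ : S2 → ℂ)).factorization p) '' B) = 0 :=
    Nat.le_zero.1 ((Nat.sInf_le (Set.mem_image_of_mem _ hχ)).trans hd.le)
  rw [this, Nat.sub_zero]

/-- Full defect blocks are determined by the parity. -/
theorem sameBlock_of_parity {f : ℕ} (hf : Fintype.card F = p ^ f) (hf1 : 1 ≤ f)
    (hM : Cfsg.IsPModular p M) (χ ψ : Cfsg.IrrCharacter S2)
    (hχ : Cfsg.blockDefect p (Cfsg.blockOf M (χ : S2 → ℂ)) = f)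
    (hψ : Cfsg.blockDefect p (Cfsg.blockOf M (ψ : S2 → ℂ)) = f)
    (h : ((χ : S2 → ℂ) (-1) = (χ : S2 → ℂ) 1 ∧ (ψ : S2 → ℂ) (-1) = (ψ : S2 → ℂ) 1) ∨
      ((χ : S2 → ℂ) (-1) = -(χ : S2 → ℂ) 1 ∧ (ψ : S2 → ℂ) (-1) = -(ψ : S2 → ℂ) 1)) :
    Cfsg.SameBlock M (χ : S2 → ℂ) (ψ : S2 → ℂ) := by
  refine BlockChar.sameBlock_of_defect_classes hM χ ψ hχ hψ fun x hr hc => ?_
  have e : Cfsg.centralChar (χ : S2 → ℂ) x = Cfsg.centralChar (ψ : S2 → ℂ) x := by
    have h1 := IsIrr.one_ne_zero χ.2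
    have h2 := IsIrr.one_ne_zero ψ.2
    rcases central_of_regular hf hf1 hr hc with rfl | rfl
    · simp only [Cfsg.centralChar]
      rw [mul_div_assoc, mul_div_assoc, div_self h1, div_self h2]
    · rw [centralChar_neg_one, centralChar_neg_one]
      rcases h with ⟨e1, e2⟩ | ⟨e1, e2⟩ <;> rw [e1, e2] <;> simp [neg_div, div_self h1, div_self h2]
  rw [e, sub_self]
  exact memLocalIdeal_zero hM

/-- The Steinberg character is not in the principal block. -/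
theorem St_not_principal (h2 : (2 : F) ≠ 0) {f : ℕ} (hf : Fintype.card F = p ^ f) (hf1 : 1 ≤ f)
    (hM : Cfsg.IsPModular p M) :
    ¬ Cfsg.SameBlock M (SL.St : S2 → ℂ) (fun _ : S2 => (1 : ℂ)) := by
  have hp : p.Prime := Fact.out
  intro h
  set u : S2 := SL2Class.comp 2
  have hu : orderOf u = p :=
    SL2Class.orderOf_of_tr_two (SL2Class.nonScalar_comp 2) (by simp [u, SL2Class.tr, SL2Class.coe_comp]) p
  have hSt : (SL.St : S2 → ℂ) u = 0 := by
    obtain ⟨h0, h0'⟩ := factorization_card (F := F) hf hf1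
    exact defect_zero SL.St_isIrr hp (n := f) (d := Fintype.card F)
      (by rw [SL2Class.card_sl, hf]; exact dvd_mul_right _ _)
      (fun hd => by
        rw [SL2Class.card_sl, hf, pow_succ, Nat.mul_dvd_mul_iff_left (pow_pos hp.pos f), ← hf] at hd
        exact h0' hd)
      SL.St_one (by rw [hf]) u (by rw [hu])
  have := h u
  rw [Blocks.centralChar_one, Cfsg.centralChar, hSt, mul_zero, zero_div, zero_sub] at this
  have h' := memLocalIdeal_neg this
  rw [neg_neg, memLocalIdeal_natCast_iff hM] at h'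
  have hc := SL2Class.card_cent_double h2 (SL2Class.nonScalar_comp (2 : F))
    (show SL2Class.tr u * SL2Class.tr u = 4 by simp [u, SL2Class.tr, SL2Class.coe_comp]; norm_num)
  have hmul := (Subgroup.centralizer ({u} : Set S2)).index_mul_card
  rw [hc, SL2Class.card_sl] at hmul
  obtain ⟨h0, h0'⟩ := factorization_card (F := F) hf hf1
  refine h0' ?_
  have e : 2 * (Subgroup.centralizer ({u} : Set S2)).index = Fintype.card F ^ 2 - 1 :=
    Nat.eq_of_mul_eq_mul_left Fintype.card_pos (by linarith)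
  exact e ▸ dvd_mul_of_dvd_right h' 2

/-- There is a faithful irreducible character. -/
theorem exists_odd_parity (h2 : (2 : F) ≠ 0) :
    ∃ χ : Cfsg.IrrCharacter S2, (χ : S2 → ℂ) (-1) = -(χ : S2 → ℂ) 1 := by
  classical
  by_contra hne
  push Not at hne
  have h1 := regular_eq_sum (1 : S2)
  have h := regular_eq_sum (-1 : S2)
  rw [if_neg (SL2Class.neg_one_ne_one h2),
    Finset.sum_congr rfl fun χ _ => by rw [(parity χ).resolve_right (hne χ)]] at h
  rw [if_pos rfl, h] at h1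
  exact Nat.cast_ne_zero.2 Nat.card_pos.ne' h1.symm

/-- The blocks. -/
theorem blocks (h2 : (2 : F) ≠ 0) (hp2 : p ≠ 2) (hM : Cfsg.IsPModular p M) :
    let B₁ := {χ : Cfsg.IrrCharacter S2 | (χ : S2 → ℂ) 1 = (Fintype.card F : ℂ)}
    let B₂ := {χ : Cfsg.IrrCharacter S2 | (χ : S2 → ℂ) (-1) = (χ : S2 → ℂ) 1 ∧
      (χ : S2 → ℂ) 1 ≠ (Fintype.card F : ℂ)}
    let B₃ := {χ : Cfsg.IrrCharacter S2 | (χ : S2 → ℂ) (-1) = -(χ : S2 → ℂ) 1}
    (∀ B, Cfsg.IsPBlock M B ↔ (B = B₁ ∨ B = B₂ ∨ B = B₃)) ∧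
    Nat.card {B // Cfsg.IsPBlock (G := S2) M B} = 3 ∧
    ∀ P : Sylow p S2, Cfsg.IsDefectGroup p M B₂ (P : Subgroup S2) ∧
      Cfsg.IsDefectGroup p M B₃ (P : Subgroup S2) := by
  intro B₁ B₂ B₃
  classical
  have hp : p.Prime := Fact.out
  obtain ⟨f, hf, hf1⟩ : ∃ f, Fintype.card F = p ^ f ∧ 1 ≤ f := by
    obtain ⟨n, -, hn⟩ := FiniteField.card F p
    exact ⟨n, hn, n.pos⟩
  let St' : Cfsg.IrrCharacter S2 := ⟨SL.St, SL.St_isIrr⟩
  let one' : Cfsg.IrrCharacter S2 := Blocks.triv S2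
  have hone : (one' : S2 → ℂ) = fun _ => 1 := rfl
  have hq1 : (1 : ℂ) ≠ (Fintype.card F : ℂ) := fun e =>
    absurd (Nat.cast_injective (R := ℂ) (by rw [Nat.cast_one]; exact e)) (Fintype.one_lt_card (α := F)).ne
  have hdeg : ∀ χ : Cfsg.IrrCharacter S2, χ ∉ B₁ →
      Cfsg.blockDefect p (Cfsg.blockOf M (χ : S2 → ℂ)) = f := fun χ hχ =>
    blockDefect_eq_full hf hf1 (mem_blockOf_self hM χ)
      ((degree_prime h2 hf hf1 χ.2).resolve_left fun e => hχ (by
        show (χ : S2 → ℂ) 1 = _; rw [e, SL.St_one])).2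
  have huniq : ∀ χ : Cfsg.IrrCharacter S2, χ ∈ B₁ → χ = St' := fun χ hχ =>
    Subtype.ext ((degree_prime h2 hf hf1 χ.2).resolve_right fun h => h.1 hχ)
  have hSt1 : St' ∈ B₁ := SL.St_one
  have h1B : one' ∈ B₂ := ⟨rfl, hq1⟩
  obtain ⟨χ₃, hχ₃⟩ := exists_odd_parity (F := F) h2
  have hneg : ∀ χ : Cfsg.IrrCharacter S2, ¬ ((χ : S2 → ℂ) (-1) = (χ : S2 → ℂ) 1 ∧
      (χ : S2 → ℂ) (-1) = -(χ : S2 → ℂ) 1) := fun χ h =>
    IsIrr.one_ne_zero χ.2 (by linear_combination ((h.1.symm.trans h.2)) / 2)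
  have hpar1 : ∀ χ ∈ B₁, (χ : S2 → ℂ) (-1) = (χ : S2 → ℂ) 1 := fun χ hχ => by
    rw [huniq χ hχ]
    show SL.St (-1 : S2) = SL.St (1 : S2)
    rw [SL.St_neg_one, SL.St_one]
  have hn3 : χ₃ ∉ B₁ := fun h => hneg χ₃ ⟨hpar1 χ₃ h, hχ₃⟩
  have hn2 : one' ∉ B₁ := h1B.2
  have e1 : Cfsg.blockOf M (St' : S2 → ℂ) = B₁ := by
    ext χ
    refine ⟨fun h => by_contra fun hχ => St_not_principal h2 hf hf1 hM ?_,
      fun h => by rw [huniq χ h]; exact mem_blockOf_self hM St'⟩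
    have hs : Cfsg.SameBlock M (St' : S2 → ℂ) (χ : S2 → ℂ) := mem_blockOf.1 h
    refine sameBlock_trans hM hs ?_
    rw [← hone]
    exact sameBlock_of_parity hf hf1 hM χ one' (hdeg χ hχ) (hdeg one' hn2)
      (Or.inl ⟨parity_of_sameBlock hp2 hM St' χ hs (hpar1 St' hSt1), h1B.1⟩)
  have hnB1 : ∀ χ ψ : Cfsg.IrrCharacter S2, χ ∉ B₁ →
      Cfsg.SameBlock M (χ : S2 → ℂ) (ψ : S2 → ℂ) → ψ ∉ B₁ := fun χ ψ hχ hs hψ => hχ (by
    rw [← e1]
    exact mem_blockOf.2 (by rw [← huniq ψ hψ]; exact sameBlock_symm hs))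
  have e2 : Cfsg.blockOf M (one' : S2 → ℂ) = B₂ := by
    ext χ
    refine ⟨fun h => ?_, fun h => mem_blockOf.2 (sameBlock_of_parity hf hf1 hM one' χ (hdeg one' hn2)
      (hdeg χ h.2) (Or.inl ⟨h1B.1, h.1⟩))⟩
    exact ⟨parity_of_sameBlock hp2 hM one' χ (mem_blockOf.1 h) h1B.1,
      hnB1 one' χ hn2 (mem_blockOf.1 h)⟩
  have e3 : Cfsg.blockOf M (χ₃ : S2 → ℂ) = B₃ := by
    ext χ
    refine ⟨fun h => (parity χ).resolve_left fun hc => hneg χ₃
      ⟨parity_of_sameBlock hp2 hM χ χ₃ (sameBlock_symm (mem_blockOf.1 h)) hc, hχ₃⟩, fun h => ?_⟩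
    exact mem_blockOf.2 (sameBlock_of_parity hf hf1 hM χ₃ χ (hdeg χ₃ hn3)
      (hdeg χ fun hB => hneg χ ⟨hpar1 χ hB, h⟩) (Or.inr ⟨hχ₃, h⟩))
  have hall : ∀ B, Cfsg.IsPBlock M B ↔ (B = B₁ ∨ B = B₂ ∨ B = B₃) := by
    intro B
    refine ⟨fun hB => ?_, ?_⟩
    · obtain ⟨χ, hχ⟩ := IsPBlock.nonempty hM hB
      have key : ∀ ψ : Cfsg.IrrCharacter S2, χ ∈ Cfsg.blockOf M (ψ : S2 → ℂ) →
          B = Cfsg.blockOf M (ψ : S2 → ℂ) := fun ψ h => by
        rw [IsPBlock.eq_blockOf hM hB hχ, IsPBlock.eq_blockOf hM (isPBlock_blockOf ψ) h]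
      by_cases h1 : χ ∈ B₁
      · exact Or.inl (e1 ▸ key St' (e1.symm ▸ h1))
      rcases parity χ with h | h
      · exact Or.inr (Or.inl (e2 ▸ key one' (e2.symm ▸ ⟨h, h1⟩)))
      · exact Or.inr (Or.inr (e3 ▸ key χ₃ (e3.symm ▸ h)))
    · rintro (rfl | rfl | rfl)
      · exact e1 ▸ isPBlock_blockOf St'
      · exact e2 ▸ isPBlock_blockOf one'
      · exact e3 ▸ isPBlock_blockOf χ₃
  refine ⟨hall, ?_, fun P => ?_⟩
  · have h12 : B₁ ≠ B₂ := fun e => hn2 (e.symm ▸ h1B)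
    have h13 : B₁ ≠ B₃ := fun e => hn3 (e.symm ▸ hχ₃)
    have h23 : B₂ ≠ B₃ := fun e => hneg one' ⟨h1B.1, (e ▸ h1B : one' ∈ B₃)⟩
    rw [Nat.card_congr (Equiv.subtypeEquivRight hall)]
    calc Nat.card {B // B = B₁ ∨ B = B₂ ∨ B = B₃}
        = ({B₁, B₂, B₃} : Set (Set (Cfsg.IrrCharacter S2))).ncard := by
          rw [← Nat.card_coe_set_eq]; exact Nat.card_congr (Equiv.subtypeEquivRight fun B => by simp)
      _ = 3 := Set.ncard_eq_three.2 ⟨_, _, _, h12, h13, h23, rfl⟩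
  · have key : ∀ χ : Cfsg.IrrCharacter S2, χ ∉ B₁ →
        Cfsg.IsDefectGroup p M (Cfsg.blockOf M (χ : S2 → ℂ)) (P : Subgroup S2) := by
      intro χ hχ
      have hB := isPBlock_blockOf (M := M) χ
      obtain ⟨D, hD⟩ := DefectThms.exists_defectGroup hM hB
      have hcard := BlockChar.card_defectGroup hM hB hD
      rw [hdeg χ hχ] at hcard
      obtain ⟨Q, hQ⟩ : ∃ Q : Sylow p S2, (Q : Subgroup S2) = D :=
        ⟨Sylow.ofCard D (by rw [hcard, (factorization_card (F := F) hf hf1).1]), rfl⟩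
      obtain ⟨g, rfl⟩ := MulAction.exists_smul_eq S2 Q P
      rw [Sylow.coe_subgroup_smul, Subgroup.pointwise_smul_def, hQ]
      exact DefectThms.isDefectGroup_conj hD g
    exact ⟨e2 ▸ key one' hn2, e3 ▸ key χ₃ hn3⟩

end Cfsg.Agent.GL2Rep.SLBlocks
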