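import Cfsg.Agent.GL2Rep.SLTable
import Cfsg.Agent.S2325
import Cfsg.Agent.S2331

/-!
How many irreducible characters of each kind SL(2, F) has.
-/

set_option autoImplicit false

namespace Cfsg.Agent.GL2Rep.SL

open Cfsg Cfsg.Agent.Char Matrix

variable {F : Type*} [Field F] [Fintype F] [DecidableEq F] [Fintype (Matrix.SpecialLinearGroup (Fin 2) F)]

local notation "S2" => Matrix.SpecialLinearGroup (Fin 2) F
local notation "qq" => (Fintype.card F : ℂ)

theorem R_inv (α : MulChar F ℂ) : R α⁻¹ = R α := by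
  classical
  have h : classInner (R α⁻¹ - R α) (R α⁻¹ - R α) = 0 := by
    simp only [classInner_sub_left, classInner_sub_right, inner_R, inv_inv]
    by_cases e : α = α⁻¹
    · simp [← e]
    · simp [e, Ne.symm e]
  exact sub_eq_zero.1 ((classInner_self_eq_zero _).1 h)

theorem R_eq_iff (α β : MulChar F ℂ) : R α = R β ↔ α = β ∨ α = β⁻¹ := by
  refine ⟨fun h => ?_, ?_⟩
  · classical
    by_contra hn
    push Not at hn
    have e := inner_R α β
    rw [← h, inner_R, if_pos rfl, if_neg hn.1, if_neg hn.2] at e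
    split_ifs at e <;> norm_num at e
  · rintro (rfl | rfl)
    · rfl
    · exact R_inv _

theorem exists_quadratic (h2 : (2 : F) ≠ 0) :
    ∃ ε : MulChar F ℂ, ε ^ 2 = 1 ∧ ε ≠ 1 ∧ ∀ α : MulChar F ℂ, α ^ 2 = 1 → α ≠ 1 → α = ε := by
  have hF : ringChar F ≠ 2 := fun e => h2 (by
    have := ringChar.spec F 2
    rw [e] at this
    exact_mod_cast this.2 dvd_rfl)
  let ε : MulChar F ℂ := (quadraticChar F).ringHomComp (Int.castRingHom ℂ)
  have hne : ε ≠ 1 := (MulChar.ringHomComp_ne_one_iff (f := Int.castRingHom ℂ) Int.cast_injective).2 (quadraticChar_ne_one hF)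
  have hε : ε ^ 2 = 1 := ((quadraticChar_isQuadratic F).comp _).sq_eq_one
  obtain ⟨g, hg⟩ := IsCyclic.exists_generator (α := Fˣ)
  have key : ∀ α : MulChar F ℂ, α ^ 2 = 1 → α ≠ 1 → α g = -1 := by
    intro α hα h1
    have hsq : α g ^ 2 = 1 := by rw [← MulChar.pow_apply_coe, hα, MulChar.one_apply_coe]
    refine (sq_eq_one_iff.1 hsq).resolve_left fun e => h1 ((MulChar.eq_iff hg α 1).2 ?_)
    rw [e, MulChar.one_apply_coe]
  exact ⟨ε, hε, hne, fun α hα h1 => (MulChar.eq_iff hg α ε).2 ((key α hα h1).trans (key ε hε hne).symm)⟩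

theorem card_sq_eq_one [Fintype (MulChar F ℂ)] [DecidablePred fun α : MulChar F ℂ => α ^ 2 = 1] :
    ((Finset.univ : Finset (MulChar F ℂ)).filter fun α => α ^ 2 = 1).card =
      if (2 : F) = 0 then 1 else 2 := by
  classical
  split_ifs with h2
  · refine Finset.card_eq_one.2 ⟨1, ?_⟩
    ext α
    simp only [Finset.mem_filter, Finset.mem_univ, true_and, Finset.mem_singleton]
    refine ⟨fun h => ?_, fun h => by rw [h, one_pow]⟩
    by_contra h1
    exact two_ne_zero_of_sq h h1 h2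
  · obtain ⟨ε, hε, hne, huniq⟩ := exists_quadratic (F := F) h2
    rw [show ((Finset.univ : Finset (MulChar F ℂ)).filter fun α => α ^ 2 = 1) = {1, ε} from ?_]
    · exact Finset.card_pair hne.symm
    ext α
    simp only [Finset.mem_filter, Finset.mem_univ, true_and, Finset.mem_insert, Finset.mem_singleton]
    refine ⟨fun h => or_iff_not_imp_left.2 (huniq α h), ?_⟩
    rintro (rfl | rfl)
    · exact one_pow 2
    · exact hε

open scoped Classical in
/-- The trivial, Steinberg, principal series and remaining characters. -/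
theorem card_principal :
    2 * Nat.card {χ : IrrCharacter S2 // ∃ α : MulChar F ℂ, α ^ 2 ≠ 1 ∧ (χ : S2 → ℂ) = R α} +
      (if (2 : F) = 0 then 1 else 2) = Fintype.card F - 1 := by
  haveI : Fintype (MulChar F ℂ) := Fintype.ofFinite _
  set U := (Finset.univ : Finset (MulChar F ℂ)).filter fun α => ¬ α ^ 2 = 1 with hU
  let toP : MulChar F ℂ → IrrCharacter S2 := fun α =>
    if h : α ^ 2 ≠ 1 then ⟨R α, (R_isIrr_iff α).2 h⟩ else ⟨St, St_isIrr⟩
  have hP : Nat.card {χ : IrrCharacter S2 // ∃ α : MulChar F ℂ, α ^ 2 ≠ 1 ∧ (χ : S2 → ℂ) = R α} = (U.image toP).card := by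
    rw [← Fintype.card_coe, ← Nat.card_eq_fintype_card]
    refine Nat.card_congr (Equiv.subtypeEquivRight fun χ => ?_)
    simp only [Finset.mem_image, hU, Finset.mem_filter, Finset.mem_univ, true_and]
    constructor
    · rintro ⟨α, hα, e⟩
      exact ⟨α, hα, by simp only [toP, dif_pos hα]; exact Subtype.ext e.symm⟩
    · rintro ⟨α, hα, rfl⟩
      exact ⟨α, hα, by simp only [toP, dif_pos hα]⟩
  have htwo : U.card = 2 * (U.image toP).card := by
    rw [Finset.card_eq_sum_card_image toP, Finset.sum_const_nat, mul_comm]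
    intro χ hχ
    obtain ⟨α, hα, rfl⟩ := Finset.mem_image.1 hχ
    have hα' : α ^ 2 ≠ 1 := (Finset.mem_filter.1 hα).2
    have hinv : α⁻¹ ^ 2 ≠ 1 := by rwa [inv_pow, Ne, inv_eq_one]
    rw [show (U.filter fun x => toP x = toP α) = {α, α⁻¹} from ?_]
    · exact Finset.card_pair (fun h => hα' (by rw [pow_two]; nth_rewrite 2 [h]; exact mul_inv_cancel α))
    ext β
    simp only [hU, Finset.mem_filter, Finset.mem_univ, true_and, Finset.mem_insert, Finset.mem_singleton]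
    constructor
    · rintro ⟨hb, e⟩
      simp only [toP, dif_pos hα', dif_pos (show β ^ 2 ≠ 1 from hb), Subtype.mk.injEq] at e
      exact (R_eq_iff β α).1 e
    · rintro (rfl | rfl)
      · exact ⟨hα', rfl⟩
      · refine ⟨hinv, ?_⟩
        simp only [toP, dif_pos hα', dif_pos hinv]
        exact Subtype.ext (R_inv α)
  have := Finset.card_filter_add_card_filter_not (s := (Finset.univ : Finset (MulChar F ℂ))) (fun α => α ^ 2 = 1)
  rw [card_sq_eq_one, ← hU, Finset.card_univ, ← Nat.card_eq_fintype_card, card_mulChar, htwo] at this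
  rw [hP]
  omega

/-- The table of SL(2, F) in odd characteristic, with `q = 2 k + 1`. -/
theorem table_odd (h2 : (2 : F) ≠ 0) : ∃ (k : ℕ) (P H C₂ C₁ : Finset (IrrCharacter S2)),
    1 ≤ k ∧ Fintype.card F = 2 * k + 1 ∧
    (∀ χ : IrrCharacter S2, (χ : S2 → ℂ) = (fun _ => 1) ∨ (χ : S2 → ℂ) = St ∨ χ ∈ P ∨ χ ∈ H ∨ χ ∈ C₂ ∨ χ ∈ C₁) ∧
    (∀ χ ∈ P, (χ : S2 → ℂ) 1 = ((2 * k + 2 : ℕ) : ℂ) ∧ ∃ α : MulChar F ℂ, α ^ 2 ≠ 1 ∧ (χ : S2 → ℂ) = R α) ∧
    (∀ χ ∈ H, (χ : S2 → ℂ) 1 = ((k + 1 : ℕ) : ℂ) ∧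
      ∃ α : MulChar F ℂ, α ^ 2 = 1 ∧ α ≠ 1 ∧ classInner (χ : S2 → ℂ) (R α) ≠ 0) ∧
    (∀ χ ∈ C₂, (χ : S2 → ℂ) 1 = ((2 * k : ℕ) : ℂ) ∧ Cusp (χ : S2 → ℂ)) ∧
    (∀ χ ∈ C₁, (χ : S2 → ℂ) 1 = ((k : ℕ) : ℂ) ∧ Cusp (χ : S2 → ℂ)) ∧
    P.card + 1 = k ∧ H.card = 2 ∧ C₂.card = k ∧ C₁.card = 2 := by
  classical
  haveI : Fintype (GL (Fin 2) F) := Fintype.ofFinite _
  have hodd := SL2Class.card_odd_of_two_ne_zero (F := F) h2
  obtain ⟨k, hk⟩ : ∃ k, Fintype.card F = 2 * k + 1 := ⟨Fintype.card F / 2, by omega⟩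
  have hk0 : 1 ≤ k := by have := Fintype.one_lt_card (α := F); omega
  obtain ⟨ε, hε, hne, huniq⟩ := exists_quadratic (F := F) h2
  let one' : IrrCharacter S2 := ⟨fun _ => 1, isIrrCharacter_one⟩
  let St' : IrrCharacter S2 := ⟨St, St_isIrr⟩
  set P := Finset.univ.filter fun χ : IrrCharacter S2 => ∃ α : MulChar F ℂ, α ^ 2 ≠ 1 ∧ (χ : S2 → ℂ) = R α with hP
  set H := Finset.univ.filter fun χ : IrrCharacter S2 =>
    ∃ α : MulChar F ℂ, α ^ 2 = 1 ∧ α ≠ 1 ∧ classInner (χ : S2 → ℂ) (R α) ≠ 0 with hH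
  set C₂ := Finset.univ.filter fun χ : IrrCharacter S2 => (χ : S2 → ℂ) 1 = qq - 1 ∧ Cusp (χ : S2 → ℂ) with hC2
  set C₁ := Finset.univ.filter fun χ : IrrCharacter S2 => 2 * (χ : S2 → ℂ) 1 = qq - 1 ∧ Cusp (χ : S2 → ℂ) with hC1
  have hq : qq = 2 * (k : ℂ) + 1 := by rw [hk]; push_cast; ring
  have hall : ∀ χ : IrrCharacter S2, (χ : S2 → ℂ) = (fun _ => 1) ∨ (χ : S2 → ℂ) = St ∨ χ ∈ P ∨ χ ∈ H ∨ χ ∈ C₂ ∨ χ ∈ C₁ := by
    intro χ
    rcases degree_cases χ.2 with ⟨-, e⟩ | ⟨-, e⟩ | ⟨-, e⟩ | ⟨-, -, e⟩ | e | ⟨-, e⟩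
    · exact Or.inl e
    · exact Or.inr (Or.inl e)
    · exact Or.inr (Or.inr (Or.inl (Finset.mem_filter.2 ⟨Finset.mem_univ _, e⟩)))
    · exact Or.inr (Or.inr (Or.inr (Or.inl (Finset.mem_filter.2 ⟨Finset.mem_univ _, e⟩))))
    · exact Or.inr (Or.inr (Or.inr (Or.inr (Or.inl (Finset.mem_filter.2 ⟨Finset.mem_univ _, e⟩)))))
    · exact Or.inr (Or.inr (Or.inr (Or.inr (Or.inr (Finset.mem_filter.2 ⟨Finset.mem_univ _, e⟩)))))
  have hPd : ∀ χ ∈ P, (χ : S2 → ℂ) 1 = ((2 * k + 2 : ℕ) : ℂ) ∧ ∃ α : MulChar F ℂ, α ^ 2 ≠ 1 ∧ (χ : S2 → ℂ) = R α := by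
    intro χ h
    obtain ⟨α, hα, e⟩ := (Finset.mem_filter.1 h).2
    exact ⟨by rw [e, R_one, hq]; push_cast; ring, α, hα, e⟩
  have hHd : ∀ χ ∈ H, (χ : S2 → ℂ) 1 = ((k + 1 : ℕ) : ℂ) ∧
      ∃ α : MulChar F ℂ, α ^ 2 = 1 ∧ α ≠ 1 ∧ classInner (χ : S2 → ℂ) (R α) ≠ 0 := by
    intro χ h
    obtain ⟨α, hα, hα1, e⟩ := (Finset.mem_filter.1 h).2
    have := (half hα hα1 χ.2 e).1
    exact ⟨by push_cast; linear_combination (this + hq) / 2, α, hα, hα1, e⟩
  have hC2d : ∀ χ ∈ C₂, (χ : S2 → ℂ) 1 = ((2 * k : ℕ) : ℂ) ∧ Cusp (χ : S2 → ℂ) := by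
    intro χ h
    obtain ⟨h1, h2⟩ := (Finset.mem_filter.1 h).2
    exact ⟨by push_cast; linear_combination h1 + hq, h2⟩
  have hC1d : ∀ χ ∈ C₁, (χ : S2 → ℂ) 1 = ((k : ℕ) : ℂ) ∧ Cusp (χ : S2 → ℂ) := by
    intro χ h
    obtain ⟨h1, h2⟩ := (Finset.mem_filter.1 h).2
    exact ⟨by linear_combination (h1 + hq) / 2, h2⟩
  -- distinctness
  have hncusp1 : ¬ Cusp (fun _ : S2 => (1 : ℂ)) := fun h => by
    have := h 1
    rw [inner_one_R, if_pos rfl] at this
    exact one_ne_zero this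
  have hStR : ∀ α, classInner (St (F := F)) (R α) = classInner (R 1) (R α) - (if α = 1 then 1 else 0) := fun α => by
    rw [St, classInner_sub_left, inner_one_R]
  have hncuspSt : ¬ Cusp (St (F := F)) := fun h => by
    have := h 1
    rw [hStR, inner_R, if_pos rfl, if_pos inv_one.symm] at this
    norm_num at this
  have hP' : ∀ α : MulChar F ℂ, α ^ 2 ≠ 1 → ¬ Cusp (R α) := fun α hα h => by
    have := h α
    rw [classInner_irr_self ((R_isIrr_iff α).2 hα)] at this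
    exact one_ne_zero this
  have hd1 : one' ≠ St' := fun e => by
    have := congrFun (congrArg Subtype.val e) 1
    rw [show (St'.val : S2 → ℂ) 1 = qq from St_one] at this
    have h' : ((1 : ℕ) : ℂ) = ((Fintype.card F : ℕ) : ℂ) := by rw [Nat.cast_one]; exact this
    have := Nat.cast_injective h'
    omega
  have hHone : ∀ χ : IrrCharacter S2, χ ∈ H → classInner (χ : S2 → ℂ) (R ε) = 1 ∧ classInner (χ : S2 → ℂ) (R 1) = 0 := by
    intro χ h
    obtain ⟨-, α, hα, hα1, e⟩ := hHd χ h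
    obtain rfl := huniq α hα hα1
    obtain ⟨-, h1, h0, -⟩ := half hα hα1 χ.2 e
    exact ⟨h1, h0 1 hα1.symm⟩
  have hdisjH : ∀ χ ∈ H, χ ≠ one' ∧ χ ≠ St' ∧ χ ∉ P ∧ ¬ Cusp (χ : S2 → ℂ) := by
    intro χ h
    obtain ⟨h1, h0⟩ := hHone χ h
    refine ⟨?_, ?_, ?_, fun hc => one_ne_zero (h1.symm.trans (hc ε))⟩
    · rintro rfl
      rw [show (one'.val : S2 → ℂ) = fun _ => 1 from rfl, inner_one_R, if_pos rfl] at h0
      exact one_ne_zero h0
    · rintro rfl
      rw [show (St'.val : S2 → ℂ) = St from rfl, hStR, inner_R, if_pos rfl, if_pos inv_one.symm] at h0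
      norm_num at h0
    · intro hp
      obtain ⟨-, α, hα, e⟩ := hPd χ hp
      rw [e, inner_R, if_neg, if_neg] at h1
      · norm_num at h1
      · intro e'; exact hα (by rw [e', inv_pow, hε, inv_one])
      · intro e'; exact hα (e' ▸ hε)
  have hdisjP : ∀ χ ∈ P, χ ≠ one' ∧ χ ≠ St' ∧ ¬ Cusp (χ : S2 → ℂ) := by
    intro χ h
    obtain ⟨hd, α, hα, e⟩ := hPd χ h
    refine ⟨?_, ?_, e ▸ hP' α hα⟩ <;> rintro rfl
    · have h' : ((1 : ℕ) : ℂ) = ((2 * k + 2 : ℕ) : ℂ) := by rw [Nat.cast_one]; exact hd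
      have := Nat.cast_injective h'
      omega
    · have h' : ((Fintype.card F : ℕ) : ℂ) = ((2 * k + 2 : ℕ) : ℂ) := St_one.symm.trans hd
      have := Nat.cast_injective h'
      omega
  have hPc : P.card + 1 = k := by
    have h := card_principal (F := F)
    rw [if_neg h2, hk, Nat.card_eq_fintype_card, Fintype.card_subtype, ← hP] at h
    omega
  have hHc : H.card = 2 := by
    obtain ⟨χ, hχ⟩ := IsChar.exists_constituent (R_isCharacter ε) (fun e => by
      have := congrFun e 1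
      rw [R_one] at this
      exact Nat.cast_add_one_ne_zero (Fintype.card F) this)
    have hχ' : classInner (χ : S2 → ℂ) (R ε) ≠ 0 := fun e => hχ (by rw [← classInner_conj_symm, e, map_zero])
    obtain ⟨-, -, -, χ', hi', hne', hsum, -, hmem, -⟩ := half hε hne χ.2 hχ'
    refine Finset.card_eq_two.2 ⟨χ, ⟨χ', hi'⟩, fun e => hne' (congrArg Subtype.val e).symm, ?_⟩
    ext ψ
    simp only [hH, Finset.mem_filter, Finset.mem_univ, true_and, Finset.mem_insert, Finset.mem_singleton]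
    constructor
    · rintro ⟨α, hα, hα1, e⟩
      obtain rfl := huniq α hα hα1
      rcases hmem ψ ψ.2 e with h | h
      · exact Or.inl (Subtype.ext h)
      · exact Or.inr (Subtype.ext h)
    · rintro (rfl | rfl)
      · exact ⟨ε, hε, hne, hχ'⟩
      · refine ⟨ε, hε, hne, ?_⟩
        rw [hsum, classInner_add_right, classInner_irr_ne hi' χ.2 hne', classInner_irr_self hi', zero_add]
        exact one_ne_zero
  have hd12 : Disjoint C₂ C₁ := Finset.disjoint_left.2 fun χ a b => by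
    have := Nat.cast_injective ((hC2d χ a).1.symm.trans (hC1d χ b).1)
    omega
  set A := ((({one', St'} : Finset (IrrCharacter S2)) ∪ P) ∪ H) with hA
  have hC : C₂ ∪ C₁ = Aᶜ := by
    ext χ
    simp only [hA, Finset.mem_union, Finset.mem_compl, Finset.mem_insert, Finset.mem_singleton]
    constructor
    · intro h
      have hc : Cusp (χ : S2 → ℂ) := h.elim (fun h => (hC2d χ h).2) fun h => (hC1d χ h).2
      rintro (((rfl | rfl) | hp) | hh)
      · exact hncusp1 hc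
      · exact hncuspSt hc
      · exact (hdisjP χ hp).2.2 hc
      · exact (hdisjH χ hh).2.2.2 hc
    · intro h
      push Not at h
      rcases hall χ with e | e | e | e | e | e
      · exact absurd (Subtype.ext e) h.1.1.1
      · exact absurd (Subtype.ext e) h.1.1.2
      · exact absurd e h.1.2
      · exact absurd e h.2
      · exact Or.inl e
      · exact Or.inr e
  have hAd1 : Disjoint ({one', St'} : Finset (IrrCharacter S2)) P := Finset.disjoint_left.2 fun χ a b => by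
    rcases Finset.mem_insert.1 a with rfl | a
    · exact (hdisjP _ b).1 rfl
    · exact (hdisjP _ b).2.1 (Finset.mem_singleton.1 a)
  have hAd2 : Disjoint (({one', St'} : Finset (IrrCharacter S2)) ∪ P) H := Finset.disjoint_left.2 fun χ a b => by
    rcases Finset.mem_union.1 a with a | a
    · rcases Finset.mem_insert.1 a with rfl | a
      · exact (hdisjH _ b).1 rfl
      · exact (hdisjH _ b).2.1 (Finset.mem_singleton.1 a)
    · exact (hdisjH _ b).2.2.1 a
  have hcnt : A.card + (C₂.card + C₁.card) = Fintype.card F + 4 := by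
    rw [← Finset.card_union_of_disjoint hd12, hC, Finset.card_add_card_compl, ← Nat.card_eq_fintype_card,
      card_irrCharacter]
    exact S2325.result (Nat.odd_iff.2 hodd)
  rw [hA, Finset.card_union_of_disjoint hAd2, Finset.card_union_of_disjoint hAd1, Finset.card_pair hd1, hHc, hk] at hcnt
  have hsum : ((1 + Fintype.card F ^ 2 + P.card * (2 * k + 2) ^ 2 + 2 * (k + 1) ^ 2 + C₂.card * (2 * k) ^ 2 +
      C₁.card * k ^ 2 : ℕ) : ℂ) = (Nat.card S2 : ℂ) := by
    rw [← sum_sq_degree, ← Finset.sum_add_sum_compl A, ← hC, Finset.sum_union hd12, hA, Finset.sum_union hAd2,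
      Finset.sum_union hAd1, Finset.sum_pair hd1,
      Finset.sum_congr (s₁ := P) (f := fun χ : IrrCharacter S2 => (χ : S2 → ℂ) 1 ^ 2)
        (g := fun _ => (((2 * k + 2 : ℕ)) : ℂ) ^ 2) rfl (fun χ h => by rw [(hPd χ h).1]),
      Finset.sum_congr (s₁ := H) (f := fun χ : IrrCharacter S2 => (χ : S2 → ℂ) 1 ^ 2)
        (g := fun _ => (((k + 1 : ℕ)) : ℂ) ^ 2) rfl (fun χ h => by rw [(hHd χ h).1]),
      Finset.sum_congr (s₁ := C₂) (f := fun χ : IrrCharacter S2 => (χ : S2 → ℂ) 1 ^ 2)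
        (g := fun _ => (((2 * k : ℕ)) : ℂ) ^ 2) rfl (fun χ h => by rw [(hC2d χ h).1]),
      Finset.sum_congr (s₁ := C₁) (f := fun χ : IrrCharacter S2 => (χ : S2 → ℂ) 1 ^ 2)
        (g := fun _ => ((k : ℕ) : ℂ) ^ 2) rfl (fun χ h => by rw [(hC1d χ h).1]),
      show (one'.val : S2 → ℂ) 1 = 1 from rfl, show (St'.val : S2 → ℂ) 1 = qq from St_one]
    simp only [Finset.sum_const, nsmul_eq_mul, hHc]
    push_cast
    ring
  have hsumN := Nat.cast_injective (R := ℂ) hsum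
  rw [SL2Class.card_sl, hk, show (2 * k + 1) ^ 2 - 1 = 4 * k * (k + 1) by
    rw [show (2 * k + 1) ^ 2 = 4 * k * (k + 1) + 1 by ring, Nat.add_sub_cancel]] at hsumN
  have key : 4 * C₂.card + C₁.card = 4 * k + 2 := by
    refine Nat.eq_of_mul_eq_mul_left (show 0 < k ^ 2 by positivity) ?_
    subst hPc
    zify at *
    linear_combination hsumN
  exact ⟨k, P, H, C₂, C₁, hk0, hk, hall, hPd, hHd, hC2d, hC1d, hPc, hHc, by omega, by omega⟩

/-- The table of SL(2, F) in characteristic 2. -/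
theorem table_even (h2 : (2 : F) = 0) : ∃ (P C : Finset (IrrCharacter S2)),
    (∀ χ : IrrCharacter S2, (χ : S2 → ℂ) = (fun _ => 1) ∨ (χ : S2 → ℂ) = St ∨ χ ∈ P ∨ χ ∈ C) ∧
    (∀ χ ∈ P, (χ : S2 → ℂ) 1 = qq + 1 ∧ ∃ α : MulChar F ℂ, α ^ 2 ≠ 1 ∧ (χ : S2 → ℂ) = R α) ∧
    (∀ χ ∈ C, (χ : S2 → ℂ) 1 = qq - 1 ∧ Cusp (χ : S2 → ℂ)) ∧
    2 * P.card + 2 = Fintype.card F ∧ 2 * C.card = Fintype.card F := by
  classical
  haveI : Fintype (GL (Fin 2) F) := Fintype.ofFinite _
  haveI : CharP F 2 := CharTwo.of_one_ne_zero_of_two_eq_zero one_ne_zero h2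
  let one' : IrrCharacter S2 := ⟨fun _ => 1, isIrrCharacter_one⟩
  let St' : IrrCharacter S2 := ⟨St, St_isIrr⟩
  set P := Finset.univ.filter fun χ : IrrCharacter S2 => ∃ α : MulChar F ℂ, α ^ 2 ≠ 1 ∧ (χ : S2 → ℂ) = R α with hP
  have hPd : ∀ χ ∈ P, (χ : S2 → ℂ) 1 = qq + 1 ∧ ∃ α : MulChar F ℂ, α ^ 2 ≠ 1 ∧ (χ : S2 → ℂ) = R α := by
    intro χ h
    obtain ⟨α, hα, e⟩ := (Finset.mem_filter.1 h).2
    exact ⟨by rw [e, R_one], α, hα, e⟩
  have hd1 : one' ≠ St' := fun e => by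
    have := congrFun (congrArg Subtype.val e) 1
    rw [show (St'.val : S2 → ℂ) 1 = qq from St_one] at this
    have h' := qq_re_gt (F := F)
    have hre := congrArg Complex.re this
    simp [one'] at hre
    linarith
  have hAd1 : Disjoint ({one', St'} : Finset (IrrCharacter S2)) P := Finset.disjoint_left.2 fun χ a b => by
    obtain ⟨hd, -⟩ := hPd χ b
    have hre := congrArg Complex.re hd
    rcases Finset.mem_insert.1 a with rfl | a
    · simp [one'] at hre
    · rw [Finset.mem_singleton.1 a, show (St'.val : S2 → ℂ) 1 = qq from St_one] at hre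
      simp at hre
  set A := ({one', St'} : Finset (IrrCharacter S2)) ∪ P with hA
  have hC : ∀ χ ∈ Aᶜ, (χ : S2 → ℂ) 1 = qq - 1 ∧ Cusp (χ : S2 → ℂ) := by
    intro χ hχ
    simp only [hA, Finset.mem_compl, Finset.mem_union, Finset.mem_insert, Finset.mem_singleton] at hχ
    push Not at hχ
    rcases degree_cases χ.2 with ⟨-, e⟩ | ⟨-, e⟩ | ⟨-, e⟩ | ⟨h, -⟩ | e | ⟨h, -⟩
    · exact absurd (Subtype.ext e) hχ.1.1
    · exact absurd (Subtype.ext e) hχ.1.2
    · exact absurd (show χ ∈ P from Finset.mem_filter.2 ⟨Finset.mem_univ _, e⟩) hχ.2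
    · exact absurd h2 h
    · exact e
    · exact absurd h2 h
  have h := card_principal (F := F)
  rw [if_pos h2, Nat.card_eq_fintype_card, Fintype.card_subtype, ← hP] at h
  have hcnt : A.card + (Aᶜ : Finset (IrrCharacter S2)).card = Fintype.card F + 1 := by
    rw [Finset.card_add_card_compl, ← Nat.card_eq_fintype_card, card_irrCharacter]
    exact S2331.result
  have hA' : A.card = 2 + P.card := by rw [hA, Finset.card_union_of_disjoint hAd1, Finset.card_pair hd1]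
  have hpos := Fintype.one_lt_card (α := F)
  refine ⟨P, Aᶜ, fun χ => ?_, hPd, hC, by omega, by omega⟩
  by_cases hχ : χ ∈ A
  · rcases Finset.mem_union.1 hχ with a | a
    · rcases Finset.mem_insert.1 a with rfl | a
      · exact Or.inl rfl
      · exact Or.inr (Or.inl (congrArg Subtype.val (Finset.mem_singleton.1 a)))
    · exact Or.inr (Or.inr (Or.inl a))
  · exact Or.inr (Or.inr (Or.inr (Finset.mem_compl.2 hχ)))

end Cfsg.Agent.GL2Rep.SL
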