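import Cfsg.Agent.GL2Rep.SLValues
import Cfsg.Agent.SL2Class.Classes
import Cfsg.Agent.SL2Class.Torus
import Mathlib.Analysis.Fourier.FiniteAbelian.PontryaginDuality

/-!
The cuspidal characters of SL(2, F), q odd, attached to the characters of a non-split torus:
induced from (centre) x (unipotent) minus induced from the torus.
-/

set_option autoImplicit false

namespace Cfsg.Agent.GL2Rep.SL

open Cfsg Cfsg.Agent.Char Matrix
open scoped ComplexConjugate

variable {F : Type*} [Field F]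

local notation "S2" => Matrix.SpecialLinearGroup (Fin 2) F
local notation "qq" => (Fintype.card F : ℂ)
local notation:1024 "↥ₘ" A:1024 => ((A : Matrix.SpecialLinearGroup (Fin 2) F) : Matrix (Fin 2) (Fin 2) F)

section Generic

variable {G : Type*} [Group G] [Fintype G] (H : Subgroup G) (θ : H → ℂ)

theorem indFun_eq_zero_of_forall {g : G} (h : ∀ x : G, x⁻¹ * g * x ∉ H) : indFun H θ g = 0 := by
  rw [indFun_apply, Finset.sum_eq_zero fun x _ => extendByZero_of_not_mem H θ (h x), mul_zero]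

theorem indFun_central_mul {z : G} (hz : z ∈ H) (hzc : ∀ x, z * x = x * z) (c : ℂ)
    (hθ : ∀ h : H, θ (⟨z, hz⟩ * h) = c * θ h) (g : G) : indFun H θ (z * g) = c * indFun H θ g := by
  simp only [indFun_apply, Finset.mul_sum]
  refine Finset.sum_congr rfl fun x _ => ?_
  have e : x⁻¹ * (z * g) * x = z * (x⁻¹ * g * x) := by
    rw [← mul_assoc x⁻¹ z g, ← hzc x⁻¹]
    simp only [mul_assoc]
  rw [e]
  by_cases hm : x⁻¹ * g * x ∈ H
  · rw [extendByZero_of_mem H θ hm, extendByZero_of_mem H θ (mul_mem hz hm),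
      show (⟨z * (x⁻¹ * g * x), mul_mem hz hm⟩ : H) = ⟨z, hz⟩ * ⟨x⁻¹ * g * x, hm⟩ from rfl, hθ]
    ring
  · rw [extendByZero_of_not_mem H θ hm, extendByZero_of_not_mem H θ fun h => hm ?_]
    · ring
    · simpa using mul_mem (inv_mem hz) h

end Generic

/-! ### The subgroup of centre times unipotent -/

variable (F) in
/-- The elements `± u` with `u` upper unitriangular. -/
def ZU : Subgroup (Matrix.SpecialLinearGroup (Fin 2) F) where
  carrier := {g | (↥ₘ g) 1 0 = 0 ∧ (↥ₘ g) 0 0 * (↥ₘ g) 0 0 = 1}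
  one_mem' := by simp
  mul_mem' := by
    rintro a b ⟨ha, ha'⟩ ⟨hb, hb'⟩
    constructor
    · simp [Matrix.mul_apply, Fin.sum_univ_two, ha, hb]
    · simp only [Matrix.SpecialLinearGroup.coe_mul, Matrix.mul_apply, Fin.sum_univ_two, hb, mul_zero, add_zero]
      linear_combination ((↥ₘ b) 0 0 * (↥ₘ b) 0 0) * ha' + hb'
  inv_mem' := by
    rintro a ⟨ha, ha'⟩
    have hd := det_eq a
    rw [ha, mul_zero, sub_zero] at hd
    have h11 : (↥ₘ a) 1 1 = (↥ₘ a) 0 0 := by linear_combination ((↥ₘ a) 0 0) * hd - ((↥ₘ a) 1 1) * ha'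
    constructor
    · simp [Matrix.SpecialLinearGroup.coe_inv, Matrix.adjugate_fin_two, ha]
    · simpa [Matrix.SpecialLinearGroup.coe_inv, Matrix.adjugate_fin_two, h11] using ha'

local notation "KK" => ZU F

theorem mem_ZU {g : S2} : g ∈ KK ↔ (↥ₘ g) 1 0 = 0 ∧ (↥ₘ g) 0 0 * (↥ₘ g) 0 0 = 1 := Iff.rfl

theorem tr_ZU {g : S2} (hg : g ∈ KK) : SL2Class.tr g * SL2Class.tr g = 4 := by
  obtain ⟨h, h'⟩ := mem_ZU.1 hg
  have hd := det_eq g
  rw [h, mul_zero, sub_zero] at hd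
  have h11 : (↥ₘ g) 1 1 = (↥ₘ g) 0 0 := by linear_combination ((↥ₘ g) 0 0) * hd - ((↥ₘ g) 1 1) * h'
  simp only [SL2Class.tr, h11]
  linear_combination 4 * h'

/-- The sign attached to a Boolean. -/
def sgn : Bool → Fˣ := fun b => if b then 1 else -1

theorem sgn_mul_self (b : Bool) : (sgn b : Fˣ) * sgn b = (1 : Fˣ) := by cases b <;> simp [sgn]

theorem sgn_mem (b : Bool) (e : F) : bEl (sgn b : Fˣ) e ∈ KK := by
  refine mem_ZU.2 ?_
  have h := congrArg Units.val (sgn_mul_self (F := F) b)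
  simp only [Units.val_mul, Units.val_one] at h
  simp [coe_bEl, h]

theorem ZU_bijective (h2 : (2 : F) ≠ 0) :
    Function.Bijective (fun p : Bool × F => (⟨bEl (sgn p.1) p.2, sgn_mem _ _⟩ : KK)) := by
  have hne : (1 : F) ≠ -1 := fun e => h2 (by linear_combination e)
  refine ⟨fun p p' h => ?_, fun k => ?_⟩
  · have h := congrArg (fun b : KK => ↥ₘ(b : S2)) h
    simp only [coe_bEl] at h
    have h00 := congrFun (congrFun h 0) 0
    have h01 := congrFun (congrFun h 0) 1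
    simp at h00 h01
    refine Prod.ext ?_ h01
    rcases p with ⟨_ | _, x⟩ <;> rcases p' with ⟨_ | _, y⟩ <;> simp [sgn] at h00 ⊢
    · exact hne h00.symm
    · exact hne h00
  · obtain ⟨h, h'⟩ := mem_ZU.1 k.2
    obtain ⟨a, ha, e⟩ := eq_bEl (g := (k : S2)) h
    rw [← ha] at h'
    rcases mul_self_eq_one_iff.1 h' with h1 | h1
    · exact ⟨(true, _), Subtype.ext (show bEl 1 _ = (k : S2) by rw [e, show a = 1 from Units.ext h1])⟩
    · exact ⟨(false, _), Subtype.ext (show bEl (-1) _ = (k : S2) by rw [e, show a = -1 from Units.ext h1])⟩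

/-- The sign character with value `ω` at `-1`. -/
noncomputable def w (ω : ℂ) (s : F) : ℂ := by classical exact if s = 1 then 1 else ω

theorem w_one (ω : ℂ) : w ω (1 : F) = 1 := by simp [w]

theorem w_neg_one (h2 : (2 : F) ≠ 0) (ω : ℂ) : w ω (-1 : F) = ω :=
  if_neg fun e => h2 (by linear_combination -e)

theorem w_mul (h2 : (2 : F) ≠ 0) {ω : ℂ} (hω : ω * ω = 1) {s t : F} (hs : s * s = 1) (ht : t * t = 1) :
    w ω (s * t) = w ω s * w ω t := by
  rcases mul_self_eq_one_iff.1 hs with rfl | rfl <;> rcases mul_self_eq_one_iff.1 ht with rfl | rfl <;>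
    simp [w_one, w_neg_one h2, hω]

/-- A linear character of `ZU`. -/
noncomputable def lam (ω : ℂ) (ψ : AddChar F ℂ) : KK → ℂ :=
  fun g => w ω ((↥ₘ(g : S2)) 0 0) * ψ ((↥ₘ(g : S2)) 0 1 * (↥ₘ(g : S2)) 0 0)

theorem lam_mul (h2 : (2 : F) ≠ 0) {ω : ℂ} (hω : ω * ω = 1) (ψ : AddChar F ℂ) (a b : KK) :
    lam ω ψ (a * b) = lam ω ψ a * lam ω ψ b := by
  obtain ⟨ha, ha'⟩ := mem_ZU.1 a.2
  obtain ⟨hb, hb'⟩ := mem_ZU.1 b.2
  have hd := det_eq (b : S2)
  rw [hb, mul_zero, sub_zero] at hd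
  have h11 : (↥ₘ(b : S2)) 1 1 = (↥ₘ(b : S2)) 0 0 := by
    linear_combination ((↥ₘ(b : S2)) 0 0) * hd - ((↥ₘ(b : S2)) 1 1) * hb'
  simp only [lam, Subgroup.coe_mul, Matrix.SpecialLinearGroup.coe_mul, Matrix.mul_apply, Fin.sum_univ_two, hb,
    mul_zero, add_zero, h11]
  rw [w_mul h2 hω ha' hb', mul_mul_mul_comm (w ω _), ← ψ.map_add_eq_mul]
  congr 2
  linear_combination ((↥ₘ(b : S2)) 0 1 * (↥ₘ(b : S2)) 0 0) * ha' + ((↥ₘ(a : S2)) 0 1 * (↥ₘ(a : S2)) 0 0) * hb'

theorem isCharacter_lam (h2 : (2 : F) ≠ 0) {ω : ℂ} (hω : ω * ω = 1) (ψ : AddChar F ℂ) :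
    IsCharacter KK (lam ω ψ) := by
  have h1 : lam ω ψ (1 : KK) = 1 := by simp [lam, w_one]
  exact isCharacter_hom ((MonoidHom.mk ⟨lam ω ψ, h1⟩ (lam_mul h2 hω ψ)).toHomUnits)

/-- The sum of the two linear characters of `ZU` used in the construction. -/
noncomputable def phi (ψ : AddChar F ℂ) (ν : F) (ω : ℂ) : KK → ℂ := lam ω ψ + lam ω (ψ.mulShift ν)

theorem phi_sgn (ψ : AddChar F ℂ) (ν : F) (ω : ℂ) (b : Bool) (e : F) :
    phi ψ ν ω ⟨bEl (sgn b : Fˣ) e, sgn_mem b e⟩ =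
      w ω ((sgn b : Fˣ) : F) * (ψ (e * (sgn b : Fˣ)) + ψ.mulShift ν (e * (sgn b : Fˣ))) := by
  simp [phi, lam, coe_bEl, mul_add]

variable [Fintype F]

theorem sum_addChar {ψ : AddChar F ℂ} (hψ : ψ ≠ 1) {c : F} (hc : c ≠ 0) : ∑ x : F, ψ (x * c) = 0 := by
  exact (Equiv.sum_comp (Equiv.mulRight₀ c hc) (fun x => ψ x)).trans (AddChar.sum_eq_zero_of_ne_one hψ)

/-- Both square classes together run over all of `F`, twice. -/
theorem sum_square_classes [DecidableEq F] (h2 : (2 : F) ≠ 0) {ν : F} (hν : ¬ IsSquare ν) (f : F → ℂ) :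
    ∑ a : F, (f (a * a) + f (ν * (a * a))) = 2 * ∑ x : F, f x := by
  have hF : ringChar F ≠ 2 := fun e => h2 (by
    have := ringChar.spec F 2
    rw [e] at this
    exact_mod_cast this.2 dvd_rfl)
  have hν0 : ν ≠ 0 := fun e => hν (e ▸ IsSquare.zero)
  have key : ∀ g : F → ℂ, ∑ a : F, g (a * a) = ∑ x : F, (((quadraticChar F x : ℤ) : ℂ) + 1) * g x := by
    intro g
    rw [← Finset.sum_fiberwise Finset.univ (fun a : F => a * a) (fun a => g (a * a))]
    refine Finset.sum_congr rfl fun x _ => ?_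
    have hc : ((Finset.univ.filter fun a : F => a * a = x).card : ℂ) = ((quadraticChar F x : ℤ) : ℂ) + 1 := by
      have h := quadraticChar_card_sqrts hF x
      rw [show {y : F | y ^ 2 = x}.toFinset = Finset.univ.filter fun a : F => a * a = x by ext y; simp [pow_two]]
        at h
      exact_mod_cast h
    rw [Finset.sum_congr rfl (g := fun _ => g x) fun a ha => by rw [(Finset.mem_filter.1 ha).2],
      Finset.sum_const, nsmul_eq_mul, hc]
  rw [Finset.sum_add_distrib, key f, key (fun x => f (ν * x)),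
    ← Equiv.sum_comp (Equiv.mulLeft₀ ν hν0) (fun x => (((quadraticChar F x : ℤ) : ℂ) + 1) * f x),
    ← Finset.sum_add_distrib, ← Equiv.sum_comp (Equiv.mulLeft₀ ν hν0) f, Finset.mul_sum]
  refine Finset.sum_congr rfl fun x _ => ?_
  show _ + _ = 2 * f (ν * x)
  change (((quadraticChar F (ν * x) : ℤ) : ℂ) + 1) * f (ν * x) + _ = _
  simp only [map_mul, quadraticChar_neg_one_iff_not_isSquare.2 hν]
  push_cast
  ring

variable [DecidableEq F]

theorem sum_square_addChar (h2 : (2 : F) ≠ 0) {ν : F} (hν : ¬ IsSquare ν) {ψ : AddChar F ℂ} (hψ : ψ ≠ 1)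
    {e : F} (he : e ≠ 0) :
    ∑ a : Fˣ, (ψ ((a : F) * a * e) + ψ (ν * ((a : F) * a) * e)) = -2 := by
  have h := sum_square_classes h2 hν (fun x => ψ (x * e))
  rw [sum_addChar hψ he, mul_zero, ← Finset.add_sum_erase _ _ (Finset.mem_univ (0 : F))] at h
  simp only [mul_zero, zero_mul, AddChar.map_zero_eq_one] at h
  have hu : ∑ a : Fˣ, (ψ ((a : F) * a * e) + ψ (ν * ((a : F) * a) * e)) =
      ∑ a ∈ Finset.univ.erase (0 : F), (ψ (a * a * e) + ψ (ν * (a * a) * e)) := by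
    refine Finset.sum_bij (fun a _ => (a : F)) (by simp) (fun a _ b _ h => Units.ext h) ?_ (fun a _ => rfl)
    intro b hb
    exact ⟨Units.mk0 b (Finset.mem_erase.1 hb).1, Finset.mem_univ _, rfl⟩
  rw [hu]
  linear_combination h

variable [Fintype (Matrix.SpecialLinearGroup (Fin 2) F)]

/-- The candidate cuspidal character. -/
noncomputable def cus (ψ : AddChar F ℂ) (ν : F) (C : Subgroup S2) (θ : C →* ℂˣ) (ω : ℂ) : S2 → ℂ :=
  indFun KK (phi ψ ν ω) - indFun C (fun c => (θ c : ℂ))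

omit [DecidableEq F] in
theorem card_ZU (h2 : (2 : F) ≠ 0) : (Nat.card KK : ℂ) = 2 * qq := by
  rw [← Nat.card_congr (Equiv.ofBijective _ (ZU_bijective h2)), Nat.card_prod, Nat.card_eq_fintype_card,
    Nat.card_eq_fintype_card, Fintype.card_bool]
  push_cast
  ring

variable {C : Subgroup (Matrix.SpecialLinearGroup (Fin 2) F)}

/-- A noncentral element of a cyclic subgroup of order `q + 1` generates a non-split torus. -/
theorem torus_mem [IsCyclic C] (h2 : (2 : F) ≠ 0) (hcard : Nat.card C = Fintype.card F + 1) {c : S2} (hc : c ∈ C)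
    (hnc : c ∉ Subgroup.center S2) :
    SL2Class.NoRoot (SL2Class.tr c) ∧ SL2Class.tr c * SL2Class.tr c ≠ 4 ∧
      Subgroup.centralizer ({c} : Set S2) = C := by
  have hns : SL2Class.NonScalar c := by rwa [SL2Class.mem_center_iff, not_not] at hnc
  have hle : C ≤ Subgroup.centralizer ({c} : Set S2) := fun x hx =>
    Subgroup.mem_centralizer_singleton_iff.2
      (congrArg Subtype.val ((IsCyclic.commGroup (α := C)).mul_comm ⟨x, hx⟩ ⟨c, hc⟩))
  have hdvd := Subgroup.card_dvd_of_le hle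
  have hodd := SL2Class.card_odd_of_two_ne_zero (F := F) h2
  have hq : 1 < Fintype.card F := Fintype.one_lt_card
  rw [hcard] at hdvd
  have htr : SL2Class.tr c * SL2Class.tr c ≠ 4 := fun ht => by
    rw [SL2Class.card_cent_double h2 hns ht] at hdvd
    obtain ⟨k, hk⟩ := hdvd
    rcases Nat.lt_or_ge k 2 with h | h
    · interval_cases k <;> omega
    · nlinarith
  have hno : SL2Class.NoRoot (SL2Class.tr c) := by
    rcases SL2Class.noRoot_or_root (SL2Class.tr c) with h | ⟨r, hr⟩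
    · exact h
    · rw [SL2Class.card_cent_split hr htr] at hdvd
      have := Nat.le_of_dvd (by omega) hdvd
      omega
  refine ⟨hno, htr, (Subgroup.eq_of_le_of_card_ge hle ?_).symm⟩
  rw [hcard, SL2Class.card_cent_noRoot hno hns]

omit [DecidableEq F] in
theorem neg_one_mem [IsCyclic C] (h2 : (2 : F) ≠ 0) (hcard : Nat.card C = Fintype.card F + 1) :
    (-1 : S2) ∈ C := by
  have hodd := SL2Class.card_odd_of_two_ne_zero (F := F) h2
  haveI : Fact (Nat.Prime 2) := ⟨Nat.prime_two⟩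
  obtain ⟨x, hx⟩ := exists_prime_orderOf_dvd_card' (G := C) 2 (by omega)
  have h1 : (x : S2) * x = 1 := by
    have h0 := pow_orderOf_eq_one x
    rw [hx, pow_two] at h0
    exact congrArg Subtype.val h0
  rcases SL2Class.sq_eq_one_cases h2 h1 with h | h
  · exact absurd (orderOf_eq_one_iff.2 (Subtype.ext h : x = 1)) (by omega)
  · exact h ▸ x.2

/-- Elements with `tr² ≠ 4` having an eigenvalue in `F` are killed. -/
theorem cus_split [IsCyclic C] (h2 : (2 : F) ≠ 0) (hcard : Nat.card C = Fintype.card F + 1)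
    (ψ : AddChar F ℂ) (ν : F) (θ : C →* ℂˣ) (ω : ℂ) {g : S2} (ht : SL2Class.tr g * SL2Class.tr g ≠ 4)
    (hr : ¬ SL2Class.NoRoot (SL2Class.tr g)) : cus ψ ν C θ ω g = 0 := by
  have htc : ∀ x : S2, SL2Class.tr (x⁻¹ * g * x) = SL2Class.tr g := fun x => by
    simpa using SL2Class.tr_conj x⁻¹ g
  rw [cus, Pi.sub_apply, indFun_eq_zero_of_forall _ _ fun x hx => ht (htc x ▸ tr_ZU hx),
    indFun_eq_zero_of_forall _ _ ?_, sub_zero]
  intro x hx
  by_cases hz : x⁻¹ * g * x ∈ Subgroup.center S2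
  · rw [SL2Class.mem_center_iff] at hz
    rcases SL2Class.scalar_cases hz with e | e <;>
      exact ht (by rw [← htc x]; simp [SL2Class.tr, e]; norm_num)
  · exact hr (htc x ▸ (torus_mem h2 hcard hx hz).1)

theorem cus_neg [IsCyclic C] (h2 : (2 : F) ≠ 0) (ψ : AddChar F ℂ) (ν : F) (θ : C →* ℂˣ) {ω : ℂ}
    (hneg : (-1 : S2) ∈ C) (hω : ω = (θ ⟨-1, hneg⟩ : ℂ)) (g : S2) :
    cus ψ ν C θ ω (-1 * g) = ω * cus ψ ν C θ ω g := by
  have hc : ∀ x : S2, (-1 : S2) * x = x * -1 := fun x =>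
    ((Subgroup.mem_center_iff.1 (SL2Class.neg_one_mem_center (F := F))) x).symm
  have hω2 : ω * ω = 1 := by
    rw [hω, ← Units.val_mul, ← map_mul,
      show (⟨-1, hneg⟩ * ⟨-1, hneg⟩ : C) = 1 from Subtype.ext SL2Class.neg_mul_self_eq, map_one, Units.val_one]
  have hK : (-1 : S2) ∈ KK := mem_ZU.2 (by simp [SL2Class.coe_neg_one])
  rw [cus, Pi.sub_apply, Pi.sub_apply, indFun_central_mul _ _ hK hc ω ?_,
    indFun_central_mul _ _ hneg hc ω ?_]
  · ring
  · intro h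
    simp only [map_mul, Units.val_mul, hω]
  · intro h
    have e : ∀ ψ' : AddChar F ℂ, lam ω ψ' (⟨-1, hK⟩ * h) = ω * lam ω ψ' h := fun ψ' => by
      rw [lam_mul h2 hω2]
      congr 1
      simp [lam, SL2Class.coe_neg_one, w_neg_one h2]
    simp only [phi, Pi.add_apply, e]
    ring

theorem cus_one [IsCyclic C] (h2 : (2 : F) ≠ 0) (hcard : Nat.card C = Fintype.card F + 1)
    (ψ : AddChar F ℂ) (ν : F) (θ : C →* ℂˣ) (ω : ℂ) : cus ψ ν C θ ω 1 = qq - 1 := by
  have h : ∀ (H : Subgroup S2) (f : H → ℂ), indFun H f 1 = (Nat.card H : ℂ)⁻¹ * (Nat.card S2 * f 1) := by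
    intro H f
    rw [indFun_apply, Finset.sum_congr rfl (g := fun _ => f 1) fun x _ => ?_, Finset.sum_const, nsmul_eq_mul,
      Finset.card_univ, ← Nat.card_eq_fintype_card]
    rw [show x⁻¹ * 1 * x = ((1 : H) : S2) by simp, extendByZero_coe]
  rw [cus, Pi.sub_apply, h, h, card_ZU h2, hcard]
  have hS : (Nat.card S2 : ℂ) = qq * ((qq - 1) * (qq + 1)) := by
    rw [SL2Class.card_sl, Nat.cast_mul, Nat.cast_sub (Nat.one_le_pow _ _ Fintype.card_pos)]
    push_cast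
    ring
  have h0 : qq ≠ 0 := Nat.cast_ne_zero.2 Fintype.card_ne_zero
  have h1 : qq + 1 ≠ 0 := by exact_mod_cast Nat.succ_ne_zero (Fintype.card F)
  rw [hS]
  simp [phi, lam, w_one]
  field_simp
  ring

theorem cus_unipotent [IsCyclic C] (h2 : (2 : F) ≠ 0) (hcard : Nat.card C = Fintype.card F + 1)
    {ψ : AddChar F ℂ} (hψ : ψ ≠ 1) {ν : F} (hν : ¬ IsSquare ν) (θ : C →* ℂˣ) (ω : ℂ) {e : F} (he : e ≠ 0) :
    cus ψ ν C θ ω (bEl 1 e) = -1 := by
  have hns : SL2Class.NonScalar (bEl (1 : Fˣ) e) := fun h => he (by simpa [coe_bEl] using h.1)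
  have htr : SL2Class.tr (bEl (1 : Fˣ) e) * SL2Class.tr (bEl (1 : Fˣ) e) = 4 := by
    simp [SL2Class.tr, coe_bEl]; norm_num
  have hC : ∀ x : S2, x⁻¹ * bEl 1 e * x ∉ C := by
    intro x hx
    have hn := SL2Class.nonScalar_conj hns x⁻¹
    rw [inv_inv] at hn
    have hz : x⁻¹ * bEl 1 e * x ∉ Subgroup.center S2 := by rw [SL2Class.mem_center_iff, not_not]; exact hn
    refine (torus_mem h2 hcard hx hz).2.1 ?_
    have := SL2Class.tr_conj x⁻¹ (bEl (1 : Fˣ) e)
    rw [inv_inv] at this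
    rw [this, htr]
  rw [cus, Pi.sub_apply, indFun_eq_zero_of_forall _ _ hC, sub_zero, indFun_apply, card_ZU h2]
  haveI := Fintype.ofFinite (Borel F)
  classical
  have hsupp : ∀ x : S2, x ∉ Borel F → extendByZero KK (phi ψ ν ω) (x⁻¹ * bEl 1 e * x) = 0 := by
    intro x hx
    refine extendByZero_of_not_mem _ _ fun h => hx (mem_B.2 ?_)
    have h10 := (mem_ZU.1 h).1
    simp [Matrix.SpecialLinearGroup.coe_inv, Matrix.adjugate_fin_two, coe_bEl, Matrix.mul_apply,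
      Fin.sum_univ_two] at h10
    have : e * ((↥ₘ x) 1 0 * (↥ₘ x) 1 0) = 0 := by linear_combination -h10
    exact mul_self_eq_zero.1 ((mul_eq_zero.1 this).resolve_left he)
  have hconj : ∀ (a : Fˣ) (f : F),
      extendByZero KK (phi ψ ν ω) ((bEl a f)⁻¹ * bEl 1 e * bEl a f) =
        ψ (((a⁻¹ : Fˣ) : F) * (a⁻¹ : Fˣ) * e) + ψ (ν * (((a⁻¹ : Fˣ) : F) * (a⁻¹ : Fˣ)) * e) := by
    intro a f
    have he' : (bEl a f)⁻¹ * bEl 1 e * bEl a f = bEl (sgn true : Fˣ) (((a⁻¹ : Fˣ) : F) * (a⁻¹ : Fˣ) * e) := by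
      rw [mul_assoc, inv_mul_eq_iff_eq_mul]
      refine Subtype.ext ?_
      rw [Matrix.SpecialLinearGroup.coe_mul, Matrix.SpecialLinearGroup.coe_mul, coe_bEl, coe_bEl, coe_bEl]
      ext i j; fin_cases i <;> fin_cases j <;> simp [sgn, Matrix.mul_apply, Fin.sum_univ_two]
      field_simp
      ring
    rw [he', extendByZero_of_mem _ _ (sgn_mem true _), phi_sgn]
    simp only [sgn, if_true, Units.val_one, mul_one, w_one, one_mul, AddChar.mulShift_apply]
    rw [mul_assoc ν]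
  rw [← Finset.sum_subset (Finset.subset_univ (Finset.univ.filter fun x : S2 => x ∈ Borel F))
      (fun x _ hx => hsupp x (by simpa using hx)),
    Finset.sum_subtype (p := fun x => x ∈ Borel F) _ (fun x => by simp),
    ← bEl_bijective.sum_comp, Fintype.sum_prod_type]
  simp only [hconj, Finset.sum_const, Finset.card_univ, nsmul_eq_mul, ← Finset.mul_sum]
  have hs := (Equiv.sum_comp (Equiv.inv Fˣ)
    (fun a : Fˣ => ψ ((a : F) * a * e) + ψ (ν * ((a : F) * a) * e))).trans (sum_square_addChar h2 hν hψ he)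
  simp only [Equiv.inv_apply] at hs
  rw [hs]
  have h0 : qq ≠ 0 := Nat.cast_ne_zero.2 Fintype.card_ne_zero
  field_simp

/-- Every element of the form `± u`. -/
theorem cus_sgn [IsCyclic C] (h2 : (2 : F) ≠ 0) (hcard : Nat.card C = Fintype.card F + 1)
    {ψ : AddChar F ℂ} (hψ : ψ ≠ 1) {ν : F} (hν : ¬ IsSquare ν) (θ : C →* ℂˣ) {ω : ℂ}
    (hneg : (-1 : S2) ∈ C) (hω : ω = (θ ⟨-1, hneg⟩ : ℂ)) (b : Bool) (e : F) :
    cus ψ ν C θ ω (bEl (sgn b : Fˣ) e) = w ω ((sgn b : Fˣ) : F) * (if e = 0 then qq - 1 else -1) := by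
  have h1 : ∀ e : F, cus ψ ν C θ ω (bEl 1 e) = if e = 0 then qq - 1 else -1 := fun e => by
    split_ifs with he
    · rw [he, bEl_one, cus_one h2 hcard]
    · exact cus_unipotent h2 hcard hψ hν θ ω he
  cases b
  · have h : bEl (sgn false : Fˣ) e = (-1 : S2) * bEl 1 (-e) := by
      refine Subtype.ext ?_
      rw [Matrix.SpecialLinearGroup.coe_mul, SL2Class.coe_neg_one, coe_bEl, coe_bEl]
      ext i j; fin_cases i <;> fin_cases j <;> simp [sgn]
    rw [h, cus_neg h2 ψ ν θ hneg hω, h1]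
    simp [sgn, w_neg_one h2]
  · simp only [sgn, if_true, h1, Units.val_one, w_one, one_mul]

theorem cus_torus [IsCyclic C] (h2 : (2 : F) ≠ 0) (hcard : Nat.card C = Fintype.card F + 1)
    (ψ : AddChar F ℂ) (ν : F) (θ : C →* ℂˣ) (ω : ℂ) (c : C) (hnc : (c : S2) ∉ Subgroup.center S2) :
    cus ψ ν C θ ω (c : S2) = -((θ c : ℂ) + ((θ c)⁻¹ : ℂˣ)) := by
  classical
  obtain ⟨hno, ht, hZ⟩ := torus_mem h2 hcard c.2 hnc
  have htc : ∀ x : S2, SL2Class.tr (x⁻¹ * (c : S2) * x) = SL2Class.tr (c : S2) := fun x => by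
    simpa using SL2Class.tr_conj x⁻¹ (c : S2)
  rw [cus, Pi.sub_apply, indFun_eq_zero_of_forall _ _ (fun x hx => ht (htc x ▸ tr_ZU hx)), zero_sub, indFun_apply]
  obtain ⟨w₀, hw⟩ := SL2Class.exists_inverting ht
  have hwn := SL2Class.inverting_notMem ht hw
  rw [hZ] at hwn
  have hmem : ∀ x : S2, x ∈ C ↔ x * (c : S2) = (c : S2) * x := fun x => by
    rw [← Subgroup.mem_centralizer_singleton_iff, hZ]
  have hw' : w₀ * (c : S2)⁻¹ * w₀⁻¹ = c := by
    conv_rhs => rw [← inv_inv (c : S2), ← hw]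
    group
  have hext : ∀ x : S2, extendByZero C (fun c => (θ c : ℂ)) (x⁻¹ * c * x) =
      (if x ∈ C then (θ c : ℂ) else 0) + (if w₀ * x ∈ C then (((θ c)⁻¹ : ℂˣ) : ℂ) else 0) := by
    intro x
    have hx1 : x ∈ C → x⁻¹ * (c : S2) * x = c := fun h => by
      rw [mul_assoc, ← (hmem x).1 h, inv_mul_cancel_left]
    have hx2 : w₀ * x ∈ C → x⁻¹ * (c : S2) * x = (c : S2)⁻¹ := fun h => by
      have e := (hmem _).1 h
      calc x⁻¹ * (c : S2) * x = x⁻¹ * (w₀⁻¹ * ((w₀ * (c : S2) * w₀⁻¹) * (w₀ * x))) := by group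
        _ = x⁻¹ * (w₀⁻¹ * ((c : S2)⁻¹ * (w₀ * x))) := by rw [hw]
        _ = (w₀ * x)⁻¹ * ((c : S2)⁻¹ * (w₀ * x)) := by group
        _ = (w₀ * x)⁻¹ * ((c : S2)⁻¹ * (w₀ * x * c) * (c : S2)⁻¹) := by group
        _ = (c : S2)⁻¹ := by rw [e]; group
    by_cases hx : x ∈ C
    · have : w₀ * x ∉ C := fun h => hwn (by simpa using mul_mem h (inv_mem hx))
      rw [if_pos hx, if_neg this, hx1 hx, extendByZero_coe, add_zero]
    rw [if_neg hx, zero_add]
    by_cases hwx : w₀ * x ∈ C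
    · rw [if_pos hwx, hx2 hwx, extendByZero_of_mem _ _ (inv_mem c.2),
        show (⟨(c : S2)⁻¹, inv_mem c.2⟩ : C) = c⁻¹ from rfl, map_inv]
    · rw [if_neg hwx]
      refine extendByZero_of_not_mem _ _ fun h => ?_
      rcases SL2Class.eq_or_inv_of_tr ht ((SetLike.ext_iff.1 hZ _).2 h) (htc x) with e | e
      · refine hx ((hmem x).2 ?_)
        calc x * (c : S2) = x * (x⁻¹ * c * x) := by rw [e]
          _ = c * x := by group
      · refine hwx ((hmem _).2 ?_)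
        have e2 : (x⁻¹ * (c : S2) * x)⁻¹ = c := by rw [e, inv_inv]
        have e' : x * (c : S2) * x⁻¹ = (c : S2)⁻¹ := by
          calc x * (c : S2) * x⁻¹ = x * (x⁻¹ * (c : S2) * x)⁻¹ * x⁻¹ := by rw [e2]
            _ = (c : S2)⁻¹ := by group
        calc w₀ * x * (c : S2) = w₀ * (x * (c : S2) * x⁻¹) * w₀⁻¹ * (w₀ * x) := by group
          _ = (c : S2) * (w₀ * x) := by rw [e', hw']
  rw [Finset.sum_congr rfl fun x _ => hext x, Finset.sum_add_distrib,
    ← Equiv.sum_comp (Equiv.mulLeft w₀⁻¹) (fun x : S2 => if w₀ * x ∈ C then (((θ c)⁻¹ : ℂˣ) : ℂ) else 0)]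
  simp only [Equiv.coe_mulLeft, mul_inv_cancel_left, Finset.sum_ite_zero, ← Finset.sum_filter,
    Finset.sum_const, nsmul_eq_mul]
  rw [show ((Finset.univ.filter fun x : S2 => x ∈ C).card : ℂ) = (Nat.card C : ℂ) by
    rw [Nat.card_eq_fintype_card, Fintype.card_subtype], hcard]
  have h1 : ((Fintype.card F + 1 : ℕ) : ℂ) ≠ 0 := Nat.cast_ne_zero.2 (Nat.succ_ne_zero _)
  field_simp
  try ring

theorem cus_isGen [IsCyclic C] (h2 : (2 : F) ≠ 0) (ψ : AddChar F ℂ) (ν : F) (θ : C →* ℂˣ) {ω : ℂ}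
    (hω2 : ω * ω = 1) : IsGeneralizedCharacter S2 (cus ψ ν C θ ω) :=
  isGeneralized_sub (isGeneralized_of_isCharacter (isCharacter_indFun _
      (isCharacter_add (isCharacter_lam h2 hω2 ψ) (isCharacter_lam h2 hω2 _))))
    (isGeneralized_of_isCharacter (isCharacter_indFun _ (isCharacter_hom θ)))

omit [Fintype F] [DecidableEq F] [Fintype (Matrix.SpecialLinearGroup (Fin 2) F)] in
theorem sq_theta_neg (θ : C →* ℂˣ) (hneg : (-1 : S2) ∈ C) :
    (θ ⟨-1, hneg⟩ : ℂ) * (θ ⟨-1, hneg⟩ : ℂ) = 1 := by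
  rw [← Units.val_mul, ← map_mul,
    show (⟨-1, hneg⟩ * ⟨-1, hneg⟩ : C) = 1 from Subtype.ext SL2Class.neg_mul_self_eq, map_one, Units.val_one]

theorem inner_phi_cus [IsCyclic C] (h2 : (2 : F) ≠ 0) (hcard : Nat.card C = Fintype.card F + 1)
    {ψ : AddChar F ℂ} (hψ : ψ ≠ 1) {ν : F} (hν : ¬ IsSquare ν) (θ : C →* ℂˣ) {ω ω' : ℂ}
    (hneg : (-1 : S2) ∈ C) (hω : ω = (θ ⟨-1, hneg⟩ : ℂ)) [Fintype (ZU F)] :
    classInner (phi ψ ν ω') (fun k : KK => cus ψ ν C θ ω (k : S2)) = 1 + ω' * ω := by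
  have hω2 : ω * ω = 1 := hω ▸ sq_theta_neg θ hneg
  have hconjω : conj ω = ω := by rcases mul_self_eq_one_iff.1 hω2 with h | h <;> simp [h]
  have hν0 : ν ≠ 0 := fun e => hν (e ▸ IsSquare.zero)
  have hb : ∀ b : Bool, ((sgn b : Fˣ) : F) ≠ 0 := fun b => Units.ne_zero _
  rw [classInner, card_ZU h2,
    ← (ZU_bijective h2).sum_comp (fun k : KK => phi ψ ν ω' k * conj (cus ψ ν C θ ω (k : S2))),
    Fintype.sum_prod_type]
  have hsum : ∀ b : Bool, ∑ e : F, phi ψ ν ω' ⟨bEl (sgn b : Fˣ) e, sgn_mem b e⟩ *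
      conj (cus ψ ν C θ ω (bEl (sgn b : Fˣ) e)) =
      w ω' ((sgn b : Fˣ) : F) * conj (w ω ((sgn b : Fˣ) : F)) * (2 * qq) := by
    intro b
    have e1 : ∀ e : F, phi ψ ν ω' ⟨bEl (sgn b : Fˣ) e, sgn_mem b e⟩ *
        conj (cus ψ ν C θ ω (bEl (sgn b : Fˣ) e)) =
        w ω' ((sgn b : Fˣ) : F) * conj (w ω ((sgn b : Fˣ) : F)) *
          ((if e = 0 then 2 * qq else 0) - (ψ (e * (sgn b : Fˣ)) + ψ (e * ((sgn b : Fˣ) * ν)))) := by
      intro e
      rw [phi_sgn, cus_sgn h2 hcard hψ hν θ hneg hω, map_mul (starRingEnd ℂ), AddChar.mulShift_apply,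
        show ν * (e * ((sgn b : Fˣ) : F)) = e * ((sgn b : Fˣ) * ν) by ring]
      split_ifs with he
      · simp only [he, zero_mul, AddChar.map_zero_eq_one, map_sub, Complex.conj_natCast, map_one]
        ring
      · simp only [map_neg, map_one]
        ring
    simp only [e1, ← Finset.mul_sum, Finset.sum_sub_distrib, Finset.sum_add_distrib, Finset.sum_ite_eq',
      Finset.mem_univ, if_true, sum_addChar hψ (hb b), sum_addChar hψ (mul_ne_zero (hb b) hν0)]
    ring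
  rw [Finset.sum_congr rfl fun b _ => hsum b, Fintype.sum_bool]
  simp only [sgn, if_true, Bool.false_eq_true, if_false, Units.val_one, Units.val_neg, w_one, w_neg_one h2,
    map_one, hconjω]
  have h0 : qq ≠ 0 := Nat.cast_ne_zero.2 Fintype.card_ne_zero
  field_simp

theorem inner_theta_cus [IsCyclic C] (h2 : (2 : F) ≠ 0) (hcard : Nat.card C = Fintype.card F + 1)
    (ψ : AddChar F ℂ) (ν : F) (θ θ' : C →* ℂˣ) {ω ω' : ℂ} (hneg : (-1 : S2) ∈ C)
    (hω : ω = (θ ⟨-1, hneg⟩ : ℂ)) (hω' : ω' = (θ' ⟨-1, hneg⟩ : ℂ)) [Fintype C] [DecidableEq (C →* ℂˣ)] :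
    classInner (fun c : C => (θ' c : ℂ)) (fun c : C => cus ψ ν C θ ω (c : S2)) =
      1 + ω' * ω - ((if θ' = θ then 1 else 0) + (if θ' = θ⁻¹ then 1 else 0)) := by
  have hω2 : ω * ω = 1 := hω ▸ sq_theta_neg θ hneg
  have hconjω : conj ω = ω := by rcases mul_self_eq_one_iff.1 hω2 with h | h <;> simp [h]
  have hconj : ∀ c : C, conj ((θ c : ℂˣ) : ℂ) = (θ⁻¹ c : ℂˣ) := fun c => by
    rw [MonoidHom.inv_apply, ← map_inv]
    exact (IsChar.inv_eq_conj (isCharacter_hom θ) c).symm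
  have hconj' : ∀ c : C, conj (((θ c)⁻¹ : ℂˣ) : ℂ) = (θ c : ℂˣ) := fun c => by
    rw [← MonoidHom.inv_apply, ← hconj c, Complex.conj_conj]
  classical
  set n : C := ⟨-1, hneg⟩ with hn
  have hne : (1 : C) ≠ n := fun e => SL2Class.neg_one_ne_one h2 (congrArg Subtype.val e).symm
  have hval : ∀ c : C, (θ' c : ℂ) * conj (cus ψ ν C θ ω (c : S2)) =
      (if c ∈ ({1, n} : Finset C) then ((Fintype.card F : ℂ) + 1) * ((θ' c : ℂ) * (θ⁻¹ c : ℂˣ)) else 0) -
        ((((θ' * θ⁻¹) c : ℂˣ) : ℂ) + (((θ' * θ) c : ℂˣ) : ℂ)) := by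
    intro c
    simp only [MonoidHom.mul_apply, Units.val_mul]
    by_cases hc : (c : S2) ∈ Subgroup.center S2
    · rcases SL2Class.mem_center_cases.1 hc with h | h
      · obtain rfl : c = 1 := Subtype.ext h
        simp [cus_one h2 hcard]
        try ring
      · obtain rfl : c = n := Subtype.ext h
        have e : cus ψ ν C θ ω ((n : C) : S2) = ω * (qq - 1) := by
          rw [show ((n : C) : S2) = -1 * 1 by rw [mul_one], cus_neg h2 ψ ν θ hneg hω, cus_one h2 hcard]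
        have e2 : ((θ⁻¹ n : ℂˣ) : ℂ) = ω := by rw [← hconj, hn, ← hω, hconjω]
        rw [e, if_pos (by simp), e2, show ((θ n : ℂˣ) : ℂ) = ω from hω.symm, map_mul, hconjω]
        simp only [map_sub, Complex.conj_natCast, map_one]
        ring
    · rw [if_neg, cus_torus h2 hcard ψ ν θ ω c hc, map_neg, map_add, hconj, hconj']
      · ring
      · simp only [Finset.mem_insert, Finset.mem_singleton]
        rintro (rfl | rfl)
        · exact hc (Subgroup.one_mem _)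
        · exact hc SL2Class.neg_one_mem_center
  have hsum : ∀ f : C →* ℂˣ, ∑ c : C, ((f c : ℂˣ) : ℂ) = if f = 1 then (Nat.card C : ℂ) else 0 := by
    intro f
    have h := sum_hom_units ((Units.coeHom ℂ).comp f)
    simp only [MonoidHom.coe_comp, Function.comp_apply, Units.coeHom_apply] at h
    rw [h, Nat.card_eq_fintype_card]
    by_cases hf : f = 1
    · rw [if_pos hf, if_pos]
      ext c; simp [hf]
    · rw [if_neg hf, if_neg]
      · simp
      intro e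
      refine hf (MonoidHom.ext fun c => Units.ext ?_)
      exact DFunLike.congr_fun e c
  have hA : ∑ c : C, (((θ' * θ⁻¹) c : ℂˣ) : ℂ) = if θ' = θ then (Nat.card C : ℂ) else 0 := by
    rw [hsum]; exact if_congr ⟨fun h => MonoidHom.ext fun c => mul_inv_eq_one.1 (DFunLike.congr_fun h c), fun h => MonoidHom.ext fun c => mul_inv_eq_one.2 (DFunLike.congr_fun h c)⟩ rfl rfl
  have hB : ∑ c : C, (((θ' * θ) c : ℂˣ) : ℂ) = if θ' = θ⁻¹ then (Nat.card C : ℂ) else 0 := by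
    rw [hsum]; exact if_congr ⟨fun h => MonoidHom.ext fun c => mul_eq_one_iff_eq_inv.1 (DFunLike.congr_fun h c), fun h => MonoidHom.ext fun c => mul_eq_one_iff_eq_inv.2 (DFunLike.congr_fun h c)⟩ rfl rfl
  simp only [classInner, hval, Finset.sum_sub_distrib, Finset.sum_add_distrib, hA, hB, Finset.sum_ite_mem,
    Finset.univ_inter, Finset.sum_pair hne]
  rw [hn, ← hω', show ((θ⁻¹ (⟨-1, hneg⟩ : C) : ℂˣ) : ℂ) = ω by rw [← hconj, ← hω, hconjω], hcard]
  have h1 : ((Fintype.card F + 1 : ℕ) : ℂ) ≠ 0 := Nat.cast_ne_zero.2 (Nat.succ_ne_zero _)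
  push_cast at h1 ⊢
  simp only [map_one, Units.val_one, mul_one]
  split_ifs <;> field_simp <;> ring

theorem inner_cus [IsCyclic C] (h2 : (2 : F) ≠ 0) (hcard : Nat.card C = Fintype.card F + 1)
    {ψ : AddChar F ℂ} (hψ : ψ ≠ 1) {ν : F} (hν : ¬ IsSquare ν) (θ θ' : C →* ℂˣ) {ω ω' : ℂ}
    (hneg : (-1 : S2) ∈ C) (hω : ω = (θ ⟨-1, hneg⟩ : ℂ)) (hω' : ω' = (θ' ⟨-1, hneg⟩ : ℂ))
    [DecidableEq (C →* ℂˣ)] :
    classInner (cus ψ ν C θ' ω') (cus ψ ν C θ ω) =
      (if θ' = θ then 1 else 0) + (if θ' = θ⁻¹ then 1 else 0) := by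
  haveI := Fintype.ofFinite C
  haveI := Fintype.ofFinite (ZU F)
  have hcl := IsGen.isClassFunction (cus_isGen h2 ψ ν θ (ω := ω) (hω ▸ sq_theta_neg θ hneg))
  conv_lhs => arg 1; rw [cus]
  rw [classInner_sub_left, classInner_indFun_left _ _ hcl, classInner_indFun_left _ _ hcl,
    inner_phi_cus h2 hcard hψ hν θ hneg hω, inner_theta_cus h2 hcard ψ ν θ θ' hneg hω hω']
  ring

theorem cus_isIrr [IsCyclic C] (h2 : (2 : F) ≠ 0) (hcard : Nat.card C = Fintype.card F + 1)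
    {ψ : AddChar F ℂ} (hψ : ψ ≠ 1) {ν : F} (hν : ¬ IsSquare ν) (θ : C →* ℂˣ) {ω : ℂ}
    (hneg : (-1 : S2) ∈ C) (hω : ω = (θ ⟨-1, hneg⟩ : ℂ)) (hθ : θ ≠ θ⁻¹) :
    IsIrrCharacter S2 (cus ψ ν C θ ω) := by
  classical
  refine IsGen.isIrr_of_norm_one (cus_isGen h2 ψ ν θ (hω ▸ sq_theta_neg θ hneg)) ?_ ?_
  · rw [inner_cus h2 hcard hψ hν θ θ hneg hω hω, if_pos rfl, if_neg hθ, add_zero]
  · rw [cus_one h2 hcard, Complex.sub_re, Complex.natCast_re, Complex.one_re]
    exact sub_pos.2 qq_re_gt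

theorem cus_cusp [IsCyclic C] (h2 : (2 : F) ≠ 0) (hcard : Nat.card C = Fintype.card F + 1)
    {ψ : AddChar F ℂ} (hψ : ψ ≠ 1) {ν : F} (hν : ¬ IsSquare ν) (θ : C →* ℂˣ) {ω : ℂ}
    (hneg : (-1 : S2) ∈ C) (hω : ω = (θ ⟨-1, hneg⟩ : ℂ)) : Cusp (cus ψ ν C θ ω) := by
  intro α
  rw [classInner_R_eq_sum α (IsGen.isClassFunction (cus_isGen h2 ψ ν θ (hω ▸ sq_theta_neg θ hneg))),
    Finset.sum_eq_zero fun a _ => ?_, mul_zero]
  have key : ∑ e : F, cus ψ ν C θ ω (bEl a e) = 0 := by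
    by_cases ha : (a : F) * a = 1
    · obtain ⟨b, hb⟩ : ∃ b : Bool, (sgn b : Fˣ) = a := by
        rcases mul_self_eq_one_iff.1 ha with h | h
        · exact ⟨true, Units.ext (by simp [sgn, h])⟩
        · exact ⟨false, Units.ext (by simp [sgn, h])⟩
      simp only [← hb, cus_sgn h2 hcard hψ hν θ hneg hω, ← Finset.mul_sum]
      rw [Finset.sum_ite, Finset.sum_const, Finset.sum_const, Finset.filter_eq' Finset.univ (0 : F),
        if_pos (Finset.mem_univ _), Finset.card_singleton, Finset.filter_ne' Finset.univ (0 : F),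
        Finset.card_erase_of_mem (Finset.mem_univ _), Finset.card_univ, nsmul_eq_mul, nsmul_eq_mul,
        Nat.cast_sub Fintype.card_pos]
      push_cast
      ring
    · refine Finset.sum_eq_zero fun e _ => cus_split h2 hcard ψ ν θ ω ?_ ?_
      · intro h
        simp [SL2Class.tr, coe_bEl] at h
        field_simp at h
        exact ha (sub_eq_zero.1 (mul_self_eq_zero.1 (by linear_combination h)))
      · intro h
        refine h (a : F) ?_
        simp [SL2Class.tr, coe_bEl]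
        field_simp
        ring
  rw [key, zero_mul]

end Cfsg.Agent.GL2Rep.SL
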