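import Cfsg.Agent.GL2Rep.SLValues
import Cfsg.Agent.GL2Rep.SLCuspTorus
import Mathlib.NumberTheory.GaussSum
import Mathlib.NumberTheory.LegendreSymbol.QuadraticChar.Basic

/-!
Values of the irreducible characters of degree `(q ± 1) / 2` of SL(2, q).
-/

set_option autoImplicit false

namespace Cfsg.Agent.GL2Rep.SL

open Cfsg Cfsg.Agent.Char Matrix

variable {F : Type*} [Field F] [Fintype F] [DecidableEq F] [Fintype (Matrix.SpecialLinearGroup (Fin 2) F)]

local notation "S2" => Matrix.SpecialLinearGroup (Fin 2) F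
local notation "qq" => (Fintype.card F : ℂ)
local notation:1024 "↥ₘ" A:1024 => ((A : Matrix.SpecialLinearGroup (Fin 2) F) : Matrix (Fin 2) (Fin 2) F)

omit [DecidableEq F] [Fintype (Matrix.SpecialLinearGroup (Fin 2) F)] in
theorem two_ne_zero_of_odd (hodd : Odd (Fintype.card F)) : (2 : F) ≠ 0 := fun h => by
  haveI := Fact.mk Nat.prime_two
  haveI : CharP F 2 := (CharP.charP_iff_prime_eq_zero Nat.prime_two).2 (by exact_mod_cast h)
  obtain ⟨⟨n, hn⟩, -, e⟩ := FiniteField.card F 2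
  rw [e, Nat.odd_pow_iff (by exact Nat.pos_iff_ne_zero.1 hn)] at hodd
  exact absurd hodd (by decide)

/-- The outer diagonal automorphism given by `diag(ν, 1)`. -/
def dia (ν : Fˣ) : S2 ≃* S2 where
  toFun g := ⟨!![(↥ₘ g) 0 0, (ν : F) * (↥ₘ g) 0 1; ((ν⁻¹ : Fˣ) : F) * (↥ₘ g) 1 0, (↥ₘ g) 1 1], by
    rw [Matrix.det_fin_two_of]
    have := det_eq g
    linear_combination this - (↥ₘ g) 0 1 * (↥ₘ g) 1 0 * ν.mul_inv⟩
  invFun g := ⟨!![(↥ₘ g) 0 0, ((ν⁻¹ : Fˣ) : F) * (↥ₘ g) 0 1; (ν : F) * (↥ₘ g) 1 0, (↥ₘ g) 1 1], by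
    rw [Matrix.det_fin_two_of]
    have := det_eq g
    linear_combination this - (↥ₘ g) 0 1 * (↥ₘ g) 1 0 * ν.mul_inv⟩
  left_inv g := Subtype.ext (by ext i j; fin_cases i <;> fin_cases j <;> simp)
  right_inv g := Subtype.ext (by ext i j; fin_cases i <;> fin_cases j <;> simp)
  map_mul' g h := by
    refine Subtype.ext ?_
    show !![(↥ₘ (g * h)) 0 0, (ν : F) * (↥ₘ (g * h)) 0 1; ((ν⁻¹ : Fˣ) : F) * (↥ₘ (g * h)) 1 0, (↥ₘ (g * h)) 1 1] =
      !![(↥ₘ g) 0 0, (ν : F) * (↥ₘ g) 0 1; ((ν⁻¹ : Fˣ) : F) * (↥ₘ g) 1 0, (↥ₘ g) 1 1] *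
      !![(↥ₘ h) 0 0, (ν : F) * (↥ₘ h) 0 1; ((ν⁻¹ : Fˣ) : F) * (↥ₘ h) 1 0, (↥ₘ h) 1 1]
    rw [Matrix.SpecialLinearGroup.coe_mul]
    ext i j
    fin_cases i <;> fin_cases j <;> simp [Matrix.mul_apply, Fin.sum_univ_two] <;> field_simp <;> ring

omit [Fintype F] [DecidableEq F] [Fintype (Matrix.SpecialLinearGroup (Fin 2) F)] in
theorem coe_dia (ν : Fˣ) (g : S2) : ↥ₘ(dia ν g) =
    !![(↥ₘ g) 0 0, (ν : F) * (↥ₘ g) 0 1; ((ν⁻¹ : Fˣ) : F) * (↥ₘ g) 1 0, (↥ₘ g) 1 1] := rfl

omit [Fintype F] [DecidableEq F] [Fintype (Matrix.SpecialLinearGroup (Fin 2) F)] in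
theorem dia_bEl (ν : Fˣ) (e : F) : dia ν (bEl 1 e) = bEl 1 ((ν : F) * e) :=
  Subtype.ext (by rw [coe_dia, coe_bEl, coe_bEl]; ext i j; fin_cases i <;> fin_cases j <;> simp)

omit [Fintype F] [DecidableEq F] [Fintype (Matrix.SpecialLinearGroup (Fin 2) F)] in
theorem tr_dia (ν : Fˣ) (g : S2) : SL2Class.tr (dia ν g) = SL2Class.tr g := by
  rw [SL2Class.tr, SL2Class.tr, coe_dia]; simp

theorem dia_elliptic (ν : Fˣ) (h2 : (2 : F) ≠ 0) {χ : S2 → ℂ} (hχ : IsClassFunction S2 χ) {g : S2}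
    (hg : SL2Class.NoRoot (SL2Class.tr g)) : χ (dia ν g) = χ g := by
  have hd := SL2Class.sq_ne_four_of_noRoot h2 hg
  refine classFun_isConj hχ (SL2Class.isConj_of_tr (SL2Class.nonScalar_of_sq_ne (by rwa [tr_dia]))
    (SL2Class.nonScalar_of_sq_ne hd) (tr_dia ν g) (Or.inl (by rwa [tr_dia])))

/-- The quadratic character with complex values. -/
noncomputable def qc : MulChar F ℂ := (quadraticChar F).ringHomComp (Int.castRingHom ℂ)

omit [Fintype (Matrix.SpecialLinearGroup (Fin 2) F)] in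
theorem qc_apply (a : F) : qc a = ((quadraticChar F a : ℤ) : ℂ) := rfl

omit [Fintype (Matrix.SpecialLinearGroup (Fin 2) F)] in
theorem ringChar_ne (h2 : (2 : F) ≠ 0) : ringChar F ≠ 2 := fun e => h2 (by
  have := ringChar.spec F 2
  rw [e] at this
  exact_mod_cast this.2 dvd_rfl)

omit [Fintype (Matrix.SpecialLinearGroup (Fin 2) F)] in
theorem qc_facts (h2 : (2 : F) ≠ 0) : (qc : MulChar F ℂ) ≠ 1 ∧ (qc : MulChar F ℂ) ^ 2 = 1 ∧
    (∀ a : F, a ≠ 0 → IsSquare a → qc a = 1) ∧ (∀ a : F, ¬ IsSquare a → qc a = -1) := by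
  refine ⟨(MulChar.ringHomComp_ne_one_iff (f := Int.castRingHom ℂ) Int.cast_injective).2
    (quadraticChar_ne_one (ringChar_ne h2)), ((quadraticChar_isQuadratic F).comp _).sq_eq_one,
    fun a ha hs => ?_, fun a hs => ?_⟩
  · rw [qc_apply, (quadraticChar_one_iff_isSquare ha).2 hs, Int.cast_one]
  · rw [qc_apply, quadraticChar_neg_one_iff_not_isSquare.2 hs, Int.cast_neg, Int.cast_one]

/-- The difference of the two unipotent values. -/
theorem diff_sq (h2 : (2 : F) ≠ 0) {χ : S2 → ℂ} (hχ : IsCharacter S2 χ) {ν : F} (hν : ¬ IsSquare ν)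
    (hd : 2 * χ 1 - (χ (bEl 1 1) + χ (bEl 1 ν)) = qq) :
    (χ (bEl 1 1) - χ (bEl 1 ν)) ^ 2 = (-1 : ℂ) ^ ((Fintype.card F - 1) / 2) * qq := by
  have hcl := isClassFunction_of_isCharacter hχ
  obtain ⟨hne, -, hsq, hns⟩ := qc_facts (F := F) h2
  obtain ⟨ψ, hψ1⟩ : ∃ ψ : AddChar F ℂ, ψ (1 : F) ≠ 1 := AddChar.exists_apply_ne_zero.2 one_ne_zero
  have hψ : ψ ≠ 1 := fun e => hψ1 (by rw [e, AddChar.one_apply])
  have hψp : ψ.IsPrimitive := AddChar.IsPrimitive.of_ne_one hψ
  set G := gaussSum (qc : MulChar F ℂ) ψ with hG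
  set A := χ (bEl 1 1)
  set B := χ (bEl 1 ν)
  have hν0 : ν ≠ 0 := fun e => hν (e ▸ IsSquare.zero)
  have hval : ∀ e : F, χ (bEl 1 e) = (A + B) / 2 + qc e * ((A - B) / 2) +
      (if e = 0 then χ 1 - (A + B) / 2 else 0) := by
    intro e
    by_cases he : e = 0
    · subst he
      rw [MulChar.map_zero, if_pos rfl, bEl_one]; ring
    rw [if_neg he]
    by_cases hs : IsSquare e
    · obtain ⟨r, rfl⟩ := hs
      rw [hsq _ he ⟨r, rfl⟩]
      have := unipotent_square hcl 1 r (fun h => he (by rw [h, mul_zero]))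
      rw [mul_one] at this
      rw [this]; ring
    · rw [hns e hs]
      obtain ⟨r, hr⟩ : IsSquare (e * ν⁻¹) := by
        have hq := quadraticChar_neg_one_iff_not_isSquare.2 hs
        have hq' : quadraticChar F ν⁻¹ = -1 :=
          quadraticChar_neg_one_iff_not_isSquare.2 (fun h => hν (by simpa using h.inv))
        refine (quadraticChar_one_iff_isSquare (mul_ne_zero he (inv_ne_zero hν0))).1 ?_
        rw [map_mul, hq, hq']; norm_num
      have he' : e = r * r * ν := by rw [← hr, mul_assoc, inv_mul_cancel₀ hν0, mul_one]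
      rw [he', unipotent_square hcl ν r (fun h => he (by rw [he', h]; ring))]
      ring
  have hsum : ∀ s : F, s ≠ 0 → ∃ m : ℕ,
      (m : ℂ) * qq = qq / 2 + (A - B) / 2 * (qc s * G) := by
    intro s hs
    let φ : Multiplicative F →* S2 :=
      { toFun := fun e => bEl 1 (Multiplicative.toAdd e)
        map_one' := bEl_one
        map_mul' := fun a b => Subtype.ext (by
          rw [Matrix.SpecialLinearGroup.coe_mul, coe_bEl, coe_bEl, coe_bEl]
          ext i j; fin_cases i <;> fin_cases j <;> simp [Matrix.mul_apply, Fin.sum_univ_two, add_comm]) }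
    let f : Multiplicative F →* ℂˣ := MonoidHom.toHomUnits (ψ.mulShift (-s)).toMonoidHom
    obtain ⟨m, hm⟩ := classInner_isCharacter_eq_natCast (isCharacter_comp φ hχ) (isCharacter_hom f)
    refine ⟨m, ?_⟩
    have hc : classInner (fun e => χ (φ e)) (fun e => (f e : ℂ)) = (qq)⁻¹ * ∑ e : F, χ (bEl 1 e) * ψ (s * e) := by
      rw [classInner, Nat.card_congr Multiplicative.toAdd, Nat.card_eq_fintype_card]
      congr 1
      refine Fintype.sum_equiv Multiplicative.toAdd _ _ fun e => ?_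
      have hf : (f e : ℂ) = ψ (-s * Multiplicative.toAdd e) := rfl
      rw [hf, neg_mul, AddChar.map_neg_eq_conj, Complex.conj_conj]
      rfl
    rw [hm] at hc
    rw [hc]
    have hg : ∑ e : F, qc e * ψ (s * e) = qc s * G := by
      have h := gaussSum_mulShift (qc : MulChar F ℂ) ψ (Units.mk0 s hs)
      have hss : qc s * qc s = (1 : ℂ) := by
        by_cases h' : IsSquare s
        · rw [hsq s hs h', one_mul]
        · rw [hns s h']; norm_num
      rw [hG, ← h, Units.val_mk0, ← mul_assoc, hss, one_mul]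
      simp [gaussSum, AddChar.mulShift_apply]
    have h0 : qq ≠ 0 := Nat.cast_ne_zero.2 Fintype.card_ne_zero
    have hz : ∑ e : F, ψ (s * e) = 0 := by
      have := sum_addChar hψ hs
      simpa [mul_comm] using this
    calc (qq)⁻¹ * (∑ e : F, χ (bEl 1 e) * ψ (s * e)) * qq = ∑ e : F, χ (bEl 1 e) * ψ (s * e) := by
          field_simp
      _ = (A + B) / 2 * ∑ e : F, ψ (s * e) + (A - B) / 2 * (∑ e : F, qc e * ψ (s * e)) +
          ∑ e : F, (if e = 0 then (χ 1 - (A + B) / 2) * ψ (s * e) else 0) := by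
          simp only [Finset.mul_sum, ← Finset.sum_add_distrib]
          refine Finset.sum_congr rfl fun e _ => ?_
          rw [hval e]
          split_ifs <;> ring
      _ = qq / 2 + (A - B) / 2 * (qc s * G) := by
          rw [hz, hg, Finset.sum_ite_eq' Finset.univ (0 : F), if_pos (Finset.mem_univ _), mul_zero, mul_zero,
            AddChar.map_zero_eq_one]
          linear_combination hd / 2
  obtain ⟨m, hm⟩ := hsum 1 one_ne_zero
  obtain ⟨n, hn⟩ := hsum ν hν0
  rw [MulChar.map_one, one_mul] at hm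
  rw [hns ν hν] at hn
  have h0 : qq ≠ 0 := Nat.cast_ne_zero.2 Fintype.card_ne_zero
  have hmn : m + n = 1 := Nat.cast_injective (R := ℂ) (by
    push_cast
    exact mul_right_cancel₀ h0 (by linear_combination hm + hn))
  have hdG : ((A - B) * G) ^ 2 = qq ^ 2 := by
    rcases (show m = 0 ∨ m = 1 by omega) with rfl | rfl
    · rw [show (A - B) * G = -qq by push_cast at hm; linear_combination -2 * hm]; ring
    · rw [show (A - B) * G = qq by push_cast at hm; linear_combination -2 * hm]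
  have hG2 := gaussSum_sq hne ((quadraticChar_isQuadratic F).comp _) hψp
  rw [← hG, show (qc : MulChar F ℂ) (-1) = (-1 : ℂ) ^ ((Fintype.card F - 1) / 2) by
    have hodd := SL2Class.card_odd_of_two_ne_zero (F := F) h2
    rw [qc_apply, quadraticChar_neg_one (ringChar_ne h2), ZMod.χ₄_eq_neg_one_pow hodd,
      show Fintype.card F / 2 = (Fintype.card F - 1) / 2 by omega]
    push_cast; rfl] at hG2
  rw [mul_pow, hG2] at hdG
  set δ := (-1 : ℂ) ^ ((Fintype.card F - 1) / 2) with hδ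
  have hδ2 : δ * δ = 1 := by
    rw [hδ, ← mul_pow]; norm_num
  refine mul_right_cancel₀ h0 ?_
  linear_combination δ * hdG - (A - B) ^ 2 * qq * hδ2

variable [Fintype (GL (Fin 2) F)]

/-- Which rows of the table the two degrees select. -/
theorem half_rows (h2 : (2 : F) ≠ 0) (hq : 5 ≤ Fintype.card F) :
    ∃ (k : ℕ) (H C₁ : Finset (IrrCharacter S2)), 2 ≤ k ∧ Fintype.card F = 2 * k + 1 ∧ H.card = 2 ∧ C₁.card = 2 ∧
    (∀ χ : IrrCharacter S2, χ ∈ H ↔ (χ : S2 → ℂ) 1 = ((k + 1 : ℕ) : ℂ)) ∧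
    (∀ χ : IrrCharacter S2, χ ∈ C₁ ↔ (χ : S2 → ℂ) 1 = ((k : ℕ) : ℂ)) ∧
    (∀ χ ∈ H, classInner (χ : S2 → ℂ) (R qc) = 1 ∧ ∀ β, β ≠ qc → classInner (χ : S2 → ℂ) (R β) = 0) ∧
    (∀ χ ∈ C₁, Cusp (χ : S2 → ℂ)) := by
  obtain ⟨k, P, H, C₂, C₁, hk, hkq, hall, hP, hH, hC2, hC1, -, cH, -, c1⟩ := table_odd (F := F) h2
  have cast : ∀ {a b : ℕ}, (a : ℂ) = (b : ℂ) → a = b := fun h => Nat.cast_injective h
  refine ⟨k, H, C₁, by omega, hkq, cH, c1, ?_, ?_, ?_, fun χ h => (hC1 χ h).2⟩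
  · intro χ
    refine ⟨fun h => (hH χ h).1, fun h => ?_⟩
    rcases hall χ with e | e | e | e | e | e
    · rw [e] at h; have := cast (a := 1) (b := k + 1) (by rw [Nat.cast_one]; exact h); omega
    · rw [e, St_one] at h; have := cast h; omega
    · have := cast (h.symm.trans (hP χ e).1); omega
    · exact e
    · have := cast (h.symm.trans (hC2 χ e).1); omega
    · have := cast (h.symm.trans (hC1 χ e).1); omega
  · intro χ
    refine ⟨fun h => (hC1 χ h).1, fun h => ?_⟩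
    rcases hall χ with e | e | e | e | e | e
    · rw [e] at h; have := cast (a := 1) (b := k) (by rw [Nat.cast_one]; exact h); omega
    · rw [e, St_one] at h; have := cast h; omega
    · have := cast (h.symm.trans (hP χ e).1); omega
    · have := cast (h.symm.trans (hH χ e).1); omega
    · have := cast (h.symm.trans (hC2 χ e).1); omega
    · exact e
  · intro χ h
    obtain ⟨-, α, hα, hα1, e⟩ := hH χ h
    obtain ⟨ε, -, -, huniq⟩ := exists_quadratic (F := F) h2
    obtain ⟨hne, hsq, -, -⟩ := qc_facts (F := F) h2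
    obtain rfl : α = qc := (huniq α hα hα1).trans (huniq qc hsq hne).symm
    exact ⟨(half hα hα1 χ.2 e).2.1, (half hα hα1 χ.2 e).2.2.1⟩

/-- Unipotent values: the sum over the two classes. -/
theorem half_sums (h2 : (2 : F) ≠ 0) {k : ℕ} (hk : 2 ≤ k) (hkq : Fintype.card F = 2 * k + 1) {ν : F}
    (hν : ¬ IsSquare ν) {χ : S2 → ℂ} (hχ : IsIrrCharacter S2 χ) :
    (χ 1 = ((k + 1 : ℕ) : ℂ) → classInner χ (R qc) = 1 → (∀ β, β ≠ qc → classInner χ (R β) = 0) →
      χ (bEl 1 1) + χ (bEl 1 ν) = 1) ∧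
    (χ 1 = ((k : ℕ) : ℂ) → Cusp χ → χ (bEl 1 1) + χ (bEl 1 ν) = -1) := by
  classical
  haveI : Fintype (MulChar F ℂ) := Fintype.ofFinite _
  have hcl := isClassFunction_of_isIrr hχ
  have hq : qq = 2 * (k : ℂ) + 1 := by rw [hkq]; push_cast; ring
  have hk0 : (k : ℂ) ≠ 0 := Nat.cast_ne_zero.2 (by omega)
  have hs := sum_unipotent_odd hcl h2 hν
  constructor
  · intro hd h1 h0
    have h := sum_eq hcl (1 : Fˣ)
    rw [Finset.sum_eq_single qc (fun β _ hβ => by rw [h0 β hβ, zero_mul]) (by simp), h1,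
      Units.val_one, MulChar.map_one, one_mul, mul_one, hs, hd, hq] at h
    push_cast at h
    refine mul_left_cancel₀ hk0 ?_
    linear_combination h
  · intro hd hc
    have h := cusp_sum_eq_zero hcl hc (1 : Fˣ)
    rw [hs, hd, hq] at h
    refine mul_left_cancel₀ hk0 ?_
    linear_combination h

/-- The second character of a pair is the twist of the first. -/
theorem pair_twist {T : Finset (IrrCharacter S2)} (hT : T.card = 2) {d : ℂ}
    (hmem : ∀ χ : IrrCharacter S2, χ ∈ T ↔ (χ : S2 → ℂ) 1 = d) {ν : Fˣ} {χ₁ χ₂ : IrrCharacter S2}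
    (h1 : χ₁ ∈ T) (h2 : χ₂ ∈ T) (hne : χ₁ ≠ χ₂) (hdiff : (χ₁ : S2 → ℂ) (bEl 1 1) ≠ (χ₁ : S2 → ℂ) (bEl 1 (ν : F))) :
    ∀ g : S2, (χ₂ : S2 → ℂ) g = (χ₁ : S2 → ℂ) (dia ν g) := by
  let χ' : IrrCharacter S2 := ⟨fun g => (χ₁ : S2 → ℂ) (dia ν g), (isIrrCharacter_comp_equiv (dia ν)).2 χ₁.2⟩
  have h' : χ' ∈ T := (hmem χ').2 (by
    show (χ₁ : S2 → ℂ) (dia ν 1) = d
    rw [map_one]; exact (hmem χ₁).1 h1)
  have hne' : χ' ≠ χ₁ := fun e => hdiff (by
    have := congrFun (congrArg Subtype.val e) (bEl 1 1)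
    rw [show (χ'.val : S2 → ℂ) (bEl 1 1) = (χ₁ : S2 → ℂ) (dia ν (bEl 1 1)) from rfl, dia_bEl, mul_one] at this
    exact this.symm)
  classical
  have hT2 : T = {χ₁, χ'} := (Finset.eq_of_subset_of_card_le
    (Finset.insert_subset h1 (Finset.singleton_subset_iff.2 h'))
    (by rw [hT, Finset.card_pair hne'.symm])).symm
  rw [hT2, Finset.mem_insert, Finset.mem_singleton] at h2
  intro g
  rw [(h2.resolve_left hne.symm : χ₂ = χ')]

/-- Squares of the unipotent differences for the four characters. -/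
theorem half_unipotent (h2 : (2 : F) ≠ 0) {k : ℕ} (hk : 2 ≤ k) (hkq : Fintype.card F = 2 * k + 1) {ν : F}
    (hν : ¬ IsSquare ν) {χ : S2 → ℂ} (hχ : IsIrrCharacter S2 χ)
    (hs : 2 * χ 1 - (χ (bEl 1 1) + χ (bEl 1 ν)) = qq) : χ (bEl 1 1) ≠ χ (bEl 1 ν) := fun e => by
  have h := diff_sq h2 (IsIrr.isCharacter hχ) hν hs
  rw [e, sub_self, zero_pow two_ne_zero] at h
  exact mul_ne_zero (pow_ne_zero _ (by norm_num)) (Nat.cast_ne_zero.2 Fintype.card_ne_zero) h.symm

/-- The elliptic value of a half cuspidal character. -/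
theorem halfCusp_elliptic (h2 : (2 : F) ≠ 0) (hq : 5 ≤ Fintype.card F) {χ : S2 → ℂ}
    (hχ : IsIrrCharacter S2 χ) (hd : χ 1 = (((Fintype.card F - 1) / 2 : ℕ) : ℂ)) {g : S2}
    (hg : SL2Class.NoRoot (SL2Class.tr g)) :
    χ g = if g ^ ((Fintype.card F + 1) / 2) = 1 then -1 else 1 := by
  classical
  obtain ⟨k, H, C₁, hk, hkq, cH, c1, hHm, hCm, hHi, hCc⟩ := half_rows (F := F) h2 hq
  obtain ⟨ν', hν'⟩ := SL2Class.exists_nonsquare (F := F) h2
  have hν : ¬ IsSquare (ν' : F) := hν'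
  have hm : (Fintype.card F + 1) / 2 = k + 1 := by omega
  have hd' : χ 1 = ((k : ℕ) : ℂ) := by rw [hd]; congr 1; omega
  rw [hm]
  -- the torus
  have hgd := SL2Class.sq_ne_four_of_noRoot h2 hg
  have hgn := SL2Class.nonScalar_of_sq_ne hgd
  set C := Subgroup.centralizer ({g} : Set S2) with hC
  haveI : IsCyclic C := SL2Class.isCyclic_centralizer hgd
  have hcard : Nat.card C = Fintype.card F + 1 := by rw [hC, SL2Class.card_cent_noRoot hg hgn]
  have hneg := neg_one_mem (C := C) h2 hcard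
  have hgC : g ∈ C := SL2Class.self_mem_cent g
  have hgz : g ∉ Subgroup.center S2 := fun h => (SL2Class.mem_center_iff.1 h) hgn
  have hpow : ∀ c : C, c ^ (k + 1) = 1 ∨ c ^ (k + 1) = ⟨-1, hneg⟩ := by
    intro c
    have h : ((c ^ (k + 1) : C) : S2) * (c ^ (k + 1) : C) = 1 := by
      rw [← Subgroup.coe_mul, ← pow_add, show k + 1 + (k + 1) = Nat.card C by rw [hcard]; omega, pow_card_eq_one',
        Subgroup.coe_one]
    rcases SL2Class.sq_eq_one_cases h2 h with e | e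
    · exact Or.inl (Subtype.ext e)
    · exact Or.inr (Subtype.ext e)
  have hnn : (⟨-1, hneg⟩ : C) ≠ 1 := fun e => SL2Class.neg_one_ne_one h2 (congrArg Subtype.val e)
  let θ : C →* ℂˣ :=
    { toFun := fun c => if c ^ (k + 1) = 1 then 1 else -1
      map_one' := by simp
      map_mul' := fun a b => by
        have hmul : (a * b) ^ (k + 1) = a ^ (k + 1) * b ^ (k + 1) := by
          letI : CommGroup C := IsCyclic.commGroup
          exact mul_pow a b (k + 1)
        have hnsq : (⟨-1, hneg⟩ : C) * ⟨-1, hneg⟩ = 1 := Subtype.ext SL2Class.neg_mul_self_eq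
        rcases hpow a with ea | ea <;> rcases hpow b with eb | eb <;> rw [hmul, ea, eb] <;>
          simp [hnn, hnsq] }
  have hθv : ∀ c : C, (θ c : ℂ) = if c ^ (k + 1) = 1 then 1 else -1 := fun c => by
    show ((if c ^ (k + 1) = 1 then (1 : ℂˣ) else -1 : ℂˣ) : ℂ) = _
    split_ifs <;> simp
  have hθinv : θ = θ⁻¹ := MonoidHom.ext fun c => by
    rw [MonoidHom.inv_apply]
    show (if c ^ (k + 1) = 1 then (1 : ℂˣ) else -1) = (if c ^ (k + 1) = 1 then (1 : ℂˣ) else -1)⁻¹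
    split_ifs <;> simp
  have hθ1 : θ ≠ 1 := by
    intro e
    obtain ⟨σ, hσ⟩ := IsCyclic.exists_ofOrder_eq_natCard (α := C)
    have h1 := congrArg Units.val (DFunLike.congr_fun e σ)
    rw [hθv, if_neg fun h => ?_] at h1
    · norm_num at h1
    · have := Nat.le_of_dvd (by omega) (orderOf_dvd_of_pow_eq_one h)
      rw [hσ, hcard] at this; omega
  obtain ⟨ψ, hψ1⟩ : ∃ ψ : AddChar F ℂ, ψ (1 : F) ≠ 1 := AddChar.exists_apply_ne_zero.2 one_ne_zero
  have hψ : ψ ≠ 1 := fun e => hψ1 (by rw [e, AddChar.one_apply])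
  set ω : ℂ := (θ ⟨-1, hneg⟩ : ℂ) with hω
  have hω2 : ω * ω = 1 := sq_theta_neg θ hneg
  set X := cus ψ (ν' : F) C θ ω with hX
  have hgen : IsGeneralizedCharacter S2 X := cus_isGen h2 ψ _ θ hω2
  have hnorm : classInner X X = 2 := by
    rw [hX, inner_cus h2 hcard hψ hν θ θ hneg rfl rfl, if_pos rfl, if_pos hθinv]; norm_num
  have hcusp : Cusp X := cus_cusp h2 hcard hψ hν θ hneg rfl
  have hone : classInner X (fun _ => (1 : ℂ)) = 0 := by
    haveI := Fintype.ofFinite (ZU F)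
    haveI := Fintype.ofFinite C
    have hcl : IsClassFunction S2 (fun _ : S2 => (1 : ℂ)) := isClassFunction_of_isIrr isIrrCharacter_one
    rw [hX, cus, classInner_sub_left, classInner_indFun_left _ _ hcl, classInner_indFun_left _ _ hcl]
    have h1 : classInner (phi ψ (ν' : F) ω) (fun _ : ZU F => (1 : ℂ)) = 0 := by
      have hb : ∀ b : Bool, ((sgn b : Fˣ) : F) ≠ 0 := fun b => Units.ne_zero _
      have hν0 : ((ν' : Fˣ) : F) ≠ 0 := ν'.ne_zero
      rw [classInner, ← (ZU_bijective h2).sum_comp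
        (fun x : ZU F => phi ψ (ν' : F) ω x * (starRingEnd ℂ) 1), Fintype.sum_prod_type]
      simp only [map_one, mul_one, phi_sgn, AddChar.mulShift_apply, ← Finset.mul_sum, Finset.sum_add_distrib]
      have e1 : ∀ b : Bool, ∑ e : F, ψ (e * ((sgn b : Fˣ) : F)) = 0 := fun b => sum_addChar hψ (hb b)
      have e2 : ∀ b : Bool, ∑ e : F, ψ ((ν' : F) * (e * ((sgn b : Fˣ) : F))) = 0 := fun b => by
        rw [Finset.sum_congr rfl (g := fun e : F => ψ (e * ((ν' : F) * ((sgn b : Fˣ) : F))))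
          fun e _ => congrArg ψ (by ring)]
        exact sum_addChar hψ (mul_ne_zero hν0 (hb b))
      simp [e1, e2]
    have h2' : classInner (fun c : C => (θ c : ℂ)) (fun _ : C => (1 : ℂ)) = 0 :=
      classInner_irr_ne (isIrrCharacter_hom θ) isIrrCharacter_one fun e => hθ1 (MonoidHom.ext fun c =>
        Units.ext (congrFun e c))
    rw [h1, h2', sub_zero]
  obtain ⟨m, hm', hXe, hn2⟩ := IsGen.exists_mult hgen
  rw [hnorm] at hn2
  have hn2' : ∑ ψ', m ψ' ^ 2 = 2 := by exact_mod_cast hn2.symm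
  obtain ⟨k', P, H', C₂, C₁', -, hkq', hall, hP, hH', hC2, hC1', -, -, -, -⟩ := table_odd (F := F) h2
  obtain rfl : k' = k := by omega
  -- multiplicities
  have hm1 : ∀ φ : IrrCharacter S2, (φ : S2 → ℂ) = (fun _ => 1) ∨ (φ : S2 → ℂ) = St → m φ = 0 := by
    intro φ hφ
    apply Int.cast_injective (α := ℂ)
    rw [← hm' φ, Int.cast_zero]
    rcases hφ with e | e <;> rw [e]
    · exact hone
    · rw [St, classInner_sub_right, hcusp 1, hone, sub_zero]
  have hmP : ∀ φ ∈ P, m φ = 0 := by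
    intro φ hφ
    obtain ⟨-, α, -, e⟩ := hP φ hφ
    apply Int.cast_injective (α := ℂ)
    rw [← hm' φ, Int.cast_zero, e]; exact hcusp α
  have hCeq : C₁' = C₁ := Finset.ext fun φ => ⟨fun h => (hCm φ).2 (hC1' φ h).1, fun h => by
    have h' := (hCm φ).1 h
    have cast : ∀ {a b : ℕ}, (a : ℂ) = (b : ℂ) → a = b := fun h => Nat.cast_injective h
    rcases hall φ with e | e | e | e | e | e
    · rw [e] at h'; have := cast (a := 1) (b := k') (by rw [Nat.cast_one]; exact h'); omega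
    · rw [e, St_one] at h'; have := cast h'; omega
    · have := cast (h'.symm.trans (hP φ e).1); omega
    · have := cast (h'.symm.trans (hH' φ e).1); omega
    · have := cast (h'.symm.trans (hC2 φ e).1); omega
    · exact e⟩
  subst hCeq
  obtain ⟨φa, φb, hab, hHeq⟩ := Finset.card_eq_two.1 cH
  have hsumH : m φa + m φb = 0 := by
    obtain ⟨hne, hsq, -, -⟩ := qc_facts (F := F) h2
    have hin : classInner (φa : S2 → ℂ) (R qc) ≠ 0 := by
      rw [(hHi φa (by rw [hHeq]; simp)).1]; exact one_ne_zero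
    obtain ⟨-, -, -, φ', hi', hne', hsum, -, hmem, -⟩ := half hsq hne φa.2 hin
    have hb : (φb : S2 → ℂ) = φ' := by
      refine (hmem φb φb.2 (by rw [(hHi φb (by rw [hHeq]; simp)).1]; exact one_ne_zero)).resolve_left ?_
      exact fun e => hab (Subtype.ext e).symm
    apply Int.cast_injective (α := ℂ)
    rw [Int.cast_add, ← hm' φa, ← hm' φb, hb, ← classInner_add_right, ← hsum, hcusp qc, Int.cast_zero]
  -- classification of the support
  have hsupp : ∀ φ : IrrCharacter S2, m φ ≠ 0 → φ = φa ∨ φ = φb ∨ φ ∈ C₂ ∨ φ ∈ C₁' := by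
    intro φ hφ
    rcases hall φ with e | e | e | e | e | e
    · exact absurd (hm1 φ (Or.inl e)) hφ
    · exact absurd (hm1 φ (Or.inr e)) hφ
    · exact absurd (hmP φ e) hφ
    · have : φ ∈ H := (hHm φ).2 (hH' φ e).1
      rw [hHeq] at this
      simp at this
      tauto
    · exact Or.inr (Or.inr (Or.inl e))
    · exact Or.inr (Or.inr (Or.inr e))
  obtain ⟨χa, χb, hab', hCeq'⟩ := Finset.card_eq_two.1 c1
  have hdisj : Disjoint C₂ C₁' := Finset.disjoint_left.2 fun φ a b => by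
    have := Nat.cast_injective ((hC2 φ a).1.symm.trans (hC1' φ b).1); omega
  have hdH : Disjoint H (C₂ ∪ C₁') := Finset.disjoint_left.2 fun φ a b => by
    rcases Finset.mem_union.1 b with b | b
    · have := Nat.cast_injective (((hHm φ).1 a).symm.trans (hC2 φ b).1); omega
    · have := Nat.cast_injective (((hHm φ).1 a).symm.trans (hC1' φ b).1); omega
  have hres : ∀ (f : IrrCharacter S2 → ℂ), (∀ φ, m φ = 0 → f φ = 0) →
      ∑ φ, f φ = (f φa + f φb) + (∑ φ ∈ C₂, f φ + (f χa + f χb)) := by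
    intro f hf
    rw [← Finset.sum_subset (Finset.subset_univ (H ∪ (C₂ ∪ C₁'))) (fun φ _ hφ => hf φ (by
      by_contra h
      refine hφ ?_
      rcases hsupp φ h with rfl | rfl | e | e
      · exact Finset.mem_union_left _ (by rw [hHeq]; simp)
      · exact Finset.mem_union_left _ (by rw [hHeq]; simp)
      · exact Finset.mem_union_right _ (Finset.mem_union_left _ e)
      · exact Finset.mem_union_right _ (Finset.mem_union_right _ e))),
      Finset.sum_union hdH, Finset.sum_union hdisj, hHeq, hCeq', Finset.sum_pair hab, Finset.sum_pair hab']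
  have hdeg : (1 : ℤ) * 2 = 2 * ∑ φ ∈ C₂, m φ + (m χa + m χb) := by
    have h := congrFun hXe 1
    rw [hX, cus_one h2 hcard, Finset.sum_apply,
      hres (fun φ => ((m φ : ℂ) • (φ : S2 → ℂ)) 1) (fun φ h => by simp [h])] at h
    simp only [Pi.smul_apply, smul_eq_mul] at h
    rw [(hHm φa).1 (by rw [hHeq]; simp), (hHm φb).1 (by rw [hHeq]; simp),
      (hCm χa).1 (by rw [hCeq']; simp), (hCm χb).1 (by rw [hCeq']; simp),
      Finset.sum_congr rfl (g := fun φ => (m φ : ℂ) * ((2 * k' : ℕ) : ℂ)) fun φ hφ => by rw [(hC2 φ hφ).1],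
      ← Finset.sum_mul, hkq] at h
    have h0 : (k' : ℂ) ≠ 0 := Nat.cast_ne_zero.2 (by omega)
    have hH0 : (m φa : ℂ) + m φb = 0 := by exact_mod_cast hsumH
    apply Int.cast_injective (α := ℂ)
    push_cast at h ⊢
    refine mul_left_cancel₀ h0 ?_
    linear_combination h + (↑k' + 1) * hH0
  have hsq2 : (m φa ^ 2 + m φb ^ 2) + (∑ φ ∈ C₂, m φ ^ 2 + (m χa ^ 2 + m χb ^ 2)) = 2 := by
    have h := hres (fun φ => (m φ : ℂ) ^ 2) (fun φ h => by simp [h])
    apply Int.cast_injective (α := ℂ)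
    push_cast
    rw [← h]
    have e := congrArg (fun z : ℤ => (z : ℂ)) hn2'
    simpa using e
  have hpar : Even (∑ φ ∈ C₂, (m φ ^ 2 - m φ)) := Finset.even_sum _ fun φ _ => by
    rw [show m φ ^ 2 - m φ = m φ * (m φ - 1) by ring]; exact Int.even_mul_pred_self _
  rw [Finset.sum_sub_distrib] at hpar
  have key : m χa = 1 ∧ m χb = 1 := by
    obtain ⟨r, hr⟩ := hpar
    have hnn : ∀ z : ℤ, 0 ≤ z ^ 2 := fun z => sq_nonneg z
    have hS0 : 0 ≤ ∑ φ ∈ C₂, m φ ^ 2 := Finset.sum_nonneg fun φ _ => hnn _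
    have hSz : ∑ φ ∈ C₂, m φ ^ 2 = 0 → ∑ φ ∈ C₂, m φ = 0 := fun h => Finset.sum_eq_zero fun φ hφ =>
      pow_eq_zero_iff two_ne_zero |>.1 ((Finset.sum_eq_zero_iff_of_nonneg fun φ _ => hnn (m φ)).1 h φ hφ)
    have bnd : ∀ z : ℤ, z ^ 2 ≤ 2 → z = -1 ∨ z = 0 ∨ z = 1 := fun z hz => by
      have h1 : -2 < z := by nlinarith
      have h2 : z < 2 := by nlinarith
      omega
    have hma := bnd (m χa) (by nlinarith [hnn (m φa), hnn (m φb), hnn (m χb)])
    have hmb := bnd (m χb) (by nlinarith [hnn (m φa), hnn (m φb), hnn (m χa)])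
    have hpa := bnd (m φa) (by nlinarith [hnn (m χa), hnn (m φb), hnn (m χb)])
    obtain hpb : m φb = -m φa := by omega
    rw [hpb] at hsq2
    rcases hma with ea | ea | ea <;> rcases hmb with eb | eb | eb <;> rcases hpa with ep | ep | ep <;>
      rw [ea, eb, ep] at hsq2 <;> rw [ea, eb] at hdeg <;> norm_num at hsq2 hdeg <;>
      first
        | exact ⟨ea, eb⟩
        | omega
        | (have := hSz (by omega); omega)
  have hX1 : ∀ φ : IrrCharacter S2, φ ∉ C₁' → m φ = 0 := by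
    intro φ hφ
    have hnn : ∀ z : ℤ, 0 ≤ z ^ 2 := fun z => sq_nonneg z
    by_contra h
    rw [key.1, key.2] at hsq2
    have hS0 : 0 ≤ ∑ φ ∈ C₂, m φ ^ 2 := Finset.sum_nonneg fun φ _ => hnn _
    have hpa : m φa ^ 2 = 0 := by nlinarith [hnn (m φa), hnn (m φb)]
    have hpb : m φb ^ 2 = 0 := by nlinarith [hnn (m φa), hnn (m φb)]
    have hS : ∑ φ ∈ C₂, m φ ^ 2 = 0 := by nlinarith [hnn (m φa), hnn (m φb)]
    rcases hsupp φ h with rfl | rfl | e | e
    · exact h (pow_eq_zero_iff two_ne_zero |>.1 hpa)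
    · exact h (pow_eq_zero_iff two_ne_zero |>.1 hpb)
    · exact h (pow_eq_zero_iff two_ne_zero |>.1 ((Finset.sum_eq_zero_iff_of_nonneg fun φ _ => hnn (m φ)).1 hS φ e))
    · exact hφ e
  have hXg : X g = (χa : S2 → ℂ) g + (χb : S2 → ℂ) g := by
    rw [congrFun hXe g, Finset.sum_apply, ← Finset.sum_subset (Finset.subset_univ C₁') (fun φ _ h => by simp [hX1 φ h]),
      hCeq', Finset.sum_pair hab']
    simp [key.1, key.2]
  rw [hX, cus_torus h2 hcard ψ _ θ ω ⟨g, hgC⟩ hgz] at hXg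
  have hχmem : (⟨χ, hχ⟩ : IrrCharacter S2) ∈ C₁' := (hCm _).2 hd'
  have hqq : qq = 2 * (k' : ℂ) + 1 := by rw [hkq]; push_cast; ring
  have hca : χa ∈ C₁' := by rw [hCeq']; simp
  have hcb : χb ∈ C₁' := by rw [hCeq']; simp
  have hsum := (half_sums h2 hk hkq hν χa.2).2 ((hCm χa).1 hca) (hCc χa hca)
  have hdiff := half_unipotent h2 hk hkq hν χa.2 (by rw [(hCm χa).1 hca, hsum, hqq]; ring)
  have heq : (χb : S2 → ℂ) g = (χa : S2 → ℂ) g := by
    rw [pair_twist c1 hCm hca hcb hab' hdiff g, dia_elliptic ν' h2 (isClassFunction_of_isIrr χa.2) hg]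
  have hval : χ g = (χa : S2 → ℂ) g := by
    rw [hCeq', Finset.mem_insert, Finset.mem_singleton] at hχmem
    rcases hχmem with e | e
    · exact congrFun (congrArg Subtype.val e) g
    · exact (congrFun (congrArg Subtype.val e) g).trans heq
  have hinv : ((θ ⟨g, hgC⟩)⁻¹ : ℂˣ) = θ ⟨g, hgC⟩ := (DFunLike.congr_fun hθinv ⟨g, hgC⟩).symm
  rw [hinv, heq, hθv] at hXg
  have hiff : (⟨g, hgC⟩ : C) ^ (k' + 1) = 1 ↔ g ^ (k' + 1) = 1 := by
    rw [Subtype.ext_iff, SubgroupClass.coe_pow, Subgroup.coe_one]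
  rw [hval]
  by_cases h : g ^ (k' + 1) = 1
  · rw [if_pos h]; rw [if_pos (hiff.2 h)] at hXg; linear_combination -hXg / 2
  · rw [if_neg h]; rw [if_neg (mt hiff.1 h)] at hXg; linear_combination -hXg / 2

end Cfsg.Agent.GL2Rep.SL
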