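import Cfsg.Agent.GL2Rep.McKayAux
import Cfsg.Agent.GL2Rep.SLCount
import Cfsg.Agent.S2430
import Cfsg.Agent.S2431
import Cfsg.Agent.S2437

/-!
# The McKay equality for SL(2, q), q odd
-/

set_option autoImplicit false
set_option linter.unusedSectionVars false
set_option linter.style.haveILetI false

namespace Cfsg.Agent.GL2Rep.SLMcKay

open Cfsg Cfsg.Agent.Char Cfsg.Agent.GL2Rep.SL

variable {F : Type*} [Field F] [Fintype F]

local notation "S2" => Matrix.SpecialLinearGroup (Fin 2) F
local notation:1024 "↥ₘ" A:1024 => ((A : Matrix.SpecialLinearGroup (Fin 2) F) : Matrix (Fin 2) (Fin 2) F)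

/-- The number of irreducible characters of SL(2, q) of degree prime to ℓ. -/
theorem count_G (h2 : (2 : F) ≠ 0) (ℓ : ℕ) :
    ∃ k : ℕ, 1 ≤ k ∧ Fintype.card F = 2 * k + 1 ∧
      Nat.card {χ : IrrCharacter S2 // ¬ ℓ ∣ charDegree (χ : S2 → ℂ)} =
        (if ℓ ∣ 1 then 0 else 1) + (if ℓ ∣ 2 * k + 1 then 0 else 1) + (k - 1) * (if ℓ ∣ 2 * k + 2 then 0 else 1) +
          2 * (if ℓ ∣ k + 1 then 0 else 1) + k * (if ℓ ∣ 2 * k then 0 else 1) + 2 * (if ℓ ∣ k then 0 else 1) := by
  classical
  haveI : Fintype S2 := Fintype.ofFinite _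
  obtain ⟨k, P, H, C₂, C₁, hk1, hk, hall, hP, hH, hC₂, hC₁, nP, nH, nC₂, nC₁⟩ := table_odd (F := F) h2
  refine ⟨k, hk1, hk, ?_⟩
  let one' : IrrCharacter S2 := ⟨fun _ => 1, isIrrCharacter_one⟩
  let St' : IrrCharacter S2 := ⟨St, St_isIrr⟩
  let D : IrrCharacter S2 → ℕ := fun χ => charDegree (χ : S2 → ℂ)
  have hd : ∀ (χ : IrrCharacter S2) (n : ℕ), (χ : S2 → ℂ) 1 = (n : ℂ) → D χ = n := fun χ n h => by
    simp [D, charDegree, h]
  have d1 : D one' = 1 := hd _ _ (by simp [one'])
  have dSt : D St' = 2 * k + 1 := hd _ _ (by rw [← hk]; exact St_one)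
  have dP : ∀ χ ∈ P, D χ = 2 * k + 2 := fun χ h => hd _ _ (hP χ h).1
  have dH : ∀ χ ∈ H, D χ = k + 1 := fun χ h => hd _ _ (hH χ h).1
  have dC₂ : ∀ χ ∈ C₂, D χ = 2 * k := fun χ h => hd _ _ (hC₂ χ h).1
  have dC₁ : ∀ χ ∈ C₁, D χ = k := fun χ h => hd _ _ (hC₁ χ h).1
  have hncusp : ∀ χ ∈ H, ¬ Cusp (χ : S2 → ℂ) := fun χ h hc => by
    obtain ⟨-, α, -, -, e⟩ := hH χ h
    exact e (hc α)
  have hone : ¬ Cusp (one' : S2 → ℂ) := fun hc => by
    have := hc 1
    simp only [one', inner_one_R] at this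
    simp at this
  have huniv : (Finset.univ : Finset (IrrCharacter S2)) =
      ((((({one'} : Finset (IrrCharacter S2)) ∪ {St'}) ∪ P) ∪ H) ∪ C₂) ∪ C₁ := by
    ext χ
    simp only [Finset.mem_univ, Finset.mem_union, Finset.mem_singleton, true_iff]
    rcases hall χ with h | h | h | h | h | h
    · exact Or.inl (Or.inl (Or.inl (Or.inl (Or.inl (Subtype.ext h)))))
    · exact Or.inl (Or.inl (Or.inl (Or.inl (Or.inr (Subtype.ext h)))))
    all_goals tauto
  let f : IrrCharacter S2 → ℕ := fun χ => if ℓ ∣ D χ then 0 else 1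
  have hcard : Nat.card {χ : IrrCharacter S2 // ¬ ℓ ∣ charDegree (χ : S2 → ℂ)} = ∑ χ, f χ := by
    rw [Nat.card_eq_fintype_card, Fintype.card_subtype, Finset.card_filter]
    exact Finset.sum_congr rfl fun χ _ => by simp only [f, D]; split_ifs <;> simp_all
  rw [hcard, huniv, Finset.sum_union, Finset.sum_union, Finset.sum_union, Finset.sum_union, Finset.sum_union,
    Finset.sum_singleton, Finset.sum_singleton,
    Finset.sum_congr (rfl : P = P) (fun χ h => show f χ = if ℓ ∣ 2 * k + 2 then 0 else 1 by simp only [f, dP χ h]),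
    Finset.sum_congr (rfl : H = H) (fun χ h => show f χ = if ℓ ∣ k + 1 then 0 else 1 by simp only [f, dH χ h]),
    Finset.sum_congr (rfl : C₂ = C₂) (fun χ h => show f χ = if ℓ ∣ 2 * k then 0 else 1 by simp only [f, dC₂ χ h]),
    Finset.sum_congr (rfl : C₁ = C₁) (fun χ h => show f χ = if ℓ ∣ k then 0 else 1 by simp only [f, dC₁ χ h]),
    Finset.sum_const, Finset.sum_const, Finset.sum_const, Finset.sum_const, nH, nC₂, nC₁,
    show P.card = k - 1 by omega]
  · simp only [f, d1, dSt, smul_eq_mul]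
  all_goals
    rw [Finset.disjoint_left]
    intro χ h h'
    simp only [Finset.mem_union, Finset.mem_singleton] at h h'
  -- the six parts are disjoint
  · rw [h] at h'; have := congrArg D h'; omega
  · rcases h with rfl | rfl <;> have := dP _ h' <;> omega
  · rcases h with (rfl | rfl) | h
    · have := dH _ h'; omega
    · have := dH _ h'; omega
    · have := dH _ h'; have := dP _ h; omega
  · rcases h with ((rfl | rfl) | h) | h
    · have := dC₂ _ h'; omega
    · have := dC₂ _ h'; omega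
    · have := dC₂ _ h'; have := dP _ h; omega
    · exact hncusp _ h (hC₂ _ h').2
  · rcases h with (((rfl | rfl) | h) | h) | h
    · exact hone (hC₁ _ h').2
    · have := dC₁ _ h'; omega
    · have := dC₁ _ h'; have := dP _ h; omega
    · have := dC₁ _ h'; have := dH _ h; omega
    · have := dC₁ _ h'; have := dC₂ _ h; omega

/-- Normalisers of Sylow subgroups are isomorphic. -/
theorem normalizer_equiv {G : Type*} [Group G] [Finite G] {p : ℕ} [Fact p.Prime] (P Q : Sylow p G) :
    Nonempty (Subgroup.normalizer ((P : Subgroup G) : Set G) ≃* Subgroup.normalizer ((Q : Subgroup G) : Set G)) := by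
  obtain ⟨a, ha⟩ := MulAction.exists_smul_eq G P Q
  have hQ : (Q : Subgroup G) = (P : Subgroup G).map (MulAut.conj a).toMonoidHom := by rw [← ha]; rfl
  have hN : Subgroup.normalizer ((Q : Subgroup G) : Set G) =
      (Subgroup.normalizer ((P : Subgroup G) : Set G)).map (MulAut.conj a).toMonoidHom := by
    rw [hQ]; exact (Subgroup.map_equiv_normalizer_eq _ (MulAut.conj a)).symm
  exact ⟨((Subgroup.normalizer ((P : Subgroup G) : Set G)).equivMapOfInjective (MulAut.conj a).toMonoidHom
    (MulAut.conj a).injective).trans (MulEquiv.subgroupCongr hN.symm)⟩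

/-- The root group. -/
def root : Multiplicative F →* S2 where
  toFun e := bEl 1 (Multiplicative.toAdd e)
  map_one' := Subtype.ext (by simp [coe_bEl, Matrix.one_fin_two])
  map_mul' a b := Subtype.ext (by
    simp [coe_bEl, Matrix.mul_fin_two, toAdd_mul, add_comm])

theorem root_apply (e : Multiplicative F) : root e = bEl 1 (Multiplicative.toAdd e) := rfl

theorem mem_root {g : S2} : g ∈ (root (F := F)).range ↔ (↥ₘ g) 1 0 = 0 ∧ (↥ₘ g) 0 0 = 1 := by
  constructor
  · rintro ⟨e, rfl⟩; simp [root_apply, coe_bEl]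
  · rintro ⟨h10, h00⟩
    obtain ⟨a, ha, hg⟩ := eq_bEl h10
    refine ⟨Multiplicative.ofAdd ((↥ₘ g) 0 1), ?_⟩
    rw [h00] at ha
    rw [hg, show a = 1 from Units.ext ha]
    rfl

theorem normalizer_root : Subgroup.normalizer ((root (F := F)).range : Set S2) = Borel F := by
  have key : ∀ g : S2, (↥ₘ g) 1 0 = 0 → ∀ u ∈ (root (F := F)).range, g * u * g⁻¹ ∈ (root (F := F)).range := by
    intro g hg u hu
    obtain ⟨hu0, hu1⟩ := mem_root.1 hu
    have hdg := det_eq g
    have hdu := det_eq u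
    rw [hg, mul_zero, sub_zero] at hdg
    rw [hu0, hu1, mul_zero, sub_zero, one_mul] at hdu
    rw [mem_root]
    constructor <;>
      simp [Matrix.SpecialLinearGroup.coe_mul, Matrix.SpecialLinearGroup.coe_inv, Matrix.adjugate_fin_two,
        Matrix.mul_apply, Fin.sum_univ_two, hg, hu0, hu1, hdu, hdg]
  refine le_antisymm (fun g hg => ?_) (fun g hg => ?_)
  · rw [mem_B]
    have h := (Subgroup.mem_normalizer_iff.1 hg (bEl 1 1)).1 ⟨Multiplicative.ofAdd 1, rfl⟩
    have h' := (mem_root.1 h).1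
    simp [Matrix.SpecialLinearGroup.coe_mul, Matrix.SpecialLinearGroup.coe_inv, Matrix.adjugate_fin_two,
      Matrix.mul_apply, Fin.sum_univ_two, coe_bEl] at h'
    have e : (↥ₘ g) 1 0 * (↥ₘ g) 1 0 = 0 := by linear_combination -h'
    exact mul_self_eq_zero.1 e
  · rw [Subgroup.mem_normalizer_iff]
    intro u
    refine ⟨key g (mem_B.1 hg) u, fun hu => ?_⟩
    have := key g⁻¹ (mem_B.1 (inv_mem hg)) _ hu
    simpa [mul_assoc] using this

/-- The count for the Borel subgroup, the normaliser of a Sylow p-subgroup. -/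
theorem count_p (h2 : (2 : F) ≠ 0) (hodd : Odd (Fintype.card F)) {p : ℕ} [Fact p.Prime] [CharP F p]
    (S : Sylow p S2) :
    Nat.card {ψ : IrrCharacter (Subgroup.normalizer ((S : Subgroup S2) : Set S2)) //
      ¬ p ∣ charDegree (ψ : Subgroup.normalizer ((S : Subgroup S2) : Set S2) → ℂ)} = Fintype.card F + 3 := by
  classical
  have hp : p.Prime := Fact.out
  obtain ⟨f, hf, hf1⟩ : ∃ f, Fintype.card F = p ^ f ∧ 1 ≤ f := by
    obtain ⟨n, -, hn⟩ := FiniteField.card F p
    exact ⟨n, hn, n.pos⟩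
  have hcU : Nat.card (root (F := F)).range = Fintype.card F := by
    rw [← Nat.card_congr (MonoidHom.ofInjective (f := root (F := F)) ?_).toEquiv, Nat.card_eq_fintype_card,
      Fintype.card_multiplicative]
    intro a b h
    have := congrArg (fun g : S2 => (↥ₘ g) 0 1) h
    simpa [root_apply, coe_bEl] using this
  have hnd : ¬ p ∣ Fintype.card F ^ 2 - 1 := by
    rw [hf]; exact Classical.not_dvd_pow_sub_one hp hf1 (by norm_num)
  have hfac : (Nat.card S2).factorization p = f := by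
    have h0 : Fintype.card F ^ 2 - 1 ≠ 0 := fun h => hnd (h ▸ dvd_zero p)
    rw [SL2Class.card_sl, Nat.factorization_mul Fintype.card_ne_zero h0, Finsupp.add_apply,
      Nat.factorization_eq_zero_of_not_dvd hnd, hf, hp.factorization_pow, Finsupp.single_eq_same, add_zero]
  let T : Sylow p S2 := Sylow.ofCard (root (F := F)).range (by rw [hcU, hf, hfac])
  obtain ⟨e⟩ := normalizer_equiv T S
  have hT : Subgroup.normalizer ((T : Subgroup S2) : Set S2) = Borel F := by
    rw [← normalizer_root (F := F)]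
    rfl
  rw [McKayAux.card_congr ((MulEquiv.subgroupCongr hT).symm.trans e) (fun d => ¬ p ∣ d)]
  have hle : (root (F := F)).range ≤ Borel F := fun g hg => mem_B.2 (mem_root.1 hg).1
  haveI : ((root (F := F)).range.subgroupOf (Borel F)).Normal :=
    Subgroup.normal_subgroupOf_of_le_normalizer (le_of_eq (normalizer_root (F := F)).symm)
  have hidx : ((root (F := F)).range.subgroupOf (Borel F)).index * Fintype.card F =
      (Fintype.card F - 1) * Fintype.card F := by
    conv_lhs => arg 2; rw [← hcU, ← Nat.card_congr (Subgroup.subgroupOfEquivOfLe hle).toEquiv]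
    rw [Subgroup.index_mul_card, ← Nat.card_eq_of_bijective _ (bEl_bijective (F := F)), Nat.card_prod,
      Nat.card_units, Nat.card_eq_fintype_card]
  have hidx' := Nat.eq_of_mul_eq_mul_right Fintype.card_pos hidx
  rw [McKayAux.card_all (fun d => ¬ p ∣ d) (fun χ => not_dvd_degree_of_abelian ((root (F := F)).range.subgroupOf (Borel F)) ?_ ?_ χ)]
  · exact Cfsg.Agent.S2437.result hodd
  · rw [hidx']
    intro h
    have hq : p ∣ Fintype.card F := hf ▸ dvd_pow_self p (by omega)
    exact hp.not_dvd_one ((Nat.dvd_add_right h).1 (by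
      rwa [Nat.sub_add_cancel (Fintype.one_lt_card (α := F)).le]))
  · intro a ha b hb
    obtain ⟨x, hx⟩ := Subgroup.mem_subgroupOf.1 ha
    obtain ⟨y, hy⟩ := Subgroup.mem_subgroupOf.1 hb
    exact Subtype.ext (by rw [Subgroup.coe_mul, Subgroup.coe_mul, ← hx, ← hy, ← map_mul, ← map_mul, mul_comm])

/-- The count for the normaliser of a torus. -/
theorem count_torus (h2 : (2 : F) ≠ 0) {ℓ : ℕ} [Fact ℓ.Prime] (hℓ : ℓ ≠ 2) (S : Sylow ℓ S2) {c : ℕ}
    (hc : c = Fintype.card F - 1 ∨ c = Fintype.card F + 1) (hℓc : ℓ ∣ c) (hq : ¬ ℓ ∣ Fintype.card F)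
    (hC : Nat.card (Subgroup.centralizer ((S : Subgroup S2) : Set S2)) = c ∧
      IsCyclic (Subgroup.centralizer ((S : Subgroup S2) : Set S2)) ∧
      Nat.card (Subgroup.normalizer ((S : Subgroup S2) : Set S2)) = 2 * c) :
    Nat.card {ψ : IrrCharacter (Subgroup.normalizer ((S : Subgroup S2) : Set S2)) //
      ¬ ℓ ∣ charDegree (ψ : Subgroup.normalizer ((S : Subgroup S2) : Set S2) → ℂ)} = c / 2 + 3 := by
  classical
  obtain ⟨hc1, hcyc, hN⟩ := hC
  have hℓp := (Fact.out : ℓ.Prime)
  have hq1 := Fintype.one_lt_card (α := F)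
  have hqodd : Fintype.card F % 2 = 1 := SL2Class.card_odd_of_two_ne_zero h2
  have hc0 : 0 < c := hc1 ▸ Nat.card_pos
  have hc3 : 3 ≤ c := by
    have h1 := Nat.le_of_dvd hc0 hℓc
    have h2' := hℓp.two_le
    omega
  set C := Subgroup.centralizer ((S : Subgroup S2) : Set S2) with hCdef
  obtain ⟨⟨g, hgC⟩, hgen⟩ := hcyc.exists_generator
  have hog : orderOf g = c := by
    rw [← hc1, ← orderOf_eq_card_of_forall_mem_zpowers hgen, Subgroup.orderOf_mk]
  have hle : C ≤ Subgroup.centralizer ({g} : Set S2) := fun y hy => by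
    obtain ⟨n, hn⟩ := hgen ⟨y, hy⟩
    have : g ^ n = y := congrArg Subtype.val hn
    rw [← this]
    exact Subgroup.mem_centralizer_singleton_iff.2 (Commute.zpow_self g n).eq
  have hgns : SL2Class.NonScalar g := fun hs => by
    have : g ^ 2 = 1 := by
      rcases SL2Class.scalar_eq (fun h' => h' hs) with e | e
      · rw [e, one_pow]
      · rw [e, pow_two, SL2Class.neg_mul_self_eq]
    have := Nat.le_of_dvd two_pos (orderOf_dvd_of_pow_eq_one this)
    omega
  have hdvd : c ∣ Nat.card (Subgroup.centralizer ({g} : Set S2)) := hc1 ▸ Subgroup.card_dvd_of_le hle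
  have ht : SL2Class.tr g * SL2Class.tr g ≠ 4 := fun ht => by
    rw [SL2Class.card_cent_double h2 hgns ht] at hdvd
    rcases hℓp.dvd_mul.1 (hℓc.trans hdvd) with h | h
    · exact hℓ ((Nat.prime_dvd_prime_iff_eq hℓp Nat.prime_two).1 h)
    · exact hq h
  have hCg : Nat.card (Subgroup.centralizer ({g} : Set S2)) = c := by
    have hbad : ∀ a b : ℕ, ℓ ∣ a → ℓ ∣ b → b = a + 2 → False := fun a b ha hb e =>
      hℓ ((Nat.prime_dvd_prime_iff_eq hℓp Nat.prime_two).1 ((Nat.dvd_add_right ha).1 (e ▸ hb)))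
    rcases SL2Class.card_cent_semisimple ht with e | e <;> rcases hc with h | h <;> rw [e] at hdvd ⊢
    · omega
    · exact (hbad _ _ (hℓc.trans hdvd) hℓc (by omega)).elim
    · exact (hbad _ _ hℓc (hℓc.trans hdvd) (by omega)).elim
    · omega
  have hCeq : C = Subgroup.centralizer ({g} : Set S2) :=
    Subgroup.eq_of_le_of_card_ge hle (by rw [hCg, hc1])
  have hNC : Subgroup.normalizer ((S : Subgroup S2) : Set S2) = Subgroup.normalizer (C : Set S2) := by
    have key : ∀ h ∈ Subgroup.normalizer ((S : Subgroup S2) : Set S2), ∀ y ∈ C, h * y * h⁻¹ ∈ C := by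
      intro h hh y hy z hz
      have h1 := hy (h⁻¹ * z * h) (by have h2 := (Subgroup.mem_normalizer_iff.1 (Subgroup.inv_mem _ hh) z).1 hz; rwa [inv_inv] at h2)
      calc z * (h * y * h⁻¹) = h * (h⁻¹ * z * h * y) * h⁻¹ := by group
        _ = h * (y * (h⁻¹ * z * h)) * h⁻¹ := by rw [h1]
        _ = h * y * h⁻¹ * z := by group
    refine Subgroup.eq_of_le_of_card_ge (fun h hh => Subgroup.mem_normalizer_iff.2 fun y => ⟨key h hh y, fun hy => ?_⟩) ?_
    · simpa [mul_assoc] using key h⁻¹ (Subgroup.inv_mem _ hh) _ hy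
    rw [hN, hCeq, SL2Class.card_normalizer ht, hCg]
  rw [McKayAux.card_congr (MulEquiv.subgroupCongr hNC).symm (fun d => ¬ ℓ ∣ d)]
  haveI : (C.subgroupOf (Subgroup.normalizer (C : Set S2))).Normal :=
    Subgroup.normal_subgroupOf_of_le_normalizer le_rfl
  have hidx : (C.subgroupOf (Subgroup.normalizer (C : Set S2))).index = 2 := by
    refine Nat.eq_of_mul_eq_mul_right hc0 ?_
    conv_lhs => arg 2; rw [← hc1, ← Nat.card_congr (Subgroup.subgroupOfEquivOfLe (Subgroup.le_normalizer (H := C))).toEquiv]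
    rw [Subgroup.index_mul_card, ← hNC, hN]
  rw [McKayAux.card_all (fun d => ¬ ℓ ∣ d) (fun χ => not_dvd_degree_of_abelian (C.subgroupOf (Subgroup.normalizer (C : Set S2))) ?_ ?_ χ), hCeq,
    SL2Class.card_classes_normalizer h2 ht (m := c / 2) (by rw [hCg]; omega)]
  · rw [hidx]; exact fun h => hℓ ((Nat.prime_dvd_prime_iff_eq hℓp Nat.prime_two).1 h)
  · intro a ha b hb
    exact Subtype.ext (SL2Class.centralizer_comm hgns (hle ha) (hle hb))

/-- The count for the normaliser of a Sylow 2-subgroup. -/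
theorem count_two (h2 : (2 : F) ≠ 0) (hodd : Odd (Fintype.card F)) [Fact (Nat.Prime 2)] (S : Sylow 2 S2) :
    Nat.card {ψ : IrrCharacter (Subgroup.normalizer ((S : Subgroup S2) : Set S2)) //
      ¬ 2 ∣ charDegree (ψ : Subgroup.normalizer ((S : Subgroup S2) : Set S2) → ℂ)} = 4 := by
  classical
  obtain ⟨g, ht, c, r, hc, hG, h4c, hr4, h8, h84⟩ := S2431.exists_torus (F := F) h2
  have hg := SL2Class.nonScalar_of_sq_ne ht
  obtain ⟨w, hw⟩ := SL2Class.exists_inverting ht
  have hwn : w ∉ Subgroup.centralizer ({g} : Set S2) := SL2Class.inverting_notMem ht hw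
  have hww : w * w = -1 := SL2Class.sq_of_not_mem h2 ht (SL2Class.mem_normalizer_of_inverting hg hw) hwn
  set C := Subgroup.centralizer ({g} : Set S2) with hC
  set D := S2431.C2 g hg with hD
  set S₀ := S2431.S0 g hg w hw hww with hS₀
  haveI : IsMulCommutative C := ⟨⟨fun a b => Subtype.ext (SL2Class.centralizer_comm hg a.2 b.2)⟩⟩
  have hDC : D ≤ C := fun x hx => hx.1
  let R : Sylow 2 C := default
  have hDR : D.subgroupOf C = (R : Subgroup C) := by
    refine R.is_maximal' ?_ ?_
    · rintro ⟨x, hx⟩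
      obtain ⟨k, hk⟩ := hx.2
      exact ⟨k, Subtype.ext (Subtype.ext (by simpa using hk))⟩
    · intro x hx
      obtain ⟨k, hk⟩ := R.isPGroup' ⟨x, hx⟩
      exact ⟨x.2, k, by simpa using congrArg (fun y : (R : Subgroup C) => ((y : C) : S2)) hk⟩
  have hc0 : c ≠ 0 := hc ▸ (Nat.card_pos (α := C)).ne'
  have hr0 : r ≠ 0 := by omega
  have hcardD : Nat.card D = 2 ^ c.factorization 2 := by
    rw [← Nat.card_congr (Subgroup.subgroupOfEquivOfLe hDC).toEquiv, hDR, Sylow.card_eq_multiplicity, hc]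
  have hn2 : 2 ≤ c.factorization 2 := (Nat.prime_two.pow_dvd_iff_le_factorization hc0).1 h4c
  have hsq : ∀ x : S2, x * x = 1 → x = 1 ∨ x = -1 := fun x hx => SL2Class.sq_eq_one_cases h2 hx
  have hzD : (-1 : S2) ∈ D := S2431.neg_one_mem_C2 hg
  have hdic : ∀ x : S₀, x ∈ D.subgroupOf S₀ ∨ (⟨w, S2431.w_mem⟩ : S₀) * x ∈ D.subgroupOf S₀ := fun x => x.2
  have hcount := SL2Class.card_conjClasses_dicyclic (D.subgroupOf S₀) (w := ⟨w, S2431.w_mem⟩)
    (z := ⟨-1, Or.inl hzD⟩) (m := 2 ^ (c.factorization 2 - 1))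
    (fun a ha b hb => Subtype.ext (SL2Class.centralizer_comm hg (hDC ha) (hDC hb))) (fun h => hwn (hDC h)) hdic
    (fun a ha => Subtype.ext (SL2Class.conj_centralizer hg hw (hDC ha))) (Subtype.ext hww) hzD
    (fun e => SL2Class.neg_one_ne_one h2 (congrArg Subtype.val e))
    (fun a _ e => (hsq a (congrArg Subtype.val e)).imp (fun h => Subtype.ext h) (fun h => Subtype.ext h))
    (Subtype.ext SL2Class.neg_mul_self_eq)
    (by rw [Nat.card_congr (Subgroup.subgroupOfEquivOfLe (show D ≤ S₀ from fun x hx => Or.inl hx)).toEquiv, hcardD,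
      ← pow_succ', Nat.sub_add_cancel (by omega)])
  have hr1 : r.factorization 2 = 1 := by
    obtain ⟨j, hj⟩ : ∃ j, r = 2 * (2 * j + 1) := ⟨r / 4, by omega⟩
    rw [hj, Nat.factorization_mul two_ne_zero (by omega), Finsupp.add_apply, Nat.prime_two.factorization_self,
      Nat.factorization_eq_zero_of_not_dvd (show ¬ 2 ∣ 2 * j + 1 by omega)]
  have hcardS : Nat.card S₀ = 2 ^ (Nat.card S2).factorization 2 := by
    rw [hcount.2, hG, Nat.factorization_mul hc0 hr0, Finsupp.add_apply, hr1,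
      show (4 : ℕ) = 2 ^ 2 by norm_num, ← pow_add]
    congr 1
    omega
  let T : Sylow 2 S2 := Sylow.ofCard S₀ hcardS
  obtain ⟨e⟩ := normalizer_equiv T S
  rw [McKayAux.card_congr e (fun d => ¬ 2 ∣ d)]
  obtain ⟨hcen, h18, h38⟩ := S2431.result hodd T
  have hq8 : (Fintype.card F % 8 = 1 ∨ Fintype.card F % 8 = 7) ∨
      (Fintype.card F % 8 = 3 ∨ Fintype.card F % 8 = 5) := by
    have := Nat.odd_iff.1 hodd; omega
  rcases hq8 with h | h
  · rw [McKayAux.card_congr (MulEquiv.subgroupCongr (show S₀ = Subgroup.normalizer ((T : Subgroup S2) : Set S2)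
      from (h18 h).symm)) (fun d => ¬ 2 ∣ d)]
    exact McKayAux.dicyclic (D.subgroupOf S₀) (w := ⟨w, S2431.w_mem⟩)
      (z := ⟨-1, Or.inl hzD⟩) (m := 2 ^ (c.factorization 2 - 1))
      (fun a ha b hb => Subtype.ext (SL2Class.centralizer_comm hg (hDC ha) (hDC hb))) (fun h => hwn (hDC h)) hdic
      (fun a ha => Subtype.ext (SL2Class.conj_centralizer hg hw (hDC ha))) (Subtype.ext hww) hzD
      (fun e => SL2Class.neg_one_ne_one h2 (congrArg Subtype.val e))
      (fun a _ e => (hsq a (congrArg Subtype.val e)).imp (fun h => Subtype.ext h) (fun h => Subtype.ext h))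
      (Subtype.ext SL2Class.neg_mul_self_eq)
      (by rw [Nat.card_congr (Subgroup.subgroupOfEquivOfLe (show D ≤ S₀ from fun x hx => Or.inl hx)).toEquiv,
        hcardD, ← pow_succ', Nat.sub_add_cancel (by omega)])
  · have hc84 := h84 h
    have hn : c.factorization 2 = 2 := by
      obtain ⟨j, hj⟩ : ∃ j, c = 2 ^ 2 * (2 * j + 1) := ⟨c / 8, by omega⟩
      rw [hj, Nat.factorization_mul (by norm_num) (by omega), Finsupp.add_apply,
        Nat.Prime.factorization_pow Nat.prime_two, Finsupp.single_eq_same,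
        Nat.factorization_eq_zero_of_not_dvd (show ¬ 2 ∣ 2 * j + 1 by omega)]
    have hT8 : Nat.card (T : Subgroup S2) = 8 := by
      show Nat.card S₀ = 8
      rw [hcount.2, hn]; norm_num
    set N := Subgroup.normalizer ((T : Subgroup S2) : Set S2)
    have hN : Nat.card N = 24 := by rw [h38 h, hT8]
    haveI : ((T : Subgroup S2).subgroupOf N).Normal := Subgroup.normal_subgroupOf_of_le_normalizer le_rfl
    haveI : IsCyclic C := SL2Class.isCyclic_centralizer ht
    haveI : IsCyclic D := isCyclic_of_injective (Subgroup.inclusion hDC) (Subgroup.inclusion_injective _)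
    obtain ⟨⟨y, hy⟩, hgen⟩ := IsCyclic.exists_generator (α := D)
    have hyo : orderOf y = 4 := by
      have h4 : Nat.card D = 4 := by rw [hcardD, hn]; norm_num
      rw [← h4, ← orderOf_eq_card_of_forall_mem_zpowers hgen, Subgroup.orderOf_mk]
    have hyy : y * y = -1 := by
      have h4 : (y * y) * (y * y) = 1 := by
        rw [← pow_two, ← pow_two, ← pow_mul]
        rw [show 2 * 2 = 4 by norm_num, ← hyo, pow_orderOf_eq_one]
      refine (hsq _ h4).resolve_left fun e1 => ?_
      have := Nat.le_of_dvd two_pos (orderOf_dvd_of_pow_eq_one (show y ^ 2 = 1 by rw [sq, e1]))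
      omega
    have hTN : (T : Subgroup S2) ≤ N := Subgroup.le_normalizer
    have hwT : w ∈ (T : Subgroup S2) := (S2431.w_mem : w ∈ S₀)
    have hyT : y ∈ (T : Subgroup S2) := Or.inl hy
    have hzT : (-1 : S2) ∈ (T : Subgroup S2) := Or.inl hzD
    refine McKayAux.order24 hN ((T : Subgroup S2).subgroupOf N) ?_ ?_ (z := ⟨-1, hTN hzT⟩) ?_ ?_ ?_ hzT ?_
    · refine Nat.eq_of_mul_eq_mul_right (show 0 < 8 by norm_num) ?_
      conv_lhs => arg 2; rw [← hT8, ← Nat.card_congr (Subgroup.subgroupOfEquivOfLe hTN).toEquiv]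
      rw [Subgroup.index_mul_card, hN]
    · intro x hx
      have hxc : (x : S2) ∈ Subgroup.centralizer ((T : Subgroup S2) : Set S2) := fun s hs =>
        (congrArg Subtype.val (hx ⟨s, hTN hs⟩ hs)).symm
      rw [hcen, SL2Class.mem_center_cases] at hxc
      refine Subtype.ext ?_
      rcases hxc with e | e <;> simp only [Subgroup.coe_mul, e, one_mul, Subgroup.coe_one, SL2Class.neg_mul_self_eq]
    · exact Subgroup.mem_center_iff.2 fun x => Subtype.ext
        (show (x : S2) * -1 = -1 * (x : S2) from Subgroup.mem_center_iff.1 SL2Class.neg_one_mem_center (x : S2))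
    · exact fun e => SL2Class.neg_one_ne_one h2 (congrArg Subtype.val e)
    · exact Subtype.ext SL2Class.neg_mul_self_eq
    · have hcm := Subgroup.commutator_mem_commutator (Subgroup.mem_top (⟨w, hTN hwT⟩ : N))
        (Subgroup.mem_top (⟨y, hTN hyT⟩ : N))
      rw [commutator_def]
      convert hcm using 1
      refine Subtype.ext ?_
      show (-1 : S2) = w * y * w⁻¹ * y⁻¹
      rw [SL2Class.conj_centralizer hg hw (hDC hy), ← _root_.mul_inv_rev, hyy,
        inv_eq_of_mul_eq_one_right SL2Class.neg_mul_self_eq]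

end Cfsg.Agent.GL2Rep.SLMcKay
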