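import Cfsg.Agent.Char.Gen
import Cfsg.Agent.Char.Induced

/-!
An irreducible character whose restriction to a normal subgroup has norm two splits into two conjugate constituents.
-/

set_option autoImplicit false

namespace Cfsg.Agent.GL2Rep

open Cfsg Cfsg.Agent.Char
open scoped ComplexConjugate

universe u v

theorem exists_two_irr {G : Type u} [Group G] [Fintype G] {χ : G → ℂ} (hχ : IsCharacter G χ)
    (h2 : classInner χ χ = 2) :
    ∃ φ₁ φ₂ : G → ℂ, IsIrrCharacter G φ₁ ∧ IsIrrCharacter G φ₂ ∧ φ₁ ≠ φ₂ ∧ χ = φ₁ + φ₂ ∧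
      classInner χ φ₁ = 1 := by
  have hne : χ ≠ 0 := fun e => by rw [e, classInner_zero_left] at h2; norm_num at h2
  obtain ⟨ψ, hψ⟩ := IsChar.exists_constituent hχ hne
  have hρ : IsCharacter G (χ - (ψ : G → ℂ)) := IsChar.sub_constituent hχ ψ.2 hψ
  obtain ⟨k, hk⟩ := classInner_isCharacter_eq_natCast hχ (IsIrr.isCharacter ψ.2)
  obtain ⟨j, hj⟩ := classInner_isCharacter_eq_natCast hρ hρ
  have hk' : classInner (ψ : G → ℂ) χ = (k : ℂ) := by rw [← classInner_conj_symm, hk, Complex.conj_natCast]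
  have e : classInner (χ - (ψ : G → ℂ)) (χ - (ψ : G → ℂ)) = 3 - 2 * (k : ℂ) := by
    simp only [classInner_sub_left, classInner_sub_right, h2, hk, hk', classInner_irr_self ψ.2]
    ring
  rw [hj] at e
  have e' : j + 2 * k = 3 := by
    have h : ((j + 2 * k : ℕ) : ℂ) = ((3 : ℕ) : ℂ) := by push_cast; linear_combination e
    exact_mod_cast h
  have hk0 : k ≠ 0 := fun h => hψ (by rw [hk, h, Nat.cast_zero])
  obtain rfl : k = 1 := by omega
  obtain rfl : j = 1 := by omega
  rw [Nat.cast_one] at hk hk' hj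
  refine ⟨ψ, _, ψ.2, (isIrr_iff_norm_one hρ).2 hj, fun heq => ?_, (add_sub_cancel _ _).symm, hk⟩
  have := classInner_sub_left χ (ψ : G → ℂ) (ψ : G → ℂ)
  rw [← heq, classInner_irr_self ψ.2, hk] at this
  norm_num at this

theorem not_both_invariant {G : Type u} [Group G] [Fintype G] (N : Subgroup G) [N.Normal] [Fintype N]
    {χ : G → ℂ} (hχ : IsIrrCharacter G χ) {φ₁ φ₂ : N → ℂ} (h₁ : IsIrrCharacter N φ₁)
    (h₂ : IsIrrCharacter N φ₂) (hne : φ₁ ≠ φ₂) (hres : (fun n : N => χ n) = φ₁ + φ₂)
    (hinv : ∀ (x : G) (n n' : N), (n' : G) = x⁻¹ * n * x → φ₂ n' = φ₂ n) : False := by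
  have hc := isClassFunction_of_isIrr hχ
  have hψ₁ := isCharacter_indFun N (IsIrr.isCharacter h₁)
  have hψ₂ := isCharacter_indFun N (IsIrr.isCharacter h₂)
  have e1 : classInner (indFun N φ₁) χ = 1 := by
    rw [classInner_indFun_left N φ₁ hc, hres, classInner_add_right, classInner_irr_self h₁,
      classInner_irr_ne h₁ h₂ hne, add_zero]
  have e2 : classInner (indFun N φ₂) χ = 1 := by
    rw [classInner_indFun_left N φ₂ hc, hres, classInner_add_right, classInner_irr_self h₂,
      classInner_irr_ne h₂ h₁ hne.symm, zero_add]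
  have r1 := IsChar.sub_constituent hψ₁ hχ (by rw [e1]; exact one_ne_zero)
  obtain ⟨a, ha⟩ := classInner_isCharacter_eq_natCast r1 hψ₂
  have e3 : classInner (indFun N φ₁) (indFun N φ₂) = 0 := by
    rw [classInner_indFun_left N φ₁ (isClassFunction_indFun N φ₂)]
    have : (fun n : N => indFun N φ₂ n) = ((Nat.card N : ℂ)⁻¹ * (Fintype.card G : ℂ)) • φ₂ := by
      funext n
      rw [indFun_apply_coe_of_normal, Finset.sum_congr rfl fun x _ => hinv x n _ rfl]
      simp [mul_assoc]
    rw [this, classInner_smul_right, classInner_irr_ne h₁ h₂ hne, mul_zero]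
  rw [classInner_sub_left, e3, ← classInner_conj_symm, e2, map_one] at ha
  have : ((a + 1 : ℕ) : ℂ) = 0 := by push_cast; linear_combination -ha
  exact Nat.succ_ne_zero a (by exact_mod_cast this)

/-- A character of norm two on a normal subgroup that is the restriction of an irreducible one is the sum of two
conjugate irreducible characters. -/
theorem two_conj_constituents {S : Type u} {G : Type v} [Group S] [Group G] [Fintype S] [Fintype G]
    (e : S →* G) (he : Function.Injective e) [e.range.Normal] {χ : G → ℂ} (hχ : IsIrrCharacter G χ)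
    (h2 : classInner (fun s => χ (e s)) (fun s => χ (e s)) = 2) :
    ∃ φ₁ φ₂ : S → ℂ, IsIrrCharacter S φ₁ ∧ IsIrrCharacter S φ₂ ∧ φ₁ ≠ φ₂ ∧ (fun s => χ (e s)) = φ₁ + φ₂ ∧
      ∃ x : G, ∀ g h : S, e h = x * e g * x⁻¹ → φ₂ h = φ₁ g := by
  obtain ⟨φ₁, φ₂, h₁, h₂, hne, hsum, hin⟩ := exists_two_irr (isCharacter_comp e (IsIrr.isCharacter hχ)) h2
  let E : S ≃* e.range := MonoidHom.ofInjective he
  let c : G → S ≃* S := fun x => E.trans (((MulAut.conjNormal x⁻¹ : MulAut e.range) : e.range ≃* e.range).trans E.symm)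
  have hc : ∀ x s, e (c x s) = x⁻¹ * e s * x := fun x s => by
    have h1 : e (c x s) = ((MulAut.conjNormal x⁻¹ (E s) : e.range) : G) := MonoidHom.apply_ofInjective_symm he _
    rw [h1, MulAut.conjNormal_apply, inv_inv]
    rfl
  obtain ⟨x, hx⟩ : ∃ x, φ₁ ∘ c x ≠ φ₁ := by
    by_contra hall
    push Not at hall
    haveI := Fintype.ofFinite e.range
    refine not_both_invariant e.range hχ (φ₁ := φ₁ ∘ E.symm) (φ₂ := φ₂ ∘ E.symm)
      ((isIrrCharacter_comp_equiv E.symm).2 h₁) ((isIrrCharacter_comp_equiv E.symm).2 h₂) ?_ ?_ ?_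
    · intro h
      exact hne (funext fun s => by simpa using congrFun h (E s))
    · funext n
      have := congrFun hsum (E.symm n)
      rw [show e (E.symm n) = (n : G) from MonoidHom.apply_ofInjective_symm he n] at this
      exact this
    · intro x n n' hn
      have h1 : E.symm n' = c x (E.symm n) := he (by
        rw [hc, MonoidHom.apply_ofInjective_symm he n', MonoidHom.apply_ofInjective_symm he n, hn])
      show φ₂ (E.symm n') = φ₂ (E.symm n)
      rw [h1]
      have h3 := congrFun hsum (c x (E.symm n))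
      have h4 := congrFun hsum (E.symm n)
      have h5 : φ₁ (c x (E.symm n)) = φ₁ (E.symm n) := congrFun (hall x) _
      have h6 : χ (e (c x (E.symm n))) = χ (e (E.symm n)) := by
        rw [hc]
        simpa using isClassFunction_of_isIrr hχ (e (E.symm n)) x⁻¹
      simp only [Pi.add_apply] at h3 h4
      linear_combination h6 - h3 + h4 - h5
  have h1' : IsIrrCharacter S (φ₁ ∘ c x) := (isIrrCharacter_comp_equiv (c x)).2 h₁
  have hinner : classInner (fun s => χ (e s)) (φ₁ ∘ c x) = 1 := by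
    rw [← hin]
    simp only [classInner]
    congr 1
    refine Fintype.sum_equiv (c x).toEquiv _ _ fun s => ?_
    show _ = χ (e (c x s)) * conj (φ₁ (c x s))
    rw [hc, show χ (x⁻¹ * e s * x) = χ (e s) by simpa using isClassFunction_of_isIrr hχ (e s) x⁻¹]
    rfl
  have h2' : φ₂ = φ₁ ∘ c x := by
    by_contra h
    rw [hsum, classInner_add_left, classInner_irr_ne h₁ h1' hx.symm, classInner_irr_ne h₂ h1' h] at hinner
    norm_num at hinner
  refine ⟨φ₁, φ₂, h₁, h₂, hne, hsum, x, fun g h hgh => ?_⟩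
  rw [h2', Function.comp_apply]
  congr 1
  refine he ?_
  rw [hc, hgh]
  group

end Cfsg.Agent.GL2Rep
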