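import Cfsg.Agent.GL2Rep.SL
import Cfsg.Agent.GL2Rep.TwoConst
import Cfsg.Agent.GL2Rep.GLCount
import Cfsg.Agent.SL2Class.Torus
import Mathlib.NumberTheory.LegendreSymbol.QuadraticChar.Basic

/-!
The irreducible characters of SL(2, F): trivial, Steinberg, principal series and its halves, cuspidal.
-/

set_option autoImplicit false

namespace Cfsg.Agent.GL2Rep

open Cfsg Cfsg.Agent.Char
open scoped ComplexConjugate

universe u v

/-- Every irreducible character of a subgroup occurs in the restriction of an irreducible character. -/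
theorem exists_over {S : Type u} {G : Type v} [Group S] [Group G] [Fintype S] [Fintype G] (e : S →* G)
    (he : Function.Injective e) {χ : S → ℂ} (hχ : IsIrrCharacter S χ) :
    ∃ Χ : IrrCharacter G, classInner (fun s => (Χ : G → ℂ) (e s)) χ ≠ 0 := by
  classical
  by_contra hall
  push Not at hall
  have h : classInner (fun s => ∑ Χ : IrrCharacter G, (Χ : G → ℂ) 1 * (Χ : G → ℂ) (e s)) χ = 0 := by
    rw [show (fun s => ∑ Χ : IrrCharacter G, (Χ : G → ℂ) 1 * (Χ : G → ℂ) (e s)) =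
      ∑ Χ : IrrCharacter G, (Χ : G → ℂ) 1 • (fun s => (Χ : G → ℂ) (e s)) by funext s; simp, classInner_sum_left]
    exact Finset.sum_eq_zero fun Χ _ => by rw [classInner_smul_left, hall Χ, mul_zero]
  simp only [regular_eq_sum, map_eq_one_iff e he, classInner, ite_mul, zero_mul, Finset.sum_ite_eq',
    Finset.mem_univ, if_true] at h
  obtain ⟨n, hn, h1⟩ := IsIrr.degree hχ
  rw [h1, Complex.conj_natCast] at h
  simp [hn.ne', Nat.card_pos.ne'] at h

namespace SL

open Matrix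

variable {F : Type*} [Field F]

local notation "S2" => Matrix.SpecialLinearGroup (Fin 2) F
local notation "BB" => Borel F
local notation "qq" => (Fintype.card F : ℂ)
local notation "toG" => (Matrix.SpecialLinearGroup.toGL : Matrix.SpecialLinearGroup (Fin 2) F →* GL (Fin 2) F)
local notation:1024 "↥ₘ" A:1024 => ((A : Matrix.SpecialLinearGroup (Fin 2) F) : Matrix (Fin 2) (Fin 2) F)

theorem range_normal : (toG).range.Normal := by
  constructor
  rintro n ⟨s, rfl⟩ g
  refine ⟨⟨((g * toG s * g⁻¹ : GL (Fin 2) F) : Matrix (Fin 2) (Fin 2) F), ?_⟩, Units.ext rfl⟩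
  rw [Units.val_mul, Units.val_mul, Matrix.det_mul, Matrix.det_mul,
    show ((toG s : GL (Fin 2) F) : Matrix (Fin 2) (Fin 2) F).det = 1 from s.2,
    mul_one, ← Matrix.det_mul, ← Units.val_mul, mul_inv_cancel, Units.val_one, Matrix.det_one]

theorem bEl_one : bEl (1 : Fˣ) (0 : F) = 1 := Subtype.ext (by simp [coe_bEl, Matrix.one_fin_two])

theorem eq_bEl {g : S2} (h10 : (↥ₘ g) 1 0 = 0) :
    ∃ a : Fˣ, (a : F) = (↥ₘ g) 0 0 ∧ g = bEl a ((↥ₘ g) 0 1) := by
  have hd := det_eq g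
  rw [h10, mul_zero, sub_zero] at hd
  refine ⟨Units.mk0 _ (left_ne_zero_of_mul_eq_one hd), rfl, Subtype.ext ?_⟩
  ext i j; fin_cases i <;> fin_cases j <;> simp [coe_bEl, h10, inv_eq_of_mul_eq_one_right hd]

theorem toGL_eq (s : S2) : ((toG s : GL (Fin 2) F) : Matrix (Fin 2) (Fin 2) F) = ↥ₘ s := rfl

variable [Fintype F] [DecidableEq F] [Fintype (Matrix.SpecialLinearGroup (Fin 2) F)]

theorem apply_bEl_eq {χ : S2 → ℂ} (hχ : IsClassFunction S2 χ) {a : Fˣ} (ha : (a : F) * a ≠ 1) (e : F) :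
    χ (bEl a e) = χ (bEl a 0) := by
  have hz : ((a⁻¹ : Fˣ) : F) - a ≠ 0 := fun h => ha (by
    rw [sub_eq_zero] at h
    calc (a : F) * a = (a : F) * ((a⁻¹ : Fˣ) : F) := by rw [← h]
      _ = 1 := a.mul_inv)
  rw [← hχ (bEl a 0) (bEl 1 (e / (((a⁻¹ : Fˣ) : F) - a)))]
  congr 1
  rw [eq_mul_inv_iff_mul_eq]
  refine Subtype.ext ?_
  rw [Matrix.SpecialLinearGroup.coe_mul, Matrix.SpecialLinearGroup.coe_mul, coe_bEl, coe_bEl, coe_bEl]
  ext i j; fin_cases i <;> fin_cases j <;> simp [Matrix.mul_apply, Fin.sum_univ_two]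
  simp only [Units.val_inv_eq_inv_val] at hz
  generalize ((a : F))⁻¹ = b at *
  field_simp
  ring

theorem classInner_R_eq_sum (α : MulChar F ℂ) {χ : S2 → ℂ} (hχ : IsClassFunction S2 χ) :
    classInner χ (R α) = (Nat.card BB : ℂ)⁻¹ * ∑ a : Fˣ, (∑ e : F, χ (bEl a e)) * conj (α a) := by
  haveI := Fintype.ofFinite BB
  rw [R, classInner_indFun_right _ _ hχ, classInner,
    ← bEl_bijective.sum_comp (fun b : BB => χ b * conj (th α b)), Fintype.sum_prod_type]
  congr 1
  refine Finset.sum_congr rfl fun p _ => ?_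
  rw [Finset.sum_mul]
  exact Finset.sum_congr rfl fun e _ => by simp [th, coe_bEl]

theorem card_Borel : (Nat.card BB : ℂ) = (Nat.card Fˣ : ℂ) * qq := by
  rw [← Nat.card_congr (Equiv.ofBijective _ bEl_bijective), Nat.card_prod, Nat.cast_mul,
    Nat.card_eq_fintype_card (α := F)]

/-- The sums over the cosets of the unipotent subgroup, by inversion. -/
theorem sum_eq [Fintype (MulChar F ℂ)] {χ : S2 → ℂ} (hχ : IsClassFunction S2 χ) (a : Fˣ) :
    ∑ e : F, χ (bEl a e) = qq * ∑ α : MulChar F ℂ, classInner χ (R α) * α a := by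
  simp only [classInner_R_eq_sum _ hχ, card_Borel, mul_assoc, ← Finset.mul_sum, Finset.sum_mul]
  rw [Finset.sum_comm (s := (Finset.univ : Finset (MulChar F ℂ))) (t := (Finset.univ : Finset Fˣ))]
  have key : ∀ b : Fˣ, ∑ α : MulChar F ℂ, (∑ e : F, χ (bEl b e) * (conj (α b) * α a)) =
      (∑ e : F, χ (bEl b e)) * (if a = b then (Nat.card Fˣ : ℂ) else 0) := by
    intro b
    rw [← GL.sum_chars_conj a b, Finset.mul_sum]
    refine Finset.sum_congr rfl fun α _ => ?_
    rw [Finset.sum_mul]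
    exact Finset.sum_congr rfl fun e _ => by ring
  simp only [key, mul_ite, mul_zero, Finset.sum_ite_eq, Finset.mem_univ, if_true]
  have h0 : qq ≠ 0 := Nat.cast_ne_zero.2 Fintype.card_ne_zero
  have h1 : (Nat.card Fˣ : ℂ) ≠ 0 := Nat.cast_ne_zero.2 Nat.card_pos.ne'
  field_simp

open scoped Classical in
theorem inner_one_R (α : MulChar F ℂ) : classInner (fun _ : S2 => (1 : ℂ)) (R α) = if α = 1 then 1 else 0 := by
  rw [classInner_R_eq_sum α (isClassFunction_of_isIrr (isIrrCharacter_one (G := S2))), card_Borel]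
  simp only [Finset.sum_const, Finset.card_univ, nsmul_eq_mul, mul_one, ← Finset.mul_sum, conj_mulChar, sum_units,
    inv_eq_one]
  have h0 : qq ≠ 0 := Nat.cast_ne_zero.2 Fintype.card_ne_zero
  have h1 : (Nat.card Fˣ : ℂ) ≠ 0 := Nat.cast_ne_zero.2 Nat.card_pos.ne'
  split_ifs
  · field_simp
  · simp

/-- The Steinberg character. -/
noncomputable def St : S2 → ℂ := R 1 - fun _ => 1

theorem St_apply (g : S2) : St g = R 1 g - 1 := rfl

theorem St_one : St (1 : S2) = qq := by rw [St_apply, R_one, add_sub_cancel_right]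

theorem qq_re_gt : (1 : ℝ) < (Fintype.card F : ℝ) := by exact_mod_cast Fintype.one_lt_card

theorem St_isIrr : IsIrrCharacter S2 (St (F := F)) := by
  classical
  refine IsGen.isIrr_of_norm_one (isGeneralized_sub (isGeneralized_of_isCharacter (R_isCharacter 1))
    (isGeneralized_of_isCharacter isCharacter_one)) ?_ ?_
  · rw [St]
    have e : classInner (R (1 : MulChar F ℂ)) (fun _ : S2 => (1 : ℂ)) = 1 := by
      rw [← classInner_conj_symm, inner_one_R, if_pos rfl, map_one]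
    rw [classInner_sub_left, classInner_sub_right, classInner_sub_right, inner_R, inner_one_R, e,
      classInner_irr_self isIrrCharacter_one, if_pos rfl, if_pos inv_one.symm]
    norm_num
  · show 0 < (St (1 : S2)).re
    rw [St_one, Complex.natCast_re]
    exact Nat.cast_pos.2 Fintype.card_pos

theorem R_one_eq : R (1 : MulChar F ℂ) = St + fun _ : S2 => (1 : ℂ) := (sub_add_cancel _ _).symm

variable [Fintype (GL (Fin 2) F)]

theorem res_R (α β : MulChar F ℂ) : (fun s : S2 => GL.R α β (toG s)) = R (α * β⁻¹) := by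
  funext s
  rw [GL.R_apply, R_apply]
  have hd := det_eq s
  have key : ∀ {x y : F}, x * y = 1 → α x * β y = (α * β⁻¹) x := fun {x y} h => by
    rw [MulChar.mul_apply, MulChar.inv_apply' β x, inv_eq_of_mul_eq_one_right h]
  congr 1
  · rw [toGL_eq]
    split_ifs with h
    · rw [h, mul_zero, sub_zero] at hd
      exact key hd
    · rfl
  · refine Finset.sum_congr rfl fun c _ => ?_
    rw [toGL_eq]
    split_ifs with h
    · exact key (by linear_combination hd + (↥ₘ s) 1 0 * h)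
    · rfl

theorem res_linDet (lam : MulChar F ℂ) : (fun s : S2 => GL.linDet lam (toG s)) = fun _ => (1 : ℂ) := by
  funext s
  rw [GL.linDet, toGL_eq, s.2, map_one]

theorem res_St (lam : MulChar F ℂ) : (fun s : S2 => GL.St lam (toG s)) = St := by
  funext s
  rw [GL.St, Pi.sub_apply, congrFun (res_R lam lam) s, congrFun (res_linDet lam) s, mul_inv_cancel, St_apply]

/-- A character is cuspidal if it is orthogonal to all principal series characters. -/
def Cusp (χ : S2 → ℂ) : Prop := ∀ α : MulChar F ℂ, classInner χ (R α) = 0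

theorem cusp_sum_eq_zero {χ : S2 → ℂ} (hχ : IsClassFunction S2 χ) (hc : Cusp χ) (a : Fˣ) :
    ∑ e : F, χ (bEl a e) = 0 := by
  haveI : Fintype (MulChar F ℂ) := Fintype.ofFinite _
  rw [sum_eq hχ]
  simp [hc _]

/-- A cuspidal irreducible character lies under a cuspidal character of GL(2, F). -/
theorem cusp_over {χ : S2 → ℂ} (hχ : IsIrrCharacter S2 χ) (hc : Cusp χ) :
    ∃ Χ : GL (Fin 2) F → ℂ, IsIrrCharacter (GL (Fin 2) F) Χ ∧ GL.Cusp Χ ∧ Χ 1 = qq - 1 ∧
      classInner (fun s : S2 => Χ (toG s)) χ ≠ 0 := by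
  classical
  obtain ⟨⟨Χ, hΧ⟩, h⟩ := exists_over toG Matrix.SpecialLinearGroup.toGL_injective hχ
  simp only at h
  have hR : ∀ α, classInner (R α) χ = 0 := fun α => by rw [← classInner_conj_symm, hc α, map_zero]
  have h1 : classInner (fun _ : S2 => (1 : ℂ)) χ = 0 := by
    refine classInner_irr_ne isIrrCharacter_one hχ fun e => ?_
    have := hc 1
    rw [← e, inner_one_R, if_pos rfl] at this
    exact one_ne_zero this
  rcases GL.degree_cases hΧ with ⟨lam, rfl⟩ | ⟨lam, rfl⟩ | ⟨α, β, -, rfl⟩ | ⟨hd, hcusp⟩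
  · exact absurd (by rw [res_linDet]; exact h1) h
  · exact absurd (by rw [res_St, St, classInner_sub_left, hR, h1, sub_zero]) h
  · exact absurd (by rw [res_R]; exact hR _) h
  · exact ⟨Χ, hΧ, hcusp, hd, h⟩

theorem cusp_degree_le {χ : S2 → ℂ} (hχ : IsIrrCharacter S2 χ) (hc : Cusp χ) :
    (χ 1).re ≤ (Fintype.card F : ℝ) - 1 := by
  obtain ⟨Χ, hΧ, -, hd, h⟩ := cusp_over hχ hc
  refine (IsChar.constituent_degree_le (isCharacter_comp toG (IsIrr.isCharacter hΧ)) hχ h).trans ?_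
  simp [map_one, hd]

/-- A cuspidal character of full degree is the restriction of one of GL(2, F). -/
theorem cusp_full {χ : S2 → ℂ} (hχ : IsIrrCharacter S2 χ) (hc : Cusp χ) (hd : χ 1 = qq - 1) :
    ∃ Χ : GL (Fin 2) F → ℂ, IsIrrCharacter (GL (Fin 2) F) Χ ∧ GL.Cusp Χ ∧ χ = fun s => Χ (toG s) := by
  obtain ⟨Χ, hΧ, hΧc, hd', h⟩ := cusp_over hχ hc
  have hr := IsChar.sub_constituent (isCharacter_comp toG (IsIrr.isCharacter hΧ)) hχ h
  have h0 := (IsChar.eq_zero_iff hr).2 (by simp [map_one, hd, hd'])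
  exact ⟨Χ, hΧ, hΧc, (sub_eq_zero.1 h0).symm⟩

theorem unipotent_square {χ : S2 → ℂ} (hχ : IsClassFunction S2 χ) (c s : F) (hs : s ≠ 0) :
    χ (bEl 1 (s * s * c)) = χ (bEl 1 c) := by
  rw [← hχ (bEl 1 c) (bEl (Units.mk0 s hs) 0)]
  congr 1
  rw [eq_mul_inv_iff_mul_eq]
  refine Subtype.ext ?_
  rw [Matrix.SpecialLinearGroup.coe_mul, Matrix.SpecialLinearGroup.coe_mul, coe_bEl, coe_bEl, coe_bEl]
  ext i j; fin_cases i <;> fin_cases j <;> simp [Matrix.mul_apply, Fin.sum_univ_two]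
  field_simp

theorem sum_unipotent_odd {χ : S2 → ℂ} (hχ : IsClassFunction S2 χ) (h2 : (2 : F) ≠ 0) {ν : F}
    (hν : ¬ IsSquare ν) :
    ∑ e : F, χ (bEl 1 e) = χ 1 + (qq - 1) / 2 * (χ (bEl 1 1) + χ (bEl 1 ν)) := by
  have hF : ringChar F ≠ 2 := fun e => h2 (by
    have := ringChar.spec F 2
    rw [e] at this
    exact_mod_cast this.2 dvd_rfl)
  have hν0 : ν ≠ 0 := fun e => hν (e ▸ IsSquare.zero)
  have hqν : quadraticChar F ν = -1 := quadraticChar_neg_one_iff_not_isSquare.2 hν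
  have hf : ∀ e : F, χ (bEl 1 e) = (if e = 0 then χ 1 - (χ (bEl 1 1) + χ (bEl 1 ν)) / 2 else 0) +
      ((χ (bEl 1 1) + χ (bEl 1 ν)) / 2 + ((quadraticChar F e : ℤ) : ℂ) * ((χ (bEl 1 1) - χ (bEl 1 ν)) / 2)) := by
    intro e
    by_cases he : e = 0
    · subst he
      rw [bEl_one, if_pos rfl, quadraticChar_zero]; push_cast; ring
    rw [if_neg he]
    rcases quadraticChar_dichotomy he with h | h
    · obtain ⟨s, rfl⟩ := (quadraticChar_one_iff_isSquare he).1 h
      have hs : s ≠ 0 := fun e => he (by simp [e])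
      have hsq := unipotent_square hχ 1 s hs
      rw [mul_one] at hsq
      rw [h, hsq]; push_cast; ring
    · have h' : quadraticChar F (e / ν) = 1 := by
        have := congrArg (quadraticChar F) (div_mul_cancel₀ e hν0)
        rw [map_mul, hqν, h] at this
        linarith
      obtain ⟨s, hs⟩ := (quadraticChar_one_iff_isSquare (div_ne_zero he hν0)).1 h'
      have hs0 : s ≠ 0 := fun e' => div_ne_zero he hν0 (by simp [hs, e'])
      rw [h, show e = s * s * ν by rw [← hs, div_mul_cancel₀ e hν0], unipotent_square hχ ν s hs0]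
      push_cast; ring
  rw [Finset.sum_congr rfl fun e _ => hf e]
  simp only [Finset.sum_add_distrib, Finset.sum_ite_eq', Finset.mem_univ, if_true, ← Finset.sum_mul,
    Finset.sum_const, Finset.card_univ, nsmul_eq_mul, ← Int.cast_sum, quadraticChar_sum_zero hF]
  push_cast
  ring

theorem sum_unipotent_even {χ : S2 → ℂ} (hχ : IsClassFunction S2 χ) (h2 : (2 : F) = 0) :
    ∑ e : F, χ (bEl 1 e) = χ 1 + (qq - 1) * χ (bEl 1 1) := by
  rw [← Finset.add_sum_erase _ _ (Finset.mem_univ (0 : F)), bEl_one, Finset.sum_congr rfl (g := fun _ => χ (bEl 1 1))]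
  · rw [Finset.sum_const, Finset.card_erase_of_mem (Finset.mem_univ _), Finset.card_univ, nsmul_eq_mul,
      Nat.cast_sub Fintype.card_pos, Nat.cast_one]
  · intro e he
    obtain ⟨s, rfl⟩ := SL2Class.exists_sq_eq_of_two_eq_zero h2 e
    have hs : s ≠ 0 := fun e => (Finset.mem_erase.1 he).1 (by simp [e])
    have hsq := unipotent_square hχ 1 s hs
    rw [mul_one] at hsq
    exact hsq

theorem cusp_degree {χ : S2 → ℂ} (hχ : IsIrrCharacter S2 χ) (hc : Cusp χ) :
    χ 1 = qq - 1 ∨ ((2 : F) ≠ 0 ∧ 2 * χ 1 = qq - 1) := by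
  have hcl := isClassFunction_of_isIrr hχ
  have hle := cusp_degree_le hχ hc
  have h := cusp_sum_eq_zero hcl hc 1
  have hchar := IsIrr.isCharacter hχ
  obtain ⟨d, hd0, hd⟩ := IsIrr.degree hχ
  have hd' : d + 1 ≤ Fintype.card F := by
    rw [hd, Complex.natCast_re] at hle
    have : ((d + 1 : ℕ) : ℝ) ≤ (Fintype.card F : ℝ) := by push_cast; linarith
    exact_mod_cast this
  by_cases h2 : (2 : F) = 0
  · left
    rw [sum_unipotent_even hcl h2] at h
    have hn : Fintype.card F - 1 ≠ 0 := by have := Fintype.one_lt_card (α := F); omega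
    have hnc : ((Fintype.card F - 1 : ℕ) : ℂ) = qq - 1 := by rw [Nat.cast_sub Fintype.card_pos, Nat.cast_one]
    have hdvd : Fintype.card F - 1 ∣ d := by
      refine nat_dvd_of_isIntegral hn ?_
      have : ((d : ℂ) / ((Fintype.card F - 1 : ℕ) : ℂ)) = -χ (bEl 1 1) := by
        rw [div_eq_iff (Nat.cast_ne_zero.2 hn), hnc]
        rw [hd] at h
        linear_combination h
      rw [this]
      exact (IsChar.isIntegral hchar _).neg
    obtain ⟨m, rfl⟩ := hdvd
    have hm : m = 1 := by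
      rcases Nat.lt_trichotomy m 1 with h' | h' | h'
      · simp [Nat.lt_one_iff.1 h'] at hd0
      · exact h'
      · have := Nat.mul_le_mul_left (Fintype.card F - 1) h'
        omega
    rw [hd, hm, mul_one, hnc]
  · obtain ⟨ν, hν⟩ := SL2Class.exists_nonsquare (F := F) h2
    rw [sum_unipotent_odd hcl h2 hν] at h
    have hodd := SL2Class.card_odd_of_two_ne_zero (F := F) h2
    obtain ⟨k, hk⟩ : ∃ k, Fintype.card F = 2 * k + 1 := ⟨Fintype.card F / 2, by omega⟩
    have hk0 : k ≠ 0 := by have := Fintype.one_lt_card (α := F); omega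
    have hdvd : k ∣ d := by
      refine nat_dvd_of_isIntegral hk0 ?_
      have : ((d : ℂ) / (k : ℂ)) = -(χ (bEl 1 1) + χ (bEl 1 (ν : F))) := by
        rw [div_eq_iff (Nat.cast_ne_zero.2 hk0)]
        rw [hd, hk] at h
        push_cast at h
        linear_combination h
      rw [this]
      exact ((IsChar.isIntegral hchar _).add (IsChar.isIntegral hchar _)).neg
    obtain ⟨m, rfl⟩ := hdvd
    have hm : m = 1 ∨ m = 2 := by
      have h1 : 0 < m := Nat.pos_of_ne_zero fun e => by simp [e] at hd0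
      have h2 : m ≤ 2 := Nat.le_of_mul_le_mul_left (by omega : k * m ≤ k * 2) (Nat.pos_of_ne_zero hk0)
      omega
    rcases hm with rfl | rfl
    · exact Or.inr ⟨h2, by rw [hd, hk]; push_cast; ring⟩
    · exact Or.inl (by rw [hd, hk]; push_cast; ring)

/-- The two constituents of a principal series character of a quadratic character. -/
theorem half {α : MulChar F ℂ} (h2 : α ^ 2 = 1) (h1 : α ≠ 1) {χ : S2 → ℂ} (hχ : IsIrrCharacter S2 χ)
    (h : classInner χ (R α) ≠ 0) :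
    2 * χ 1 = qq + 1 ∧ classInner χ (R α) = 1 ∧ (∀ β, β ≠ α → classInner χ (R β) = 0) ∧
    ∃ χ' : S2 → ℂ, IsIrrCharacter S2 χ' ∧ χ' ≠ χ ∧ R α = χ + χ' ∧ 2 * χ' 1 = qq + 1 ∧
      (∀ ψ : S2 → ℂ, IsIrrCharacter S2 ψ → classInner ψ (R α) ≠ 0 → ψ = χ ∨ ψ = χ') ∧
      ∃ x : GL (Fin 2) F, ∀ g k : S2, toG k = x * toG g * x⁻¹ → χ' k = χ g := by
  classical
  haveI := range_normal (F := F)
  have hinv : α = α⁻¹ := by rwa [pow_two, mul_eq_one_iff_eq_inv] at h2
  have hres : (fun s : S2 => GL.R α 1 (toG s)) = R α := by rw [res_R, inv_one, mul_one]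
  obtain ⟨φ₁, φ₂, i₁, i₂, hne, hsum, x, hx⟩ := two_conj_constituents toG
    Matrix.SpecialLinearGroup.toGL_injective (χ := GL.R α 1) (GL.R_isIrr α 1 h1)
    (by rw [hres, inner_R, if_pos rfl, if_pos hinv]; norm_num)
  rw [hres] at hsum
  have heq : φ₂ 1 = φ₁ 1 := hx 1 1 (by simp)
  have hdeg := congrFun hsum 1
  rw [R_one, Pi.add_apply, heq] at hdeg
  have hmem : ∀ ψ : S2 → ℂ, IsIrrCharacter S2 ψ → classInner ψ (R α) ≠ 0 → ψ = φ₁ ∨ ψ = φ₂ := by
    intro ψ hψ hn
    by_contra hno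
    push Not at hno
    rw [hsum, classInner_add_right, classInner_irr_ne hψ i₁ hno.1, classInner_irr_ne hψ i₂ hno.2, add_zero] at hn
    exact hn rfl
  have hone : classInner χ (R α) = 1 := by
    rcases hmem χ hχ h with rfl | rfl
    · rw [hsum, classInner_add_right, classInner_irr_self i₁, classInner_irr_ne i₁ i₂ hne, add_zero]
    · rw [hsum, classInner_add_right, classInner_irr_self i₂, classInner_irr_ne i₂ i₁ hne.symm, zero_add]
  have hother : ∀ β, β ≠ α → classInner χ (R β) = 0 := by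
    intro β hβ
    have h0 : classInner (φ₁ + φ₂) (R β) = 0 := by
      rw [← hsum, inner_R, if_neg (Ne.symm hβ), if_neg (fun e => hβ (by rw [← inv_inv β, ← e, ← hinv])), add_zero]
    rw [classInner_add_left] at h0
    obtain ⟨a, ha⟩ := classInner_isCharacter_eq_natCast (IsIrr.isCharacter i₁) (R_isCharacter β)
    obtain ⟨b, hb⟩ := classInner_isCharacter_eq_natCast (IsIrr.isCharacter i₂) (R_isCharacter β)
    rw [ha, hb, ← Nat.cast_add, Nat.cast_eq_zero] at h0
    rcases hmem χ hχ h with rfl | rfl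
    · rw [ha, show a = 0 by omega, Nat.cast_zero]
    · rw [hb, show b = 0 by omega, Nat.cast_zero]
  refine ⟨?_, hone, hother, ?_⟩
  · rcases hmem χ hχ h with rfl | rfl
    · linear_combination -hdeg
    · linear_combination 2 * heq - hdeg
  rcases hmem χ hχ h with rfl | rfl
  · exact ⟨φ₂, i₂, hne.symm, hsum, by linear_combination 2 * heq - hdeg, hmem, x, hx⟩
  · refine ⟨φ₁, i₁, hne, by rw [hsum, add_comm], by linear_combination -hdeg,
      fun ψ a b => (hmem ψ a b).symm, x⁻¹, fun g k hgk => (hx k g ?_).symm⟩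
    rw [hgk]; group

theorem irr_cases {χ : S2 → ℂ} (hχ : IsIrrCharacter S2 χ) :
    χ = (fun _ => (1 : ℂ)) ∨ χ = St ∨ (∃ α : MulChar F ℂ, α ^ 2 ≠ 1 ∧ χ = R α) ∨
      (∃ α : MulChar F ℂ, α ^ 2 = 1 ∧ α ≠ 1 ∧ classInner χ (R α) ≠ 0) ∨ Cusp χ := by
  by_cases hc : Cusp χ
  · exact Or.inr (Or.inr (Or.inr (Or.inr hc)))
  unfold Cusp at hc
  push Not at hc
  obtain ⟨α, h⟩ := hc
  by_cases hs : α ^ 2 = 1
  · by_cases h1 : α = 1
    · subst h1
      rw [R_one_eq, classInner_add_right] at h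
      by_cases hc1 : χ = fun _ => (1 : ℂ)
      · exact Or.inl hc1
      · refine Or.inr (Or.inl ?_)
        by_contra hc2
        rw [classInner_irr_ne hχ St_isIrr hc2, classInner_irr_ne hχ isIrrCharacter_one hc1, add_zero] at h
        exact h rfl
    · exact Or.inr (Or.inr (Or.inr (Or.inl ⟨α, hs, h1, h⟩)))
  · refine Or.inr (Or.inr (Or.inl ⟨α, hs, ?_⟩))
    by_contra h2
    exact h (classInner_irr_ne hχ ((R_isIrr_iff α).2 hs) h2)

theorem two_ne_zero_of_sq {α : MulChar F ℂ} (h2 : α ^ 2 = 1) (h1 : α ≠ 1) : (2 : F) ≠ 0 := by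
  intro e
  refine h1 (MulChar.ext fun a => ?_)
  obtain ⟨s, hs⟩ := SL2Class.exists_sq_eq_of_two_eq_zero e (a : F)
  have hsu : IsUnit s := Ne.isUnit fun h => a.ne_zero (by rw [← hs, h, mul_zero])
  rw [← hs, map_mul, ← MulChar.mul_apply, ← pow_two, h2, MulChar.one_apply hsu, MulChar.one_apply (hsu.mul hsu)]

/-- The five kinds of degree. -/
theorem degree_cases {χ : S2 → ℂ} (hχ : IsIrrCharacter S2 χ) :
    (χ 1 = 1 ∧ χ = fun _ => (1 : ℂ)) ∨ (χ 1 = qq ∧ χ = St) ∨
      (χ 1 = qq + 1 ∧ ∃ α : MulChar F ℂ, α ^ 2 ≠ 1 ∧ χ = R α) ∨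
      ((2 : F) ≠ 0 ∧ 2 * χ 1 = qq + 1 ∧ ∃ α : MulChar F ℂ, α ^ 2 = 1 ∧ α ≠ 1 ∧ classInner χ (R α) ≠ 0) ∨
      (χ 1 = qq - 1 ∧ Cusp χ) ∨ ((2 : F) ≠ 0 ∧ 2 * χ 1 = qq - 1 ∧ Cusp χ) := by
  rcases irr_cases hχ with rfl | rfl | ⟨α, hα, rfl⟩ | ⟨α, h2, h1, h⟩ | hc
  · exact Or.inl ⟨rfl, rfl⟩
  · exact Or.inr (Or.inl ⟨St_one, rfl⟩)
  · exact Or.inr (Or.inr (Or.inl ⟨R_one α, α, hα, rfl⟩))
  · exact Or.inr (Or.inr (Or.inr (Or.inl ⟨two_ne_zero_of_sq h2 h1, (half h2 h1 hχ h).1, α, h2, h1, h⟩)))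
  · rcases cusp_degree hχ hc with h | ⟨h2, h⟩
    · exact Or.inr (Or.inr (Or.inr (Or.inr (Or.inl ⟨h, hc⟩))))
    · exact Or.inr (Or.inr (Or.inr (Or.inr (Or.inr ⟨h2, h, hc⟩))))

end SL

end Cfsg.Agent.GL2Rep
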