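import Cfsg.Agent.GL2Rep.SLCount

/-!
Values of the irreducible characters of SL(2, F).
-/

set_option autoImplicit false

namespace Cfsg.Agent.GL2Rep.SL

open Cfsg Cfsg.Agent.Char Matrix

variable {F : Type*} [Field F] [Fintype F] [DecidableEq F] [Fintype (Matrix.SpecialLinearGroup (Fin 2) F)]

local notation "S2" => Matrix.SpecialLinearGroup (Fin 2) F
local notation "qq" => (Fintype.card F : ℂ)
local notation:1024 "↥ₘ" A:1024 => ((A : Matrix.SpecialLinearGroup (Fin 2) F) : Matrix (Fin 2) (Fin 2) F)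

omit [Fintype F] [DecidableEq F] [Fintype (Matrix.SpecialLinearGroup (Fin 2) F)] in
theorem diag_eq_bEl {g : S2} (h01 : (↥ₘ g) 0 1 = 0) (h10 : (↥ₘ g) 1 0 = 0) (ha : (↥ₘ g) 0 0 ^ 2 ≠ 1) :
    ∃ a : Fˣ, (a : F) = (↥ₘ g) 0 0 ∧ (a : F) * a ≠ 1 ∧ g = bEl a 0 := by
  obtain ⟨a, ha1, e⟩ := eq_bEl h10
  exact ⟨a, ha1, by rwa [ha1, ← pow_two], by rwa [h01] at e⟩

theorem diag_value [Fintype (MulChar F ℂ)] {χ : S2 → ℂ} (hχ : IsClassFunction S2 χ) {a : Fˣ}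
    (ha : (a : F) * a ≠ 1) : χ (bEl a 0) = ∑ α : MulChar F ℂ, classInner χ (R α) * α a := by
  have h := sum_eq hχ a
  simp only [apply_bEl_eq hχ ha, Finset.sum_const, Finset.card_univ, nsmul_eq_mul] at h
  exact mul_left_cancel₀ (Nat.cast_ne_zero.2 Fintype.card_ne_zero) h

theorem cusp_diag {χ : S2 → ℂ} (hχ : IsClassFunction S2 χ) (hc : Cusp χ) {g : S2} (h01 : (↥ₘ g) 0 1 = 0)
    (h10 : (↥ₘ g) 1 0 = 0) (ha : (↥ₘ g) 0 0 ^ 2 ≠ 1) : χ g = 0 := by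
  haveI : Fintype (MulChar F ℂ) := Fintype.ofFinite _
  obtain ⟨a, -, ha', rfl⟩ := diag_eq_bEl h01 h10 ha
  rw [diag_value hχ ha']
  simp [hc _]

variable [Fintype (GL (Fin 2) F)]

theorem half_noEigen {α : MulChar F ℂ} (h2 : α ^ 2 = 1) (h1 : α ≠ 1) {χ : S2 → ℂ} (hχ : IsIrrCharacter S2 χ)
    (h : classInner χ (R α) ≠ 0) {g : S2}
    (hg : ∀ (c : F) (v : Fin 2 → F), v ≠ 0 → (↥ₘ g).mulVec v ≠ c • v) : χ g = 0 := by
  obtain ⟨-, -, -, χ', hi', -, hsum, -, -, x, hx⟩ := half h2 h1 hχ h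
  have htwo := two_ne_zero_of_sq h2 h1
  obtain ⟨k, hk⟩ : ∃ k : S2, Matrix.SpecialLinearGroup.toGL k = x * Matrix.SpecialLinearGroup.toGL g * x⁻¹ :=
    (range_normal (F := F)).conj_mem _ ⟨g, rfl⟩ x
  have htr : SL2Class.tr g = SL2Class.tr k := by
    have e := (GL.tr_det_of_isConj (isConj_iff.2 ⟨x, hk.symm⟩)).1
    rw [toGL_eq, toGL_eq, Matrix.trace_fin_two, Matrix.trace_fin_two] at e
    exact e
  have hno := SL2Class.noRoot_iff_noEigen.1 hg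
  have hd := SL2Class.sq_ne_four_of_noRoot htwo hno
  have hc : IsConj g k := SL2Class.isConj_of_tr (SL2Class.nonScalar_of_sq_ne hd)
    (SL2Class.nonScalar_of_sq_ne (htr ▸ hd)) htr (Or.inl hd)
  have e1 := classFun_isConj (isClassFunction_of_isIrr hi') hc
  rw [hx g k hk] at e1
  have e2 := congrFun hsum g
  rw [R_noEigen α g hg, Pi.add_apply, e1] at e2
  exact (mul_eq_zero.1 (show (2 : ℂ) * χ g = 0 by linear_combination -e2)).resolve_left two_ne_zero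

theorem cusp_full_unipotent {χ : S2 → ℂ} (hχ : IsIrrCharacter S2 χ) (hc : Cusp χ) (hd : χ 1 = qq - 1)
    (hq : 2 < Fintype.card F) (u : S2) (hu : ↥ₘ u = !![1, 1; 0, 1]) : χ u = -1 := by
  obtain ⟨Χ, hΧ, hΧc, rfl⟩ := cusp_full hχ hc hd
  have h := GL.cusp_unipotent (isClassFunction_of_isIrr hΧ) hΧc (Matrix.SpecialLinearGroup.toGL u)
    (by rw [toGL_eq, hu])
  simp only [map_one] at hd
  rw [hd] at h
  have hne : qq - 1 ≠ 0 := fun e => by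
    have h' : ((Fintype.card F : ℕ) : ℂ) = ((1 : ℕ) : ℂ) := by rw [Nat.cast_one]; exact sub_eq_zero.1 e
    have := Nat.cast_injective h'
    omega
  exact mul_left_cancel₀ hne (by linear_combination h)

/-- Degree data in natural numbers. -/
theorem nat_cases {χ : S2 → ℂ} (hχ : IsIrrCharacter S2 χ) : ∃ d : ℕ, χ 1 = (d : ℂ) ∧
    ((d = 1 ∧ χ = fun _ => (1 : ℂ)) ∨ (d = Fintype.card F ∧ χ = St) ∨
      (d = Fintype.card F + 1 ∧ ∃ α : MulChar F ℂ, α ^ 2 ≠ 1 ∧ χ = R α) ∨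
      ((2 : F) ≠ 0 ∧ 2 * d = Fintype.card F + 1 ∧ ∃ α : MulChar F ℂ, α ^ 2 = 1 ∧ α ≠ 1 ∧ classInner χ (R α) ≠ 0) ∨
      (d + 1 = Fintype.card F ∧ Cusp χ) ∨ ((2 : F) ≠ 0 ∧ 2 * d + 1 = Fintype.card F ∧ Cusp χ)) := by
  obtain ⟨d, -, hd⟩ := IsIrr.degree hχ
  refine ⟨d, hd, ?_⟩
  have cast : ∀ {a b : ℕ}, (a : ℂ) = (b : ℂ) → a = b := fun h => Nat.cast_injective h
  rcases degree_cases hχ with ⟨e, h⟩ | ⟨e, h⟩ | ⟨e, h⟩ | ⟨h2, e, h⟩ | ⟨e, h⟩ | ⟨h2, e, h⟩ <;> rw [hd] at e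
  · exact Or.inl ⟨cast (by rw [Nat.cast_one]; exact e), h⟩
  · exact Or.inr (Or.inl ⟨cast e, h⟩)
  · exact Or.inr (Or.inr (Or.inl ⟨cast (by push_cast; exact e), h⟩))
  · exact Or.inr (Or.inr (Or.inr (Or.inl ⟨h2, cast (by push_cast; exact e), h⟩)))
  · exact Or.inr (Or.inr (Or.inr (Or.inr (Or.inl ⟨cast (by push_cast; linear_combination e), h⟩))))
  · exact Or.inr (Or.inr (Or.inr (Or.inr (Or.inr ⟨h2, cast (by push_cast; linear_combination e), h⟩))))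

end Cfsg.Agent.GL2Rep.SL
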